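import Cfsg.Agent.Lib.Helper87.GenExtra1
import Cfsg.Agent.Lib.Helper84.ChainStab
import Cfsg.Agent.Lib.Helper91.FrattiniMore
import Cfsg.Agent.Lib.Helper46.OrderCube
import Cfsg.Agent.Lib.Helper54.Dihedral

set_option autoImplicit false

/-! Generalized extraspecial groups with an elementary abelian subgroup of index `p` and an element of
order `p` outside it split as `E × A` (helper87). -/

namespace Cfsg.Agent.Lib.Helper87

open Cfsg.Agent.Lib.Helper84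
open scoped Pointwise

variable {Ω : Type*} [Group Ω] {p : ℕ}

theorem card_sup_of_le_normalizer {H K : Subgroup Ω} (hK : H ≤ Subgroup.normalizer (K : Set Ω))
    (hd : H ⊓ K = ⊥) : Nat.card ↥(H ⊔ K) = Nat.card H * Nat.card K := by
  rw [← Nat.card_prod]
  symm
  apply Nat.card_congr
  refine Equiv.ofBijective (fun w : H × K => (⟨w.1 * w.2,
    mul_mem ((le_sup_left : H ≤ H ⊔ K) w.1.2) ((le_sup_right : K ≤ H ⊔ K) w.2.2)⟩ : ↥(H ⊔ K)))
    ⟨?_, ?_⟩
  · rintro ⟨a, b⟩ ⟨a', b'⟩ hab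
    have h1 : (a : Ω) * b = a' * b' := congrArg Subtype.val hab
    have h2 : (a' : Ω)⁻¹ * a = b' * (b : Ω)⁻¹ := by
      rw [inv_mul_eq_iff_eq_mul, ← mul_assoc, ← h1, mul_inv_cancel_right]
    have h3 : (a' : Ω)⁻¹ * a ∈ H ⊓ K :=
      ⟨H.mul_mem (H.inv_mem a'.2) a.2, h2 ▸ K.mul_mem b'.2 (K.inv_mem b.2)⟩
    rw [hd, Subgroup.mem_bot] at h3
    have h4 : (a : Ω) = a' := (inv_mul_eq_one.1 h3).symm
    have h5 : (b : Ω) = b' := by
      rw [h4] at h1
      exact mul_left_cancel h1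
    exact Prod.ext (Subtype.ext h4) (Subtype.ext h5)
  · rintro ⟨t, ht⟩
    obtain ⟨x, hx, q, hq, rfl⟩ := mem_sup_of_le_normalizer hK ht
    exact ⟨(⟨x, hx⟩, ⟨q, hq⟩), rfl⟩

theorem inf_zpowers_eq_bot [hp : Fact p.Prime] {H : Subgroup Ω} {x : Ω} (hx : x ^ p = 1)
    (hxH : x ∉ H) : H ⊓ Subgroup.zpowers x = ⊥ := by
  rw [eq_bot_iff]
  rintro u ⟨hu1, hu2⟩
  rw [Subgroup.mem_bot]
  by_contra hu
  apply hxH
  have hx1 : x ≠ 1 := fun h => hxH (h ▸ H.one_mem)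
  have hcard : Nat.card (Subgroup.zpowers x) = p := by
    rw [Nat.card_zpowers]; exact orderOf_eq_prime hx hx1
  have h1 : (⟨u, hu2⟩ : Subgroup.zpowers x) ≠ 1 := fun hh => hu (congrArg Subtype.val hh)
  obtain ⟨k, hk⟩ := mem_powers_of_prime_card
    (g' := (⟨x, Subgroup.mem_zpowers x⟩ : Subgroup.zpowers x)) hcard h1
  have : u ^ k = x := congrArg Subtype.val hk
  rw [← this]; exact H.pow_mem hu1 k

theorem exists_compl_elem [hp : Fact p.Prime] {C K : Subgroup Ω} [Finite C]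
    (hab : ∀ a ∈ C, ∀ b ∈ C, a * b = b * a) (hexp : ∀ a ∈ C, a ^ p = 1) :
    ∃ A ≤ C, K ⊓ A = ⊥ ∧ ∀ v ∈ C, ∃ z ∈ K, ∃ a ∈ A, v = z * a := by
  have hc : ∀ x y : C, x * y = y * x := fun x y => Subtype.ext (hab x x.2 y y.2)
  have he : ∀ x : C, x ^ p = 1 := fun x => Subtype.ext (hexp x x.2)
  have hΦ := Cfsg.Agent.Lib.Helper2.frattini_eq_bot_of_elementary hc he
  have : (K.subgroupOf C).Normal :=
    ⟨fun n hn g => by rw [hc g n, mul_inv_cancel_right]; exact hn⟩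
  have : IsMulCommutative (K.subgroupOf C) := ⟨⟨fun a b => Subtype.ext (hc a b)⟩⟩
  obtain ⟨H, hH⟩ := Cfsg.Agent.Lib.Helper91.exists_isComplement'_of_disjoint_frattini
    (K.subgroupOf C) (by rw [hΦ, inf_bot_eq])
  refine ⟨H.map C.subtype, Subgroup.map_subtype_le _, ?_, ?_⟩
  · rw [eq_bot_iff]
    rintro u ⟨hu1, ⟨u', hu', rfl⟩⟩
    have : u' ∈ K.subgroupOf C ⊓ H := ⟨hu1, hu'⟩
    rw [hH.disjoint.eq_bot, Subgroup.mem_bot] at this
    rw [this]; exact Subgroup.one_mem _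
  · intro v hv
    have h0 := (Subgroup.isComplement'_def.1 hH).mul_eq
    have h1 : (⟨v, hv⟩ : C) ∈ ((K.subgroupOf C : Set C) * (H : Set C)) := by rw [h0]; trivial
    obtain ⟨a, ha, b, hb, hab'⟩ := Set.mem_mul.1 h1
    exact ⟨a, ha, b, ⟨b, hb, rfl⟩, (congrArg Subtype.val hab').symm⟩

theorem GE.le_normalizer {P Z : Subgroup Ω} (h : GE p P Z) {N : Subgroup Ω} (hZN : Z ≤ N)
    (hNP : N ≤ P) : P ≤ Subgroup.normalizer (N : Set Ω) := by
  intro x hx
  rw [Subgroup.mem_normalizer_iff]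
  intro n
  constructor
  · intro hn
    have : x * n * x⁻¹ = (x * n * x⁻¹ * n⁻¹) * n := by group
    rw [this]
    exact N.mul_mem (hZN (h.comm_mem x hx n (hNP hn))) hn
  · intro hn
    have h1 := h.comm_mem x⁻¹ (P.inv_mem hx) _ (hNP hn)
    have : n = (x⁻¹ * (x * n * x⁻¹) * x⁻¹⁻¹ * (x * n * x⁻¹)⁻¹) * (x * n * x⁻¹) := by group
    rw [this]
    exact N.mul_mem (hZN h1) hn

theorem GE.structA [hp : Fact p.Prime] {P Z : Subgroup Ω} [Finite P] (h : GE p P Z) {y g : Ω}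
    (hy : y ∈ P) (hg : g ∈ P) (hgy : g * y ≠ y * g)
    (hab : ∀ a ∈ P, ∀ b ∈ P, a * y = y * a → b * y = y * b → a * b = b * a)
    (hexp : ∀ a ∈ P, a * y = y * a → a ^ p = 1) (hgp : g ^ p = 1) :
    ∃ E A : Subgroup Ω, E ≤ P ∧ y ∈ E ∧ g ∈ E ∧ Nat.card E = p ^ 3 ∧
      (∀ a ∈ A, ∀ b ∈ A, a * b = b * a) ∧ (∀ a ∈ A, a ^ p = 1) ∧ Nonempty (↥P ≃* ↥E × ↥A) := by
  classical
  obtain ⟨C, hC⟩ : ∃ C : Subgroup Ω, C = P ⊓ Subgroup.centralizer (P : Set Ω) := ⟨_, rfl⟩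
  have hCmem : ∀ v, v ∈ C ↔ v ∈ P ∧ ∀ x ∈ P, v * x = x * v := by
    intro v
    rw [hC, Subgroup.mem_inf, Subgroup.mem_centralizer_iff]
    constructor
    · rintro ⟨h1, h2⟩
      exact ⟨h1, fun x hx => (h2 x hx).symm⟩
    · rintro ⟨h1, h2⟩
      exact ⟨h1, fun x hx => (h2 x hx).symm⟩
  have hCP : C ≤ P := fun v hv => ((hCmem v).1 hv).1
  have hfC : Finite C := Finite.of_injective _ (Subgroup.inclusion_injective hCP)
  have hyp : y ^ p = 1 := hexp y hy rfl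
  have hdec : ∀ x ∈ P, ∃ k j : ℕ, ∃ v ∈ C, x = g ^ k * (y ^ j * v) := by
    intro x hx
    obtain ⟨k, m, hm, rfl, hmy⟩ := h.exists_decomp hg hy hx hgy
    obtain ⟨j, v, hv, rfl, hvg⟩ := h.exists_decomp hy hg hm (Ne.symm hgy)
    have hvy : v * y = y * v := by
      have : y ^ j * (v * y) = y ^ j * (y * v) := by
        rw [← mul_assoc, hmy, ← mul_assoc, ← mul_assoc, ← pow_succ, ← pow_succ']
      exact mul_left_cancel this
    refine ⟨k, j, v, (hCmem v).2 ⟨hv, fun x' hx' => ?_⟩, rfl⟩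
    obtain ⟨k', m', hm', rfl, hmy'⟩ := h.exists_decomp hg hy hx' hgy
    have h1 : Commute v (g ^ k') := (show Commute v g from hvg).pow_right k'
    have h2 : Commute v m' := hab v hv m' hm' hvy hmy'
    exact h1.mul_right h2
  have hCab : ∀ a ∈ C, ∀ b ∈ C, a * b = b * a := fun a ha b hb =>
    ((hCmem a).1 ha).2 b ((hCmem b).1 hb).1
  have hCexp : ∀ a ∈ C, a ^ p = 1 := fun a ha =>
    hexp a ((hCmem a).1 ha).1 (((hCmem a).1 ha).2 y hy)
  have hZC : Z ≤ C := fun z hz => (hCmem z).2 ⟨h.le hz, fun x hx => h.central z hz x hx⟩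
  obtain ⟨A, hAC, hZA, hCZA⟩ := exists_compl_elem (K := Z) hCab hCexp
  have hyC : y ∉ C := fun hh => hgy (((hCmem y).1 hh).2 g hg).symm
  have hyZ : y ∉ Z := fun hh => hyC (hZC hh)
  obtain ⟨W, hW⟩ : ∃ W : Subgroup Ω, W = Subgroup.zpowers y ⊔ Z := ⟨_, rfl⟩
  obtain ⟨E, hE⟩ : ∃ E : Subgroup Ω, E = Subgroup.zpowers g ⊔ W := ⟨_, rfl⟩
  have hWP : W ≤ P := hW ▸ sup_le (Subgroup.zpowers_le.2 hy) h.le
  have hEP : E ≤ P := hE ▸ sup_le (Subgroup.zpowers_le.2 hg) hWP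
  have hZW : Z ≤ W := hW ▸ le_sup_right
  have hyN : Subgroup.zpowers y ≤ Subgroup.normalizer (Z : Set Ω) :=
    (Subgroup.zpowers_le.2 hy).trans (h.le_normalizer le_rfl h.le)
  have hgN : Subgroup.zpowers g ≤ Subgroup.normalizer (W : Set Ω) :=
    (Subgroup.zpowers_le.2 hg).trans (h.le_normalizer hZW hWP)
  have hWy : W ≤ Subgroup.centralizer {y} := by
    rw [hW]
    refine sup_le (Subgroup.zpowers_le.2 (Subgroup.mem_centralizer_singleton_iff.2 rfl)) ?_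
    intro z hz
    exact Subgroup.mem_centralizer_singleton_iff.2 (h.central z hz y hy)
  have hgy' : g ∉ Subgroup.centralizer {y} := fun hh =>
    hgy (Subgroup.mem_centralizer_singleton_iff.1 hh)
  have hgW : g ∉ W := fun hh => hgy' (hWy hh)
  have hy1 : y ≠ 1 := fun hh => hyZ (hh ▸ Z.one_mem)
  have hg1 : g ≠ 1 := fun hh => hgW (hh ▸ W.one_mem)
  have hcW : Nat.card W = p * p := by
    rw [hW, card_sup_of_le_normalizer hyN (by rw [inf_comm]; exact inf_zpowers_eq_bot hyp hyZ),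
      Nat.card_zpowers, orderOf_eq_prime hyp hy1, h.card]
  have hcE : Nat.card E = p ^ 3 := by
    rw [hE, card_sup_of_le_normalizer hgN (by rw [inf_comm]; exact inf_zpowers_eq_bot hgp hgW),
      Nat.card_zpowers, orderOf_eq_prime hgp hg1, hcW]
    ring
  have hAP : A ≤ P := hAC.trans hCP
  have hEA : E ⊓ A = ⊥ := by
    rw [eq_bot_iff]
    rintro u ⟨hu1, hu2⟩
    rw [Subgroup.mem_bot]
    have hu1' : u ∈ E := hu1
    have hu2' : u ∈ A := hu2
    have huC : u ∈ C := hAC hu2'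
    rw [hE] at hu1'
    obtain ⟨x, hx, w, hw, rfl⟩ := mem_sup_of_le_normalizer hgN hu1'
    have hx1 : x ∈ Subgroup.centralizer {y} ⊓ Subgroup.zpowers g := by
      refine ⟨?_, hx⟩
      have h1 : x * w ∈ Subgroup.centralizer {y} :=
        Subgroup.mem_centralizer_singleton_iff.2 (((hCmem _).1 huC).2 y hy)
      have h2 : x = x * w * w⁻¹ := by group
      rw [h2]
      exact Subgroup.mul_mem _ h1 (Subgroup.inv_mem _ (hWy hw))
    rw [inf_zpowers_eq_bot hgp hgy', Subgroup.mem_bot] at hx1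
    subst hx1
    rw [one_mul] at huC hu2' ⊢
    rw [hW] at hw
    obtain ⟨x, hx, z, hz, rfl⟩ := mem_sup_of_le_normalizer hyN hw
    have hx1 : x ∈ C ⊓ Subgroup.zpowers y := by
      refine ⟨?_, hx⟩
      have h2 : x = x * z * z⁻¹ := by group
      rw [h2]
      exact Subgroup.mul_mem _ huC (Subgroup.inv_mem _ (hZC hz))
    rw [inf_zpowers_eq_bot hyp hyC, Subgroup.mem_bot] at hx1
    subst hx1
    rw [one_mul] at hu2' ⊢
    have : z ∈ Z ⊓ A := ⟨hz, hu2'⟩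
    rwa [hZA, Subgroup.mem_bot] at this
  let f : ↥E × ↥A →* ↥P := MonoidHom.noncommCoprod (Subgroup.inclusion hEP)
    (Subgroup.inclusion hAP) (fun e a => Subtype.ext (((hCmem _).1 (hAC a.2)).2 e (hEP e.2)).symm)
  have hf : ∀ w : ↥E × ↥A, ((f w : P) : Ω) = (w.1 : Ω) * (w.2 : Ω) := fun w => rfl
  have hinj : Function.Injective f := by
    rw [injective_iff_map_eq_one]
    rintro ⟨e, a⟩ hea
    have h1 : (e : Ω) * (a : Ω) = 1 := congrArg (fun w : P => (w : Ω)) hea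
    have h2 : (e : Ω) = (a : Ω)⁻¹ := eq_inv_of_mul_eq_one_left h1
    have h3 : (e : Ω) ∈ E ⊓ A := ⟨e.2, h2 ▸ A.inv_mem a.2⟩
    rw [hEA, Subgroup.mem_bot] at h3
    have h4 : (a : Ω) = 1 := by rwa [h3, one_mul] at h1
    exact Prod.ext (Subtype.ext h3) (Subtype.ext h4)
  have hsurj : Function.Surjective f := by
    rintro ⟨x, hx⟩
    obtain ⟨k, j, v, hv, rfl⟩ := hdec x hx
    obtain ⟨z, hz, a, ha, rfl⟩ := hCZA v hv
    have he : g ^ k * (y ^ j * z) ∈ E := by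
      rw [hE]
      refine Subgroup.mul_mem _ (le_sup_left (a := Subgroup.zpowers g)
        (Subgroup.pow_mem _ (Subgroup.mem_zpowers g) k)) (le_sup_right (a := Subgroup.zpowers g) ?_)
      rw [hW]
      exact Subgroup.mul_mem _ (le_sup_left (a := Subgroup.zpowers y)
        (Subgroup.pow_mem _ (Subgroup.mem_zpowers y) j)) (le_sup_right (a := Subgroup.zpowers y) hz)
    refine ⟨(⟨_, he⟩, ⟨a, ha⟩), Subtype.ext ?_⟩
    rw [hf]
    simp only [mul_assoc]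
  refine ⟨E, A, hEP, ?_, ?_, hcE, fun a ha b hb => hCab a (hAC ha) b (hAC hb),
    fun a ha => hCexp a (hAC ha), ⟨(MulEquiv.ofBijective f ⟨hinj, hsurj⟩).symm⟩⟩
  · rw [hE, hW]
    exact le_sup_right (a := Subgroup.zpowers g)
      (le_sup_left (a := Subgroup.zpowers y) (Subgroup.mem_zpowers y))
  · rw [hE]
    exact le_sup_left (a := Subgroup.zpowers g) (Subgroup.mem_zpowers g)

theorem exists_type0 (N : Type*) [Group N] [Finite N] :
    ∃ (X : Type) (_ : Group X), Nonempty (N ≃* X) := by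
  let e : N ≃ {i : ℕ // i < Nat.card N} := (Finite.equivFin N).trans Fin.equivSubtype
  let _ : Group {i : ℕ // i < Nat.card N} := e.symm.group
  exact ⟨{i : ℕ // i < Nat.card N}, inferInstance, ⟨(e.symm.mulEquiv).symm⟩⟩

theorem exists_type0_comm (N : Type*) [Group N] [Finite N] (hc : ∀ a b : N, a * b = b * a) :
    ∃ (X : Type) (_ : CommGroup X), Nonempty (N ≃* X) := by
  obtain ⟨X, hX, ⟨e⟩⟩ := exists_type0 N
  refine ⟨X, { hX with mul_comm := fun a b => ?_ }, ⟨e⟩⟩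
  obtain ⟨a, rfl⟩ := e.surjective a
  obtain ⟨b, rfl⟩ := e.surjective b
  rw [← map_mul, hc, map_mul]

theorem GE.caseA_odd [hp : Fact p.Prime] {P Z : Subgroup Ω} [Finite P] (h : GE p P Z)
    (hodd : p ≠ 2) {y g : Ω} (hy : y ∈ P) (hg : g ∈ P) (hgy : g * y ≠ y * g)
    (hab : ∀ a ∈ P, ∀ b ∈ P, a * y = y * a → b * y = y * b → a * b = b * a)
    (hexp : ∀ a ∈ P, a * y = y * a → a ^ p = 1) (hgp : g ^ p = 1) :
    ∃ (E : Type) (_ : Group E) (A : Type) (_ : CommGroup A), Cfsg.IsExtraspecial p E ∧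
      Nat.card E = p ^ 3 ∧ Monoid.exponent E = p ∧ (∀ a : A, a ^ p = 1) ∧
      Nonempty (↥P ≃* E × A) := by
  obtain ⟨E, A, hEP, hyE, hgE, hcE, hAab, hAexp, ⟨φ⟩⟩ := h.structA hy hg hgy hab hexp hgp
  have hfE : Finite E := Finite.of_injective _ (Subgroup.inclusion_injective hEP)
  have hfEA : Finite (↥E × ↥A) := Finite.of_equiv P φ.toEquiv
  have hfA : Finite A := Finite.prod_right ↥E
  have hPexp : ∀ x ∈ P, x ^ p = 1 := by
    intro x hx
    obtain ⟨k, m, hm, rfl, hmy⟩ := h.exists_decomp hg hy hx hgy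
    rw [h.mul_pow_p hodd (P.pow_mem hg k) hm, hexp m hm hmy, ← pow_mul, mul_comm, pow_mul, hgp,
      one_pow, one_mul]
  obtain ⟨E', hE', ⟨e⟩⟩ := exists_type0 E
  obtain ⟨A', hA', ⟨a⟩⟩ := exists_type0_comm A (fun x y => Subtype.ext (hAab x x.2 y y.2))
  have hc' : Nat.card E' = p ^ 3 := by rw [← hcE]; exact (Nat.card_congr e.toEquiv).symm
  have hexp' : ∀ x : E', x ^ p = 1 := by
    intro x
    obtain ⟨x, rfl⟩ := e.surjective x
    rw [← map_pow, show x ^ p = 1 from Subtype.ext (hPexp x (hEP x.2)), map_one]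
  have hnc : ∃ x y : E', x * y ≠ y * x := ⟨e ⟨g, hgE⟩, e ⟨y, hyE⟩, fun hh => hgy (by
      rw [← map_mul, ← map_mul] at hh
      exact congrArg Subtype.val (e.injective hh))⟩
  have hnt : Nontrivial E' := by
    obtain ⟨x, y, hxy⟩ := hnc
    refine ⟨x, y, ?_⟩
    rintro rfl
    exact hxy rfl
  refine ⟨E', hE', A', hA', Cfsg.Agent.Lib.Helper46.OrderCube.isExtraspecial_of_exponent hc' hnc hexp',
    hc', Cfsg.Agent.Lib.Helper46.OrderCube.exponent_eq hnt hexp', ?_,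
    ⟨φ.trans (MulEquiv.prodCongr e a)⟩⟩
  intro x
  obtain ⟨x, rfl⟩ := a.surjective x
  rw [← map_pow, show x ^ p = 1 from Subtype.ext (hAexp x x.2), map_one]

theorem GE.caseA_two {P Z : Subgroup Ω} [Finite P] (h : GE 2 P Z)
    {y g : Ω} (hy : y ∈ P) (hg : g ∈ P) (hgy : g * y ≠ y * g)
    (hab : ∀ a ∈ P, ∀ b ∈ P, a * y = y * a → b * y = y * b → a * b = b * a)
    (hexp : ∀ a ∈ P, a * y = y * a → a ^ 2 = 1) (hgp : g ^ 2 = 1) :
    ∃ (A : Type) (_ : CommGroup A), (∀ a : A, a ^ 2 = 1) ∧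
      Nonempty (↥P ≃* DihedralGroup 4 × A) := by
  have : Fact (Nat.Prime 2) := ⟨Nat.prime_two⟩
  obtain ⟨E, A, hEP, hyE, hgE, hcE, hAab, hAexp, ⟨φ⟩⟩ := h.structA hy hg hgy hab hexp hgp
  have hfE : Finite E := Finite.of_injective _ (Subgroup.inclusion_injective hEP)
  have hfEA : Finite (↥E × ↥A) := Finite.of_equiv P φ.toEquiv
  have hfA : Finite A := Finite.prod_right ↥E
  have hy2 : y ^ 2 = 1 := hexp y hy rfl
  have hyi : y⁻¹ = y := by
    rw [inv_eq_iff_mul_eq_one, ← sq, hy2]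
  have hgi : g⁻¹ = g := by
    rw [inv_eq_iff_mul_eq_one, ← sq, hgp]
  have hsq : (y * g) ^ 2 = y * g * y⁻¹ * g⁻¹ := by
    rw [hyi, hgi, sq]
    simp only [mul_assoc]
  have hne : (y * g) ^ 2 ≠ 1 := by
    rw [hsq]
    intro hh
    have := comm_eq' y g
    rw [hh, one_mul] at this
    exact hgy this.symm
  have h4 : (y * g) ^ 4 = 1 := by
    have : (y * g) ^ 4 = ((y * g) ^ 2) ^ 2 := by rw [← pow_mul]
    rw [this, hsq]
    exact h.pow_p (h.comm_mem y hy g hg)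
  have hygE : y * g ∈ E := E.mul_mem hyE hgE
  have hord : orderOf (⟨y * g, hygE⟩ : E) = 4 := by
    have := orderOf_eq_prime_pow (p := 2) (n := 1) (x := (⟨y * g, hygE⟩ : E))
      (fun hh => hne (by simpa using congrArg (fun w : E => (w : Ω)) hh))
      (Subtype.ext (by simpa using h4))
    simpa using this
  obtain ⟨d⟩ := Cfsg.Agent.Lib.Helper54.nonempty_mulEquiv_dihedralGroup (S := E) 4
    ⟨y * g, hygE⟩ ⟨g, hgE⟩ hord (Subtype.ext (by simpa [sq] using hgp))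
    (Subtype.ext (by
      show g * (y * g) * g⁻¹ = (y * g)⁻¹
      rw [mul_inv_rev, hyi, hgi, mul_assoc, mul_assoc, ← sq, hgp, mul_one]))
    (by
      intro hh
      obtain ⟨k, hk⟩ := Subgroup.mem_zpowers_iff.1 hh
      have h1 : (y * g) ^ k = g := by simpa using congrArg (fun w : E => (w : Ω)) hk
      have h2 : Commute (y * g) g := by
        have h0 := (Commute.refl (y * g)).zpow_right k
        rwa [h1] at h0
      have h3 : y * g * g = g * (y * g) := h2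
      rw [← mul_assoc] at h3
      exact hgy (mul_right_cancel h3).symm)
    (by rw [hcE]; norm_num)
  obtain ⟨A', hA', ⟨a⟩⟩ := exists_type0_comm A (fun x y => Subtype.ext (hAab x x.2 y y.2))
  refine ⟨A', hA', ?_, ⟨φ.trans (MulEquiv.prodCongr d a)⟩⟩
  intro x
  obtain ⟨x, rfl⟩ := a.surjective x
  rw [← map_pow, show x ^ 2 = 1 from Subtype.ext (hAexp x x.2), map_one]

end Cfsg.Agent.Lib.Helper87
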