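import Cfsg.Agent.Lib.Helper87.Transv3

set_option autoImplicit false

/-! Structure of a group `G` of automorphisms of an abelian `p`-group containing a non-normal
transvection subgroup, and versions of the results for groups that are commutative only by
hypothesis (helper87). -/

namespace Cfsg.Agent.Lib.Helper87

open Cfsg.Agent.Lib.Helper84 Cfsg.Agent.Lib.Helper88

section comm

variable {E : Type*} [CommGroup E] {p : ℕ}

theorem tv_structure [hp : Fact p.Prime] [Finite E] (hE : IsPGroup p E) (G : Subgroup (MulAut E))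
    (hdich : ∀ s ∈ G, ∀ v ∈ G, IsTv p s → IsTv p v → IsPGroup p (Subgroup.closure {s, v}) →
      v ∈ Subgroup.zpowers s)
    {t : MulAut E} (htG : t ∈ G) (ht : IsTv p t) (hnn : ∃ g ∈ G, g * t * g⁻¹ ∉ Subgroup.zpowers t) :
    ∃ (e₁ e₂ : E) (D : Subgroup E) (u : MulAut E), u ∈ G ∧ TvData p t u e₁ e₂ D ∧
      (∀ v ∈ G, IsTv p v → v ∈ Subgroup.closure {t, u}) ∧
      (∀ g ∈ G, ∀ d ∈ D, g d ∈ D) ∧ (∀ g ∈ G, ∀ w ∈ tvW e₁ e₂, g w ∈ tvW e₁ e₂) ∧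
      (∀ g ∈ G, ∃ h ∈ Subgroup.closure {t, u}, (h⁻¹ * g) e₁ = e₁ ∧
        (h⁻¹ * g) * t * (h⁻¹ * g)⁻¹ ∈ Subgroup.zpowers t) := by
  obtain ⟨g₀, hg₀, hg₀t⟩ := hnn
  have hu₀G : g₀ * t * g₀⁻¹ ∈ G := G.mul_mem (G.mul_mem hg₀ htG) (G.inv_mem hg₀)
  have hu₀ : IsTv p (g₀ * t * g₀⁻¹) := ht.conj g₀
  have hnp : ¬ IsPGroup p (Subgroup.closure {t, g₀ * t * g₀⁻¹}) :=
    fun h => hg₀t (hdich t htG _ hu₀G ht hu₀ h)
  obtain ⟨k, e₁, e₂, hk, -, -, hd⟩ := exists_tvData hE ht hu₀ hnp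
  have huG : (g₀ * t * g₀⁻¹) ^ k ∈ G := G.pow_mem hu₀G k
  have hu : IsTv p ((g₀ * t * g₀⁻¹) ^ k) := hu₀.pow hk
  generalize (g₀ * t * g₀⁻¹) ^ k = u at hd huG hu
  generalize (cm t).ker ⊓ (cm (g₀ * t * g₀⁻¹)).ker = D at hd
  have hLG : Subgroup.closure {t, u} ≤ G := by
    rw [Subgroup.closure_le]
    rintro x (rfl | rfl)
    · exact htG
    · exact huG
  have key : ∀ v ∈ G, IsTv p v → v ∈ Subgroup.closure {t, u} := by
    intro v hvG hv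
    exact hd.third hE ht hv (fun s hs hs' hP => hdich s (hLG hs) v hvG hs' hv hP)
  have hconj : ∀ g ∈ G, ∀ v ∈ G, IsTv p v → g * v * g⁻¹ ∈ Subgroup.closure {t, u} := by
    intro g hg v hv hv'
    exact key _ (G.mul_mem (G.mul_mem hg hv) (G.inv_mem hg)) (hv'.conj g)
  have hWgen : ∀ g ∈ G, g e₁ ∈ tvW e₁ e₂ ∧ g e₂ ∈ tvW e₁ e₂ := by
    intro g hg
    constructor
    · have h1 := hd.cm_mem_tvW (hconj g hg t htG ht) (g e₂)
      rw [IsTv.cm_conj, MulAut.inv_apply_self, cm_apply, hd.t2, inv_mul_cancel_left] at h1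
      exact h1
    · have h1 := hd.cm_mem_tvW (hconj g hg u huG hu) (g e₁)
      rw [IsTv.cm_conj, MulAut.inv_apply_self, cm_apply, hd.u1, inv_mul_cancel_left] at h1
      exact h1
  refine ⟨e₁, e₂, D, u, huG, hd, key, ?_, ?_, ?_⟩
  · intro g hg d hdD
    rw [hd.mem_D_iff]
    have hfix : ∀ v ∈ G, IsTv p v → v (g d) = g d := by
      intro v hv hv'
      have h1 := hd.fix_D (hconj g⁻¹ (G.inv_mem hg) v hv hv') d hdD
      rw [inv_inv, MulAut.mul_apply, MulAut.mul_apply] at h1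
      have h2 := congrArg g h1
      rwa [MulAut.apply_inv_self] at h2
    exact ⟨hfix t htG ht, hfix u huG hu⟩
  · intro g hg w hw
    obtain ⟨i, j, rfl⟩ := (hd.mem_tvW_iff w).1 hw
    rw [map_mul, map_pow, map_pow]
    exact Subgroup.mul_mem _ (Subgroup.pow_mem _ (hWgen g hg).1 _)
      (Subgroup.pow_mem _ (hWgen g hg).2 _)
  · intro g hg
    obtain ⟨i, j, hij⟩ := (hd.mem_tvW_iff _).1 (hWgen g hg).1
    have hne : ¬ (p ∣ i ∧ p ∣ j) := by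
      rintro ⟨hi, hj⟩
      rw [pow_eq_one_of_dvd hd.e1_pow hi, pow_eq_one_of_dvd hd.e2_pow hj, mul_one] at hij
      apply hd.e1_ne
      apply g.injective
      rw [hij, map_one]
    obtain ⟨h, hh, hhe⟩ := hd.trans hne
    have hn1 : (h⁻¹ * g) e₁ = e₁ := by
      rw [MulAut.mul_apply, hij, ← hhe, MulAut.inv_apply_self]
    refine ⟨h, hh, hn1, ?_⟩
    have hnG : h⁻¹ * g ∈ G := G.mul_mem (G.inv_mem (hLG hh)) hg
    have hsG : (h⁻¹ * g) * t * (h⁻¹ * g)⁻¹ ∈ G := G.mul_mem (G.mul_mem hnG htG) (G.inv_mem hnG)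
    have hs := ht.conj (h⁻¹ * g)
    apply hdich t htG _ hsG ht hs
    apply isPGroup_closure_pair hE ht hs hd.e1_mem hd.e1_ne
    have hn2 : (h⁻¹ * g)⁻¹ e₁ = e₁ := by
      apply (h⁻¹ * g).injective
      rw [MulAut.apply_inv_self, hn1]
    rw [MulAut.mul_apply, MulAut.mul_apply, hn2, hd.t1, hn1]

end comm

section grp

variable {E : Type*} [Group E] {p : ℕ}

/-- A pair of transvections not generating a `p`-group has a normal form. -/
theorem exists_tvData' [hp : Fact p.Prime] [Finite E] (hcomm : ∀ a b : E, a * b = b * a)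
    (hE : IsPGroup p E) {t u : MulAut E} (ht : IsTvG p t) (hu : IsTvG p u)
    (hnp : ¬ IsPGroup p (Subgroup.closure {t, u})) :
    ∃ (k : ℕ) (e₁ e₂ : E) (D : Subgroup E), ¬ p ∣ k ∧ TvData p t (u ^ k) e₁ e₂ D := by
  letI : CommGroup E := { (inferInstance : Group E) with mul_comm := hcomm }
  obtain ⟨k, e₁, e₂, hk, -, -, h⟩ := exists_tvData hE (isTv_iff_isTvG.2 ht) (isTv_iff_isTvG.2 hu) hnp
  exact ⟨k, e₁, e₂, _, hk, h⟩

theorem TvData.torus' [hp : Fact p.Prime] (hcomm : ∀ a b : E, a * b = b * a) {t u : MulAut E}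
    {e₁ e₂ : E} {D : Subgroup E} (h : TvData p t u e₁ e₂ D) {l : ℕ} (hl : ¬ p ∣ l) :
    ∃ τ ∈ Subgroup.closure {t, u}, ∃ c μ : ℕ, l * μ ≡ 1 [MOD p] ∧
      (∀ a b : ℕ, τ (e₁ ^ a * e₂ ^ b) = e₁ ^ (l * a + c * b) * e₂ ^ (μ * b)) ∧
      (∀ d ∈ D, τ d = d) ∧ τ * t = t ^ (l * l) * τ := by
  letI : CommGroup E := { (inferInstance : Group E) with mul_comm := hcomm }
  obtain ⟨τ, hτ, c, μ, h1, h2⟩ := TvData.torus h hl
  exact ⟨τ, hτ, c, μ, h1, h2, TvData.fix_D h hτ, TvData.torus_conj h h1 h2 (TvData.fix_D h hτ)⟩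

theorem TvData.t_fix_iff' [hp : Fact p.Prime] (hcomm : ∀ a b : E, a * b = b * a) {t u : MulAut E}
    {e₁ e₂ : E} {D : Subgroup E} (h : TvData p t u e₁ e₂ D) (x : E) :
    t x = x ↔ ∃ i : ℕ, ∃ d ∈ D, x = e₁ ^ i * d := by
  letI : CommGroup E := { (inferInstance : Group E) with mul_comm := hcomm }
  exact TvData.t_fix_iff h x

theorem TvData.mem_tvW_iff' [hp : Fact p.Prime] (hcomm : ∀ a b : E, a * b = b * a) {t u : MulAut E}
    {e₁ e₂ : E} {D : Subgroup E} (h : TvData p t u e₁ e₂ D) (x : E) :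
    x ∈ tvW e₁ e₂ ↔ ∃ i j : ℕ, x = e₁ ^ i * e₂ ^ j := by
  letI : CommGroup E := { (inferInstance : Group E) with mul_comm := hcomm }
  exact TvData.mem_tvW_iff h x

theorem IsTvG.pow_p (hcomm : ∀ a b : E, a * b = b * a) {t : MulAut E} (h : IsTvG p t) :
    t ^ p = 1 := by
  letI : CommGroup E := { (inferInstance : Group E) with mul_comm := hcomm }
  exact IsTv.pow_p (isTv_iff_isTvG.2 h)

theorem IsTvG.ne_one [hp : Fact p.Prime] {t : MulAut E} (h : IsTvG p t) : t ≠ 1 := by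
  rintro rfl
  obtain ⟨⟨C, hC, hCi⟩, -⟩ := h
  have : C = ⊤ := by
    rw [eq_top_iff]
    intro x _
    rw [hC]
    rfl
  rw [this, Subgroup.index_top] at hCi
  exact hp.out.one_lt.ne hCi

theorem IsTvG.orderOf_eq [hp : Fact p.Prime] (hcomm : ∀ a b : E, a * b = b * a) {t : MulAut E}
    (h : IsTvG p t) : orderOf t = p := by
  rcases (Nat.dvd_prime hp.out).1 (orderOf_dvd_of_pow_eq_one (h.pow_p hcomm)) with h2 | h2
  · exact absurd (orderOf_eq_one_iff.1 h2) h.ne_one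
  · exact h2

theorem TvData.cm_t' {t u : MulAut E} (hcomm : ∀ a b : E, a * b = b * a)
    {e₁ e₂ : E} {D : Subgroup E} (h : TvData p t u e₁ e₂ D) (x : E) :
    ∃ j : ℕ, x⁻¹ * t x = e₁ ^ j := by
  obtain ⟨i, j, d, hd, rfl⟩ := h.span x
  refine ⟨j, ?_⟩
  have h1 : t (e₁ ^ i * e₂ ^ j * d) = (e₁ ^ i * e₂ ^ j * d) * e₁ ^ j := by
    rw [map_mul, map_mul, map_pow, map_pow, h.t1, h.t2, h.tD d hd]
    have h2 : (e₂ * e₁) ^ j = e₂ ^ j * e₁ ^ j := (show Commute e₂ e₁ from hcomm _ _).mul_pow j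
    rw [h2, mul_assoc (e₁ ^ i * e₂ ^ j) d, hcomm d, mul_assoc, mul_assoc, mul_assoc]
  rw [h1, inv_mul_cancel_left]

theorem tv_structure' [hp : Fact p.Prime] [Finite E] (hcomm : ∀ a b : E, a * b = b * a)
    (hE : IsPGroup p E) (G : Subgroup (MulAut E))
    (hdich : ∀ s ∈ G, ∀ v ∈ G, IsTvG p s → IsTvG p v → IsPGroup p (Subgroup.closure {s, v}) →
      v ∈ Subgroup.zpowers s)
    {t : MulAut E} (htG : t ∈ G) (ht : IsTvG p t)
    (hnn : ∃ g ∈ G, g * t * g⁻¹ ∉ Subgroup.zpowers t) :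
    ∃ (e₁ e₂ : E) (D : Subgroup E) (u : MulAut E), u ∈ G ∧ TvData p t u e₁ e₂ D ∧
      (∀ g ∈ G, ∀ d ∈ D, g d ∈ D) ∧ (∀ g ∈ G, ∀ w ∈ tvW e₁ e₂, g w ∈ tvW e₁ e₂) ∧
      (∀ g ∈ G, ∃ h ∈ G, (∀ d ∈ D, h d = d) ∧ (∀ x, x⁻¹ * h x ∈ tvW e₁ e₂) ∧ (h⁻¹ * g) e₁ = e₁ ∧
        (h⁻¹ * g) * t * (h⁻¹ * g)⁻¹ ∈ Subgroup.zpowers t) := by
  letI : CommGroup E := { (inferInstance : Group E) with mul_comm := hcomm }
  obtain ⟨e₁, e₂, D, u, huG, hd, -, h1, h2, h3⟩ := tv_structure hE G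
    (fun s hs v hv hs' hv' => hdich s hs v hv (isTv_iff_isTvG.1 hs') (isTv_iff_isTvG.1 hv'))
    htG (isTv_iff_isTvG.2 ht) hnn
  refine ⟨e₁, e₂, D, u, huG, hd, h1, h2, fun g hg => ?_⟩
  obtain ⟨h, hh, h4, h5⟩ := h3 g hg
  have hLG : Subgroup.closure {t, u} ≤ G := by
    rw [Subgroup.closure_le]
    rintro x (rfl | rfl)
    · exact htG
    · exact huG
  exact ⟨h, hLG hh, TvData.fix_D hd hh, TvData.cm_mem_tvW hd hh, h4, h5⟩

end grp

end Cfsg.Agent.Lib.Helper87
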