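import Cfsg.Agent.Lib.Helper87.GenExtra1
import Cfsg.Agent.Lib.Helper87.FusUtil
import Cfsg.Agent.Lib.Helper87.Transv4
import Cfsg.Agent.Lib.Helper84.FusionSat2

set_option autoImplicit false

/-! Strongly closed generalized extraspecial subgroups: the case `Ω₁(P)` abelian of index `p`
(helper87). -/

namespace Cfsg.Agent.Lib.Helper87

open Cfsg Cfsg.FusionSystem Cfsg.Agent.Lib.Helper84

variable {Ω : Type*} [Group Ω] {S : Subgroup Ω}

theorem fullyNormalized_of_normal [Finite S] (F : FusionSystem S) {Q : Subgroup Ω} (hQ : Q ≤ S)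
    (hN : S ≤ Subgroup.normalizer (Q : Set Ω)) : F.IsFullyNormalized Q := by
  refine ⟨hQ, fun R _ => ?_⟩
  have h1 : normalizerIn S Q = S := inf_eq_left.2 hN
  rw [h1]
  exact Subgroup.card_le_of_le (normalizerIn_le S R)

/-- The inverse of a map out of a normal subgroup `Z` of `S` extends to the centralizer of the image. -/
theorem exists_inverse_extension [Finite S] {p : ℕ} [Fact p.Prime] (hS : IsPGroup p S)
    {F : FusionSystem S} (hF : F.IsSaturated p) {Z : Subgroup Ω} (hZS : Z ≤ S)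
    (hZN : S ≤ Subgroup.normalizer (Z : Set Ω)) {φ : Z →* Ω} (hφ : φ ∈ F.Hom Z) :
    ∃ ψ ∈ F.Hom (centralizerIn S φ.range),
      ∀ (x : Z) (hx : φ x ∈ centralizerIn S φ.range), ψ ⟨φ x, hx⟩ = x := by
  obtain ⟨-, -, hrec⟩ := sat_fullyNormalized hS hF (fullyNormalized_of_normal F hZS hZN)
  obtain ⟨χ, hχ, hχ'⟩ := exists_extension_of_receptive F hrec (rangeEquiv F hφ).symm
    (mor_rangeEquiv F hφ).symm (centralizerIn_le_normalizerIn S _) (fun g hg => by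
      refine ⟨1, S.one_mem, fun x hx => ?_⟩
      have h1 : g * (x : Ω) * g⁻¹ = x := by
        rw [← (Subgroup.mem_centralizer_iff.1 hg.2) x x.2, mul_inv_cancel_right]
      have h2 : (⟨g * (x : Ω) * g⁻¹, hx⟩ : φ.range) = x := Subtype.ext h1
      rw [h2, one_mul, inv_one, mul_one])
  refine ⟨χ, hχ, fun x hx => ?_⟩
  rw [hχ' (φ x) ⟨x, rfl⟩ hx]
  have h3 : (⟨φ x, ⟨x, rfl⟩⟩ : φ.range) = rangeEquiv F hφ x := Subtype.ext rfl
  rw [h3, MulEquiv.symm_apply_apply]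

theorem IsTvG.conj {E : Type*} [Group E] {p : ℕ} (hcomm : ∀ a b : E, a * b = b * a)
    {t : MulAut E} (h : IsTvG p t) (g : MulAut E) : IsTvG p (g * t * g⁻¹) := by
  let _ : CommGroup E := { (inferInstance : Group E) with mul_comm := hcomm }
  exact isTv_iff_isTvG.1 ((isTv_iff_isTvG.2 h).conj g)

/-- `M = C_P(y) = Ω₁(P)` is elementary abelian. -/
structure GEB (p : ℕ) (P Z M : Subgroup Ω) (y : Ω) : Prop where
  ge : GE p P Z
  mem : ∀ m, m ∈ M ↔ m ∈ P ∧ m * y = y * m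
  yP : y ∈ P
  yZ : y ∉ Z
  ab : ∀ a ∈ M, ∀ b ∈ M, a * b = b * a
  exp : ∀ a ∈ M, a ^ p = 1
  omega : ∀ a ∈ P, a ^ p = 1 → a ∈ M

namespace GEB

variable {p : ℕ} {P Z M : Subgroup Ω} {y : Ω}

theorem le (hb : GEB p P Z M y) : M ≤ P := fun m hm => ((hb.mem m).1 hm).1

theorem Z_le (hb : GEB p P Z M y) : Z ≤ M := fun z hz =>
  (hb.mem z).2 ⟨hb.ge.le hz, hb.ge.central z hz y hb.yP⟩

theorem y_mem (hb : GEB p P Z M y) : y ∈ M := (hb.mem y).2 ⟨hb.yP, rfl⟩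

theorem stronglyClosed {F : FusionSystem S} (hP : F.StronglyClosed P) (hb : GEB p P Z M y) :
    F.StronglyClosed M := by
  refine ⟨hb.le.trans hP.1, fun R hR φ hφ x => ?_⟩
  refine hb.omega _ (hP.2 R (hR.trans hb.le) φ hφ x) ?_
  rw [← map_pow, show x ^ p = 1 from Subtype.ext (hb.exp x (hR x.2)), map_one]

theorem isTvG [hp : Fact p.Prime] (hb : GEB p P Z M y) {g : Ω} (hg : g ∈ P) (hgM : g ∉ M)
    (hgN : g ∈ Subgroup.normalizer (M : Set Ω)) : IsTvG p (conjAut M g hgN) := by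
  have hcomm : ∀ a b : M, a * b = b * a := fun a b => Subtype.ext (hb.ab a a.2 b b.2)
  let _ : CommGroup M := { (inferInstance : Group M) with mul_comm := hcomm }
  apply isTv_iff_isTvG.1
  have hmem : ∀ x : M, ((cm (conjAut M g hgN) x : M) : Ω) ∈ Z := by
    intro x
    have h1 := hb.ge.comm_mem _ (P.inv_mem (hb.le x.2)) g hg
    rw [inv_inv] at h1
    have h2 : ((cm (conjAut M g hgN) x : M) : Ω) = (x : Ω)⁻¹ * g * (x : Ω) * g⁻¹ := by
      rw [cm_apply, Subgroup.coe_mul, conjAut_apply, Subgroup.coe_inv]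
      simp only [mul_assoc]
    rw [h2]
    exact h1
  constructor
  · have hle : (cm (conjAut M g hgN)).range ≤ Z.subgroupOf M := by
      rintro _ ⟨x, rfl⟩
      exact Subgroup.mem_subgroupOf.2 (hmem x)
    have hc : Nat.card (Z.subgroupOf M) = p := by
      rw [← hb.ge.card]
      exact Nat.card_congr (Subgroup.subgroupOfEquivOfLe hb.Z_le).toEquiv
    have hdvd := Subgroup.card_dvd_of_le hle
    rw [hc] at hdvd
    rcases (Nat.dvd_prime hp.out).1 hdvd with h1 | h1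
    · exfalso
      apply hgM
      rw [Subgroup.card_eq_one] at h1
      have h2 : cm (conjAut M g hgN) ⟨y, hb.y_mem⟩ ∈ (cm (conjAut M g hgN)).range := ⟨_, rfl⟩
      rw [h1, Subgroup.mem_bot, cm_eq_one_iff] at h2
      have h3 : g * y * g⁻¹ = y := congrArg (fun w : M => (w : Ω)) h2
      exact (hb.mem g).2 ⟨hg, mul_inv_eq_iff_eq_mul.1 h3⟩
    · exact h1
  · intro x
    ext
    rw [conjAut_apply, ← hb.ge.central _ (hmem x) g hg, mul_inv_cancel_right]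

section fus

variable [Finite S] [hp : Fact p.Prime]

theorem extend (hS : IsPGroup p S) {F : FusionSystem S} (hF : F.IsSaturated p)
    (hP : F.StronglyClosed P) (hb : GEB p P Z M y) {g : Ω} (hg : g ∈ P) (hgM : g ∉ M)
    (hgN : g ∈ Subgroup.normalizer (M : Set Ω)) {β : MulAut M} (hβ : β ∈ F.autGroup M)
    (hβt : β * conjAut M g hgN * β⁻¹ ∈ autInducedBy S M) :
    ∃ χ ∈ F.Hom P, ∀ (x : Ω) (hM : x ∈ M) (hxP : x ∈ P), χ ⟨x, hxP⟩ = (β ⟨x, hM⟩ : Ω) := by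
  have hMsc := hb.stronglyClosed hP
  have hMS := hMsc.1
  obtain ⟨-, -, hrec⟩ := sat_fullyNormalized hS hF
    (fullyNormalized_of_normal F hMS (sc_le_normalizer hMsc))
  have hβF := (mem_autGroup_iff F hMS β).1 hβ
  obtain ⟨ψ, hψ, hψ'⟩ := hrec.2 M _ hβF (range_subtype_comp_equiv β)
  have hgy : g * y ≠ y * g := fun hh => hgM ((hb.mem g).2 ⟨hg, hh⟩)
  have hgE : g ∈ extender S M (M.subtype.comp β.toMonoidHom) := by
    rw [mem_extender_iff]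
    obtain ⟨s, hs, hs'⟩ := (mem_autInducedBy_iff S M _).1 hβt
    refine ⟨hP.1 hg, hgN, s, hs, fun x hx => ?_⟩
    have h1 := hs' (β x)
    rw [MulAut.mul_apply, MulAut.mul_apply, MulAut.inv_apply_self] at h1
    exact h1
  have hle : P ≤ extender S M (M.subtype.comp β.toMonoidHom) := by
    intro x hx
    obtain ⟨k, m, hm, rfl, hmy⟩ := hb.ge.exists_decomp hg hb.yP hx hgy
    exact Subgroup.mul_mem _ (Subgroup.pow_mem _ hgE k)
      (le_extender hMS _ (F.le_of_mem hβF).2 ((hb.mem m).2 ⟨hm, hmy⟩))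
  refine ⟨_, restrict_mem F hψ hle, fun x hM hxP => ?_⟩
  exact hψ' x hM (hle hxP)

theorem map_Z (hS : IsPGroup p S) {F : FusionSystem S} (hF : F.IsSaturated p)
    (hP : F.StronglyClosed P) (hb : GEB p P Z M y) {g : Ω} (hg : g ∈ P) (hgM : g ∉ M)
    (hgN : g ∈ Subgroup.normalizer (M : Set Ω)) {β : MulAut M} (hβ : β ∈ F.autGroup M)
    (hβt : β * conjAut M g hgN * β⁻¹ ∈ autInducedBy S M) (z : M) (hz : (z : Ω) ∈ Z) :
    ((β z : M) : Ω) ∈ Z := by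
  obtain ⟨χ, hχ, hχ'⟩ := hb.extend hS hF hP hg hgM hgN hβ hβt
  obtain ⟨a, ha, b, hb', hne⟩ := hb.ge.ne
  obtain ⟨k, hk⟩ := hb.ge.exists_pow (hb.ge.comm_mem a ha b hb') hne hz
  have hχP : ∀ x : P, χ x ∈ P := fun x => hP.2 P le_rfl χ hχ x
  have h1 : χ (⟨a, ha⟩ * ⟨b, hb'⟩ * ⟨a, ha⟩⁻¹ * ⟨b, hb'⟩⁻¹) ∈ Z := by
    rw [map_mul, map_mul, map_mul, map_inv, map_inv]
    exact hb.ge.comm_mem _ (hχP _) _ (hχP _)
  rw [← hχ' z z.2 (hb.le z.2)]
  have h2 : (⟨(z : Ω), hb.le z.2⟩ : P) = (⟨a, ha⟩ * ⟨b, hb'⟩ * ⟨a, ha⟩⁻¹ * ⟨b, hb'⟩⁻¹) ^ k :=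
    Subtype.ext hk
  rw [h2, map_pow]
  exact Z.pow_mem h1 k

theorem false (hS : IsPGroup p S) {F : FusionSystem S} (hF : F.IsSaturated p)
    (hP : F.StronglyClosed P) (hb : GEB p P Z M y) (hodd : p ≠ 2) {g : Ω} (hg : g ∈ P)
    (hgM : g ∉ M) {α : MulAut M} (hα : α ∈ F.autGroup M)
    (hαy : ((α ⟨y, hb.y_mem⟩ : M) : Ω) ∈ Z) : False := by
  have hMP := hb.le
  have hMsc := hb.stronglyClosed hP
  have hMS := hMsc.1
  have hfM : Finite M := finite_of_le hMS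
  have hfA : Finite (MulAut M) := finite_mulAut_of_le hMS
  have hfG : Finite (F.autGroup M) := finite_autGroup F hMS
  have hcomm : ∀ a b : M, a * b = b * a := fun a b => Subtype.ext (hb.ab a a.2 b b.2)
  have hMp : IsPGroup p M := hS.to_le hMS
  have hgN : g ∈ Subgroup.normalizer (M : Set Ω) := sc_le_normalizer hMsc (hP.1 hg)
  have htS : conjAut M g hgN ∈ autInducedBy S M := conjAut_mem_autInducedBy hgN (hP.1 hg)
  have htG : conjAut M g hgN ∈ F.autGroup M := autInducedBy_le_autGroup F hMS htS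
  have ht : IsTvG p (conjAut M g hgN) := hb.isTvG hg hgM hgN
  have ht' : IsTvG p (α⁻¹ * conjAut M g hgN * α⁻¹⁻¹) := ht.conj hcomm α⁻¹
  have ht'G : α⁻¹ * conjAut M g hgN * α⁻¹⁻¹ ∈ F.autGroup M :=
    Subgroup.mul_mem _ (Subgroup.mul_mem _ (Subgroup.inv_mem _ hα) htG)
      (Subgroup.inv_mem _ (Subgroup.inv_mem _ hα))
  have hy1 : y ≠ 1 := fun hh => hb.yZ (hh ▸ Z.one_mem)
  obtain ⟨-, ⟨-, R, hR⟩, -⟩ := sat_fullyNormalized hS hF
    (fullyNormalized_of_normal F hMS (sc_le_normalizer hMsc))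
  have hnp : ¬ IsPGroup p (Subgroup.closure {conjAut M g hgN, α⁻¹ * conjAut M g hgN * α⁻¹⁻¹}) := by
    intro hU
    have hUle : Subgroup.closure {conjAut M g hgN, α⁻¹ * conjAut M g hgN * α⁻¹⁻¹} ≤
        F.autGroup M := by
      rw [Subgroup.closure_le]
      rintro x (rfl | rfl)
      · exact htG
      · exact ht'G
    obtain ⟨γ, hγ, hγ'⟩ := exists_conj_le_of_sylow R hR hUle hU
    have h1 := hb.map_Z hS hF hP hg hgM hgN hγ
      (hγ' _ (Subgroup.subset_closure (Set.mem_insert _ _)))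
    have h2 := hb.map_Z hS hF hP hg hgM hgN (Subgroup.mul_mem _ hγ (Subgroup.inv_mem _ hα)) (by
      have := hγ' _ (Subgroup.subset_closure (Set.mem_insert_of_mem _ rfl))
      have h0 : γ * α⁻¹ * conjAut M g hgN * (γ * α⁻¹)⁻¹ =
          γ * (α⁻¹ * conjAut M g hgN * α⁻¹⁻¹) * γ⁻¹ := by group
      rw [h0]
      exact this)
    have h3 := h1 _ hαy
    have h4 := h2 _ hαy
    rw [MulAut.mul_apply, MulAut.inv_apply_self] at h4
    have h5 : ((γ (α ⟨y, hb.y_mem⟩) : M) : Ω) ≠ 1 := by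
      intro hh
      have h6 : γ (α ⟨y, hb.y_mem⟩) = 1 := Subtype.ext hh
      rw [map_eq_one_iff _ γ.injective, map_eq_one_iff _ α.injective] at h6
      exact hy1 (congrArg (fun w : M => (w : Ω)) h6)
    obtain ⟨k, hk⟩ := hb.ge.exists_pow h3 h5 h4
    have h6 : γ ⟨y, hb.y_mem⟩ = γ ((α ⟨y, hb.y_mem⟩) ^ k) := by
      rw [map_pow]
      exact Subtype.ext hk
    have h7 := γ.injective h6
    apply hb.yZ
    have h8 : y = ((α ⟨y, hb.y_mem⟩ : M) : Ω) ^ k := congrArg (fun w : M => (w : Ω)) h7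
    rw [h8]
    exact Z.pow_mem hαy k
  obtain ⟨k, e₁, e₂, D, -, hd⟩ := exists_tvData' hcomm hMp ht ht' hnp
  have h2p : ¬ p ∣ 2 := fun hh => hodd ((Nat.prime_dvd_prime_iff_eq hp.out Nat.prime_two).1 hh)
  obtain ⟨τ, hτ, c, μ, -, hact, -, hconj⟩ := hd.torus' hcomm h2p
  have hτG : τ ∈ F.autGroup M := by
    have hle : Subgroup.closure {conjAut M g hgN, (α⁻¹ * conjAut M g hgN * α⁻¹⁻¹) ^ k} ≤
        F.autGroup M := by
      rw [Subgroup.closure_le]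
      rintro x (rfl | rfl)
      · exact htG
      · exact Subgroup.pow_mem _ ht'G k
    exact hle hτ
  have hτt : τ * conjAut M g hgN * τ⁻¹ ∈ autInducedBy S M := by
    rw [hconj, mul_inv_cancel_right]
    exact Subgroup.pow_mem _ htS _
  obtain ⟨χ, hχ, hχ'⟩ := hb.extend hS hF hP hg hgM hgN hτG hτt
  have hχP : ∀ x : P, χ x ∈ P := fun x => hP.2 P le_rfl χ hχ x
  -- the image of `g`
  have hconj' : ∀ m : M, χ ⟨g, hg⟩ * ((τ m : M) : Ω) * (χ ⟨g, hg⟩)⁻¹ =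
      g ^ (2 * 2) * ((τ m : M) : Ω) * (g ^ (2 * 2))⁻¹ := by
    intro m
    have h1 : ((τ (conjAut M g hgN m) : M) : Ω) = χ ⟨g, hg⟩ * ((τ m : M) : Ω) * (χ ⟨g, hg⟩)⁻¹ := by
      rw [← hχ' _ (conjAut M g hgN m).2 (hMP (conjAut M g hgN m).2), ← hχ' _ m.2 (hMP m.2),
        ← map_inv, ← map_mul, ← map_mul]
      rfl
    have h2 : τ (conjAut M g hgN m) = ((conjAut M g hgN) ^ (2 * 2)) (τ m) := by
      rw [← MulAut.mul_apply, hconj, MulAut.mul_apply]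
    rw [← h1, h2, autInducedBy_pow (conjAut_apply M g hgN)]
  have h1 := hconj' (τ⁻¹ ⟨y, hb.y_mem⟩)
  rw [MulAut.apply_inv_self] at h1
  have hm₁P : (g ^ (2 * 2))⁻¹ * χ ⟨g, hg⟩ ∈ P :=
    P.mul_mem (P.inv_mem (P.pow_mem hg _)) (hχP _)
  have hm₁ : (g ^ (2 * 2))⁻¹ * χ ⟨g, hg⟩ ∈ M := by
    refine (hb.mem _).2 ⟨hm₁P, ?_⟩
    have h2 : χ ⟨g, hg⟩ * y = g ^ (2 * 2) * y * (g ^ (2 * 2))⁻¹ * χ ⟨g, hg⟩ := by
      rw [← h1]; group
    rw [mul_assoc, h2]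
    group
  have hgp : (χ ⟨g, hg⟩) ^ p = (g ^ p) ^ (2 * 2) := by
    have h2 : χ ⟨g, hg⟩ = g ^ (2 * 2) * ((g ^ (2 * 2))⁻¹ * χ ⟨g, hg⟩) := by group
    rw [h2, hb.ge.mul_pow_p hodd (P.pow_mem hg _) hm₁P, hb.exp _ hm₁, mul_one, ← pow_mul, ← pow_mul,
      mul_comm]
  have hwZ : g ^ p ∈ Z := hb.ge.pow_mem g hg
  have hw1 : g ^ p ≠ 1 := fun hh => hgM (hb.omega g hg hh)
  have he₁Z : (e₁ : Ω) ∈ Z := by
    have h2 : (e₁ : Ω) = (e₂ : Ω)⁻¹ * g * ((e₂ : Ω)⁻¹)⁻¹ * g⁻¹ := by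
      have h3 : g * (e₂ : Ω) * g⁻¹ = e₂ * e₁ := congrArg (fun w : M => (w : Ω)) hd.t2
      rw [inv_inv, mul_assoc, mul_assoc, ← mul_assoc g, h3, inv_mul_cancel_left]
    rw [h2]
    exact hb.ge.comm_mem _ (P.inv_mem (hMP e₂.2)) g hg
  have he₁1 : (e₁ : Ω) ≠ 1 := fun hh => hd.e1_ne (Subtype.ext hh)
  obtain ⟨j, hj⟩ := hb.ge.exists_pow he₁Z he₁1 hwZ
  have h3 : χ ⟨g ^ p, hb.ge.le hwZ⟩ = (g ^ p) ^ 2 := by
    rw [hχ' _ (hb.Z_le hwZ)]
    have h4 : (⟨g ^ p, hb.Z_le hwZ⟩ : M) = e₁ ^ j * e₂ ^ 0 := by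
      rw [pow_zero, mul_one]
      exact Subtype.ext hj
    rw [h4, hact, mul_zero, mul_zero, add_zero, pow_zero, mul_one, hj, ← pow_mul, mul_comm]
    rfl
  have h4 : χ ⟨g ^ p, hb.ge.le hwZ⟩ = (g ^ p) ^ (2 * 2) := by
    rw [← hgp, ← map_pow]
    rfl
  have h5 : (g ^ p) ^ 2 = 1 := by
    rw [h3, pow_mul] at h4
    have h6 : (g ^ p) ^ 2 * 1 = (g ^ p) ^ 2 * (g ^ p) ^ 2 := by rw [mul_one, ← sq]; exact h4
    exact (mul_left_cancel h6).symm
  have h6 := pow_gcd_eq_one.2 ⟨h5, hb.ge.pow_p hwZ⟩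
  rw [(Nat.coprime_primes Nat.prime_two hp.out).2 (Ne.symm hodd), pow_one] at h6
  exact hw1 h6

end fus

end GEB

end Cfsg.Agent.Lib.Helper87
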