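import Cfsg.Agent.Lib.Helper87.CenIdx
import Cfsg.Agent.Lib.Helper87.Transv4
import Cfsg.Agent.Lib.Helper88.FusAbelian
import Cfsg.Agent.Lib.Lead.Cores

set_option autoImplicit false

/-! Essential subgroups of a saturated fusion system over `S` with `|S : Z(S)| = p²` (helper87). -/

namespace Cfsg.Agent.Lib.Helper87

open Cfsg Cfsg.FusionSystem Cfsg.Agent.Lib.Helper84 Cfsg.Agent.Lib.Helper88 Cfsg.Agent.Lib.Lead

variable {Ω : Type*} [Group Ω] {S : Subgroup Ω}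

theorem exists_pow_of_mem_zpowers' {G : Type*} [Group G] {e y : G} {p : ℕ} (hp : 0 < p)
    (h : e ^ p = 1) (hy : y ∈ Subgroup.zpowers e) : ∃ i : ℕ, y = e ^ i := by
  have hfin : IsOfFinOrder e := isOfFinOrder_iff_pow_eq_one.2 ⟨p, hp, h⟩
  obtain ⟨i, hi⟩ := hfin.mem_powers_iff_mem_zpowers.2 hy
  exact ⟨i, hi.symm⟩

/-- an essential subgroup is proper -/
theorem ess_lt [Finite S] {p : ℕ} [Fact p.Prime] (hS : IsPGroup p S) {F : FusionSystem S}
    (hF : F.IsSaturated p) {Q : Subgroup Ω} (hQ : F.IsEssential p Q) : Q < S := by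
  obtain ⟨hc, hfn, hnorm, Y, hdvd, -, -⟩ := hQ
  refine lt_of_le_of_ne hc.1 ?_
  rintro rfl
  obtain ⟨-, ⟨-, R, hR⟩, -⟩ := sat_fullyNormalized hS hF hfn
  have hfin : Finite (F.autGroup Q) := finite_autGroup F le_rfl
  have h2 : (R : Subgroup (F.autGroup Q)) ≤ (Inn Q).subgroupOf (F.autGroup Q) := by
    rw [hR]
    intro α hα
    obtain ⟨g, hg, hg'⟩ := (mem_autInducedBy_iff Q Q _).1 hα
    refine ⟨⟨g, hg⟩, ?_⟩
    ext x
    exact (hg' x).symm
  have h3 := Subgroup.index_dvd_of_le h2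
  have h4 : p ∣ ((Inn Q).subgroupOf (F.autGroup Q)).index := by
    rw [Subgroup.index_eq_card]; exact hdvd
  exact R.not_dvd_index (h4.trans h3)

theorem ess_mid [Finite S] {p : ℕ} [Fact p.Prime] (hS : IsPGroup p S) {F : FusionSystem S}
    (hF : F.IsSaturated p) {E : Subgroup Ω} (hE : F.IsEssential p E) : CenIdx.Mid S E := by
  have hlt := ess_lt hS hF hE
  have hcen : centralizerIn S E ≤ E := hE.1.2 E (isConj_refl F hlt.le)
  have hZ : ZS S ≤ centralizerIn S E := by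
    intro z hz
    refine ⟨ZS_le S hz, ?_⟩
    show z ∈ Subgroup.centralizer (E : Set Ω)
    rw [Subgroup.mem_centralizer_iff]
    intro e he
    exact (mem_ZS.1 hz).2 e (hlt.le he)
  refine ⟨lt_of_le_of_ne (hZ.trans hcen) ?_, hlt⟩
  intro h
  apply hlt.not_ge
  refine le_trans ?_ hcen
  intro s hs
  refine ⟨hs, ?_⟩
  show s ∈ Subgroup.centralizer (E : Set Ω)
  rw [Subgroup.mem_centralizer_iff]
  intro e he
  rw [← h] at he
  exact ((mem_ZS.1 he).2 s hs).symm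

section tv

variable [Finite S] {p : ℕ} [hp : Fact p.Prime]

/-- Conjugation by `y ∈ S ∖ E` is a transvection of `E`. -/
theorem isTvG_conjAut (h : CenIdx p S) {E : Subgroup Ω} (hE : CenIdx.Mid S E) {y : Ω} (hy : y ∈ S)
    (hyE : y ∉ E) (hyN : y ∈ Subgroup.normalizer (E : Set Ω)) : IsTvG p (conjAut E y hyN) := by
  have hfE : Finite E := finite_of_le hE.ES.le
  have hfZ : Finite (ZS S) := finite_of_le (ZS_le S)
  refine ⟨⟨(ZS S).subgroupOf E, fun x => ?_, ?_⟩, fun x => ?_⟩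
  · rw [Subgroup.mem_subgroupOf]
    constructor
    · intro hx
      ext
      rw [conjAut_apply, CenIdx.comm_of_mem_ZS hx hy, mul_inv_cancel_right]
    · intro hx
      have h1 : y * (x : Ω) * y⁻¹ = x := congrArg (fun z : E => (z : Ω)) hx
      apply hE.mem_ZS_of_comm h hy hyE x.2
      conv_rhs => rw [← h1]
      simp
  · have h1 := Subgroup.relIndex_mul_relIndex ⊥ (ZS S) E bot_le hE.ZE.le
    rw [Subgroup.relIndex_bot_left, Subgroup.relIndex_bot_left, (hE.card h).1, mul_comm] at h1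
    exact Nat.eq_of_mul_eq_mul_right Nat.card_pos h1
  · ext
    have h1 : (x : Ω)⁻¹ * y * ((x : Ω)⁻¹)⁻¹ * y⁻¹ ∈ ZS S :=
      h.comm_mem _ (S.inv_mem (hE.ES.le x.2)) y hy
    rw [inv_inv] at h1
    have h2 : (((x⁻¹ * conjAut E y hyN x : E)) : Ω) = (x : Ω)⁻¹ * y * (x : Ω) * y⁻¹ := by
      rw [Subgroup.coe_mul, conjAut_apply, Subgroup.coe_inv]
      simp only [mul_assoc]
    rw [conjAut_apply, h2, CenIdx.comm_of_mem_ZS h1 hy, mul_inv_cancel_right]

theorem autInducedBy_le_zpowers (h : CenIdx p S) {E : Subgroup Ω} (hE : CenIdx.Mid S E) {y : Ω}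
    (hy : y ∈ S) (hyE : y ∉ E) (hyN : y ∈ Subgroup.normalizer (E : Set Ω)) :
    autInducedBy S E ≤ Subgroup.zpowers (conjAut E y hyN) := by
  intro α hα
  obtain ⟨g, hg, hg'⟩ := (mem_autInducedBy_iff S E α).1 hα
  obtain ⟨k, e, he, rfl⟩ := hE.exists_eq h hy hyE hg
  have : α = (conjAut E y hyN) ^ k := by
    ext x
    rw [hg', autInducedBy_pow (conjAut_apply E y hyN) k x]
    have h1 : e * (x : Ω) * e⁻¹ = x := by
      rw [hE.comm h he x.2, mul_inv_cancel_right]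
    calc y ^ k * e * (x : Ω) * (y ^ k * e)⁻¹ = y ^ k * (e * (x : Ω) * e⁻¹) * (y ^ k)⁻¹ := by group
      _ = _ := by rw [h1]
  rw [this]
  exact Subgroup.pow_mem _ (Subgroup.mem_zpowers _) k

/-- `p`-subgroups of `Aut_F(E)` have order at most `p`. -/
theorem ess_card_le (hS : IsPGroup p S) {F : FusionSystem S} (hF : F.IsSaturated p)
    (h : CenIdx p S) {E : Subgroup Ω} (hE : F.IsEssential p E) {K : Subgroup (MulAut E)}
    (hK : K ≤ F.autGroup E) (hKp : IsPGroup p K) : Nat.card K ≤ p := by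
  have hmid := ess_mid hS hF hE
  obtain ⟨-, ⟨-, R, hR⟩, -⟩ := sat_fullyNormalized hS hF hE.2.1
  obtain ⟨-, y, hy, hyE⟩ := hmid.exists_not_mem
  have hyN := hmid.le_normalizer h hy
  have hfin : Finite (F.autGroup E) := finite_autGroup F hmid.ES.le
  have hfin2 : Finite (MulAut E) := finite_mulAut_of_le hmid.ES.le
  have hcommE : ∀ a b : E, a * b = b * a := fun a b => Subtype.ext (hmid.comm h a.2 b.2)
  have htv := isTvG_conjAut h hmid hy hyE hyN
  have hR1 : Nat.card R ≤ p := by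
    have h1 : Nat.card (R : Subgroup (F.autGroup E)) = Nat.card (autInducedBy S E) := by
      rw [hR]
      exact Nat.card_congr
        (Subgroup.subgroupOfEquivOfLe (autInducedBy_le_autGroup F hmid.ES.le)).toEquiv
    have h2 := Subgroup.card_le_of_le (autInducedBy_le_zpowers h hmid hy hyE hyN)
    rw [Nat.card_zpowers, htv.orderOf_eq hcommE] at h2
    exact h1.le.trans h2
  have hKp' : IsPGroup p (K.subgroupOf (F.autGroup E)) :=
    hKp.comap_of_injective _ (Subgroup.subtype_injective _)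
  obtain ⟨Q, hQ⟩ := hKp'.exists_le_sylow
  have h3 : Nat.card K = Nat.card (K.subgroupOf (F.autGroup E)) :=
    (Nat.card_congr (Subgroup.subgroupOfEquivOfLe hK).toEquiv).symm
  have h4 : Nat.card Q = Nat.card R := by
    rw [Sylow.card_eq_multiplicity, Sylow.card_eq_multiplicity]
  rw [h3]
  exact (Subgroup.card_le_of_le hQ).trans (h4.le.trans hR1)

theorem ess_dich (hS : IsPGroup p S) {F : FusionSystem S} (hF : F.IsSaturated p)
    (h : CenIdx p S) {E : Subgroup Ω} (hE : F.IsEssential p E) :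
    ∀ s ∈ F.autGroup E, ∀ v ∈ F.autGroup E, IsTvG p s → IsTvG p v →
      IsPGroup p (Subgroup.closure {s, v}) → v ∈ Subgroup.zpowers s := by
  intro s hs v hv hs' _ hP
  have hmid := ess_mid hS hF hE
  have hfin2 : Finite (MulAut E) := finite_mulAut_of_le hmid.ES.le
  have hcommE : ∀ a b : E, a * b = b * a := fun a b => Subtype.ext (hmid.comm h a.2 b.2)
  have hK : Subgroup.closure {s, v} ≤ F.autGroup E := by
    rw [Subgroup.closure_le]
    rintro x (rfl | rfl)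
    · exact hs
    · exact hv
  have h1 := ess_card_le hS hF h hE hK hP
  have h2 : Subgroup.zpowers s ≤ Subgroup.closure {s, v} := by
    rw [Subgroup.zpowers_le]
    exact Subgroup.subset_closure (Set.mem_insert _ _)
  have h3 : Subgroup.zpowers s = Subgroup.closure {s, v} := by
    apply Subgroup.eq_of_le_of_card_ge h2
    rw [Nat.card_zpowers, hs'.orderOf_eq hcommE]
    exact h1
  rw [h3]
  exact Subgroup.subset_closure (Set.mem_insert_of_mem _ rfl)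

theorem ess_not_normal (hS : IsPGroup p S) {F : FusionSystem S} (hF : F.IsSaturated p)
    (h : CenIdx p S) {E : Subgroup Ω} (hE : F.IsEssential p E) {y : Ω} (hy : y ∈ S) (hyE : y ∉ E)
    (hyN : y ∈ Subgroup.normalizer (E : Set Ω)) :
    ∃ g ∈ F.autGroup E, g * conjAut E y hyN * g⁻¹ ∉ Subgroup.zpowers (conjAut E y hyN) := by
  by_contra hcon
  push Not at hcon
  have hmid := ess_mid hS hF hE
  have hES := hmid.ES.le
  have hcommE : ∀ a b : E, a * b = b * a := fun a b => Subtype.ext (hmid.comm h a.2 b.2)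
  have htv := isTvG_conjAut h hmid hy hyE hyN
  have htG : conjAut E y hyN ∈ F.autGroup E :=
    autInducedBy_le_autGroup F hES (conjAut_mem_autInducedBy hyN hy)
  have hnorm : ((Subgroup.zpowers (conjAut E y hyN)).subgroupOf (F.autGroup E)).Normal := by
    constructor
    intro n hn g
    rw [Subgroup.mem_subgroupOf] at hn ⊢
    obtain ⟨k, hk⟩ := Subgroup.mem_zpowers_iff.1 hn
    show (g : MulAut E) * (n : MulAut E) * (g : MulAut E)⁻¹ ∈ _
    rw [← hk, ← conj_zpow]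
    exact Subgroup.zpow_mem _ (hcon g g.2) k
  have hp1 : IsPGroup p (Subgroup.zpowers (conjAut E y hyN)) := by
    apply IsPGroup.of_card (n := 1)
    rw [Nat.card_zpowers, htv.orderOf_eq hcommE, pow_one]
  have hle := le_pCore hnorm (hp1.comap_of_injective _ (Subgroup.subtype_injective _))
  have hrad := essential_radical hS F hE
  have hmem : conjAut E y hyN ∈ Inn E := by
    rw [← hrad.2]
    exact ⟨⟨_, htG⟩, hle (Subgroup.mem_subgroupOf.2 (Subgroup.mem_zpowers _)), rfl⟩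
  exact hyE (mem_of_conjAut_mem_inn (hE.1.2 E (isConj_refl F hES)) hy hES hyN hmem)

theorem ess_extend (hS : IsPGroup p S) {F : FusionSystem S} (hF : F.IsSaturated p)
    (h : CenIdx p S) {E : Subgroup Ω} (hE : F.IsEssential p E) {y : Ω} (hy : y ∈ S) (hyE : y ∉ E)
    (hyN : y ∈ Subgroup.normalizer (E : Set Ω)) {n : MulAut E} (hn : n ∈ F.autGroup E)
    (hnt : n * conjAut E y hyN * n⁻¹ ∈ Subgroup.zpowers (conjAut E y hyN)) :
    ∃ β ∈ F.autGroup S, ∀ (x : E) (hxS : (x : Ω) ∈ S), ((β ⟨x, hxS⟩ : S) : Ω) = n x := by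
  have hmid := ess_mid hS hF hE
  obtain ⟨-, -, hrec⟩ := sat_fullyNormalized hS hF hE.2.1
  have hz : Subgroup.zpowers (conjAut E y hyN) ≤ autInducedBy S E := by
    rw [Subgroup.zpowers_le]
    exact conjAut_mem_autInducedBy hyN hy
  obtain ⟨Q, hEQ, φ, hφ, hext⟩ := mem_extSet_of_receptive F hrec hn hy hyN hyE (hz hnt)
  have hQS : Q = S := eq_of_lt_of_card hp.out hEQ (F.le_of_mem hφ).1 (hmid.card h).2
  subst hQS
  obtain ⟨β, hβ, hβ'⟩ := exists_aut_of_hom_top F hφ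
  refine ⟨β, hβ, fun x hxS => ?_⟩
  rw [hβ', ← hext]
  rfl

/-- The structure of an essential subgroup `E = ⟨e₁⟩ × ⟨e₂⟩ × D`. -/
structure EssData (F : FusionSystem S) (p : ℕ) (E : Subgroup Ω) (e₁ e₂ : Ω) (D : Subgroup Ω) :
    Prop where
  e1Z : e₁ ∈ ZS S
  e1_ne : e₁ ≠ 1
  e1_pow : e₁ ^ p = 1
  e2E : e₂ ∈ E
  e2Z : e₂ ∉ ZS S
  e2_pow : e₂ ^ p = 1
  DZ : D ≤ ZS S
  span : ∀ x ∈ E, ∃ i j : ℕ, ∃ d ∈ D, x = e₁ ^ i * e₂ ^ j * d
  indep : ∀ i j : ℕ, ∀ d ∈ D, e₁ ^ i * e₂ ^ j * d = 1 → p ∣ i ∧ p ∣ j ∧ d = 1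
  spanZ : ∀ x ∈ ZS S, ∃ i : ℕ, ∃ d ∈ D, x = e₁ ^ i * d
  comm : ∀ a ∈ S, ∀ b ∈ S, ∃ i : ℕ, a * b * a⁻¹ * b⁻¹ = e₁ ^ i
  e1comm : ∃ a ∈ S, ∃ b ∈ S, e₁ = a * b * a⁻¹ * b⁻¹
  invD : ∀ α ∈ F.autGroup E, ∀ x : E, (x : Ω) ∈ D → ((α x : E) : Ω) ∈ D
  invW : ∀ α ∈ F.autGroup E, ∀ x : E, (∃ i j : ℕ, (x : Ω) = e₁ ^ i * e₂ ^ j) →
    ∃ i j : ℕ, ((α x : E) : Ω) = e₁ ^ i * e₂ ^ j
  frat : ∀ α ∈ F.autGroup E, ∃ h ∈ F.autGroup E, ∃ β ∈ F.autGroup S,
    (∀ x : E, (x : Ω) ∈ D → h x = x) ∧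
      ∀ (x : E) (hxS : (x : Ω) ∈ S), ∃ hx : ((β ⟨x, hxS⟩ : S) : Ω) ∈ E, α x = h ⟨_, hx⟩
  torus : ∀ l : ℕ, ¬ p ∣ l → ∃ τ ∈ F.autGroup S,
    (∀ h1 : e₁ ∈ S, ((τ ⟨e₁, h1⟩ : S) : Ω) = e₁ ^ l) ∧
      ∀ (d : Ω) (_ : d ∈ D) (hdS : d ∈ S), ((τ ⟨d, hdS⟩ : S) : Ω) = d

theorem exists_essData (hS : IsPGroup p S) {F : FusionSystem S} (hF : F.IsSaturated p)
    (h : CenIdx p S) {E : Subgroup Ω} (hE : F.IsEssential p E) :
    ∃ (e₁ e₂ : Ω) (D : Subgroup Ω), EssData F p E e₁ e₂ D := by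
  have hmid := ess_mid hS hF hE
  have hES := hmid.ES.le
  obtain ⟨-, y, hy, hyE⟩ := hmid.exists_not_mem
  have hyN := hmid.le_normalizer h hy
  have hfE : Finite E := finite_of_le hES
  have hcommE : ∀ a b : E, a * b = b * a := fun a b => Subtype.ext (hmid.comm h a.2 b.2)
  have htv := isTvG_conjAut h hmid hy hyE hyN
  have htG : conjAut E y hyN ∈ F.autGroup E :=
    autInducedBy_le_autGroup F hES (conjAut_mem_autInducedBy hyN hy)
  obtain ⟨e₁, e₂, D, u, huG, hd, hD, hW, hfr⟩ := tv_structure' hcommE (hS.to_le hES) (F.autGroup E)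
    (ess_dich hS hF h hE) htG htv (ess_not_normal hS hF h hE hy hyE hyN)
  have hfixZ : ∀ x : E, conjAut E y hyN x = x → (x : Ω) ∈ ZS S := by
    intro x hx
    have h1 : y * (x : Ω) * y⁻¹ = x := congrArg (fun z : E => (z : Ω)) hx
    apply hmid.mem_ZS_of_comm h hy hyE x.2
    conv_rhs => rw [← h1]
    simp
  have hZfix : ∀ x : E, (x : Ω) ∈ ZS S → conjAut E y hyN x = x := by
    intro x hx
    ext
    rw [conjAut_apply, CenIdx.comm_of_mem_ZS hx hy, mul_inv_cancel_right]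
  have hLG : Subgroup.closure {conjAut E y hyN, u} ≤ F.autGroup E := by
    rw [Subgroup.closure_le]
    rintro x (rfl | rfl)
    · exact htG
    · exact huG
  have hDmem : ∀ x : E, (x : Ω) ∈ D.map E.subtype ↔ x ∈ D := by
    intro x
    constructor
    · rintro ⟨x', hx', hxx⟩
      have : x' = x := Subtype.ext hxx
      rwa [← this]
    · intro hx
      exact ⟨x, hx, rfl⟩
  have hWmem : ∀ x : E, (∃ i j : ℕ, (x : Ω) = (e₁ : Ω) ^ i * (e₂ : Ω) ^ j) ↔ x ∈ tvW e₁ e₂ := by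
    intro x
    rw [hd.mem_tvW_iff' hcommE]
    constructor
    · rintro ⟨i, j, hij⟩
      exact ⟨i, j, Subtype.ext hij⟩
    · rintro ⟨i, j, hij⟩
      exact ⟨i, j, congrArg (fun z : E => (z : Ω)) hij⟩
  refine ⟨e₁, e₂, D.map E.subtype, ?_⟩
  refine ⟨hfixZ e₁ hd.t1, fun hh => hd.e1_ne (Subtype.ext hh),
    congrArg (fun z : E => (z : Ω)) hd.e1_pow, e₂.2, ?_, congrArg (fun z : E => (z : Ω)) hd.e2_pow,
    ?_, ?_, ?_, ?_, ?_, ?_, ?_, ?_, ?_, ?_⟩
  · intro hh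
    have h1 := hZfix e₂ hh
    rw [hd.t2] at h1
    exact hd.e1_ne (mul_eq_left.1 h1)
  · rintro _ ⟨d, hdD, rfl⟩
    exact hfixZ d (hd.tD d hdD)
  · intro x hx
    obtain ⟨i, j, d, hdD, hxx⟩ := hd.span ⟨x, hx⟩
    exact ⟨i, j, d, ⟨d, hdD, rfl⟩, congrArg (fun z : E => (z : Ω)) hxx⟩
  · rintro i j _ ⟨d, hdD, rfl⟩ hh
    obtain ⟨h1, h2, h3⟩ := hd.indep i j d hdD (Subtype.ext hh)
    exact ⟨h1, h2, congrArg (fun z : E => (z : Ω)) h3⟩
  · intro x hx
    obtain ⟨i, d, hdD, hxx⟩ := (hd.t_fix_iff' hcommE ⟨x, hmid.ZE.le hx⟩).1 (hZfix _ hx)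
    exact ⟨i, d, ⟨d, hdD, rfl⟩, congrArg (fun z : E => (z : Ω)) hxx⟩
  · intro a ha b hb
    have hN : Subgroup.zpowers (e₁ : Ω) ≤ ZS S := by
      rw [Subgroup.zpowers_le]
      exact hfixZ e₁ hd.t1
    have hmem := hmid.comm_mem_of h hy hyE hN (fun e he => by
      obtain ⟨j, hj⟩ := hd.cm_t' hcommE ⟨e, he⟩
      have h2 : e⁻¹ * (y * e * y⁻¹) = (e₁ : Ω) ^ j := congrArg (fun z : E => (z : Ω)) hj
      rw [h2]
      exact Subgroup.pow_mem _ (Subgroup.mem_zpowers _) j) ha hb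
    obtain ⟨i, hi⟩ := exists_pow_of_mem_zpowers' hp.out.pos
      (congrArg (fun z : E => (z : Ω)) hd.e1_pow) hmem
    exact ⟨i, hi⟩
  · refine ⟨(e₂ : Ω)⁻¹, S.inv_mem (hES e₂.2), y, hy, ?_⟩
    have h1 : y * (e₂ : Ω) * y⁻¹ = e₂ * e₁ := congrArg (fun z : E => (z : Ω)) hd.t2
    rw [inv_inv, mul_assoc, mul_assoc, ← mul_assoc y, h1, inv_mul_cancel_left]
  · intro α hα x hx
    exact (hDmem _).2 (hD α hα x ((hDmem x).1 hx))
  · intro α hα x hx
    exact (hWmem _).2 (hW α hα x ((hWmem x).1 hx))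
  · intro α hα
    obtain ⟨g, hgG, hgD, -, -, hn2⟩ := hfr α hα
    obtain ⟨β, hβ, hβ'⟩ := ess_extend hS hF h hE hy hyE hyN
      ((F.autGroup E).mul_mem ((F.autGroup E).inv_mem hgG) hα) hn2
    refine ⟨g, hgG, β, hβ, fun x hx => hgD x ((hDmem x).1 hx), fun x hxS => ?_⟩
    have h1 := hβ' x hxS
    refine ⟨by rw [h1]; exact ((g⁻¹ * α) x).2, ?_⟩
    have h2 : (⟨((β ⟨x, hxS⟩ : S) : Ω), by rw [h1]; exact ((g⁻¹ * α) x).2⟩ : E) = (g⁻¹ * α) x :=
      Subtype.ext h1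
    rw [h2, MulAut.mul_apply, MulAut.apply_inv_self]
  · intro l hl
    obtain ⟨τ, hτ, c, μ, -, hact, hτD, hconj⟩ := hd.torus' hcommE hl
    have hn2 : τ * conjAut E y hyN * τ⁻¹ ∈ Subgroup.zpowers (conjAut E y hyN) := by
      rw [hconj, mul_inv_cancel_right]
      exact Subgroup.pow_mem _ (Subgroup.mem_zpowers _) _
    obtain ⟨β, hβ, hβ'⟩ := ess_extend hS hF h hE hy hyE hyN (hLG hτ) hn2
    refine ⟨β, hβ, fun h1 => ?_, ?_⟩
    · rw [hβ' e₁ h1]
      have := hact 1 0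
      rw [pow_one, pow_zero, mul_one, mul_one, mul_zero, mul_zero, add_zero, pow_zero, mul_one]
        at this
      rw [this]
      rfl
    · rintro _ ⟨d, hdD, rfl⟩ hdS
      have h3 := hβ' d hdS
      rw [hτD d hdD] at h3
      exact h3

end tv

end Cfsg.Agent.Lib.Helper87
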