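import Cfsg.Agent.Lib.Lead.Cores
import Mathlib.GroupTheory.PGroup

set_option autoImplicit false

/-! The stability group of an invariant chain of a finite `p`-group is a normal `p`-subgroup (helper87). -/

namespace Cfsg.Agent.Lib.Helper87

open Cfsg Cfsg.Agent.Lib.Lead

variable {P : Type*} [Group P]

theorem aut_pow_apply_of_fixed (β : MulAut P) (x y : P) (hx : β x = x * y)
    (hy : β y = y) (m : ℕ) : (β ^ m) x = x * y ^ m := by
  induction m with
  | zero => simp
  | succ m ih =>
    rw [pow_succ', MulAut.mul_apply, ih, map_mul, map_pow, hx, hy, pow_succ']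
    group

/-- an automorphism stabilizing a chain `D 0 ≥ D 1 ≥ ... ≥ D m = 1` (not necessarily nested) has order dividing
`|P| ^ m` on `D 0`. -/
theorem pow_eq_of_stab [Finite P] (D : ℕ → Subgroup P) (m : ℕ) (hm : D m = ⊥) (α : MulAut P)
    (hstab : ∀ j, ∀ y ∈ D j, y⁻¹ * α y ∈ D (j + 1)) (hinv : ∀ j, ∀ y ∈ D j, α y ∈ D j) (k : ℕ) :
    ∀ j, j + k = m → ∀ y ∈ D j, (α ^ (Nat.card P ^ k)) y = y := by
  induction k with
  | zero =>
    intro j hj y hy
    have : j = m := by omega
    rw [this, hm, Subgroup.mem_bot] at hy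
    rw [hy, map_one]
  | succ k ih =>
    intro j hj y hy
    set β := α ^ (Nat.card P ^ k) with hβ
    -- y⁻¹ β y ∈ D (j+1)
    have hpow : ∀ t : ℕ, ∀ z ∈ D j, z⁻¹ * (α ^ t) z ∈ D (j + 1) ∧ (α ^ t) z ∈ D j := by
      intro t
      induction t with
      | zero =>
        intro z hz
        refine ⟨?_, ?_⟩
        · simp
        · simpa using hz
      | succ t iht =>
        intro z hz
        obtain ⟨h1, h2⟩ := iht z hz
        rw [pow_succ', MulAut.mul_apply]
        refine ⟨?_, hinv j _ h2⟩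
        have h3 := hstab j _ h2
        have : z⁻¹ * α ((α ^ t) z) = (z⁻¹ * (α ^ t) z) * (((α ^ t) z)⁻¹ * α ((α ^ t) z)) := by group
        rw [this]
        exact Subgroup.mul_mem _ h1 h3
    have hy1 : y⁻¹ * β y ∈ D (j + 1) := (hpow _ y hy).1
    have hfix : β (y⁻¹ * β y) = y⁻¹ * β y := ih (j + 1) (by omega) _ hy1
    have h1 := aut_pow_apply_of_fixed β y (y⁻¹ * β y) (by group) hfix (Nat.card P)
    rw [pow_card_eq_one', mul_one] at h1
    rw [pow_succ, pow_mul]
    exact h1

/-- **Stability group lemma.** Let `A ≤ Aut(P)`, `P` a finite `p`-group, and `D 0 = P, D 1, ..., D m = 1` a chain of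
`A`-invariant subgroups. Every `α ∈ A` with `y⁻¹ α(y) ∈ D (j+1)` for all `y ∈ D j` lies in `O_p(A)`. -/
theorem mem_pCore_of_stab [Finite P] {p : ℕ} [Fact p.Prime] (hP : IsPGroup p P)
    (A : Subgroup (MulAut P)) (D : ℕ → Subgroup P) (m : ℕ) (h0 : D 0 = ⊤) (hm : D m = ⊥)
    (hinv : ∀ j, ∀ α ∈ A, ∀ y ∈ D j, α y ∈ D j) (α : MulAut P) (hα : α ∈ A)
    (hstab : ∀ j, ∀ y ∈ D j, y⁻¹ * α y ∈ D (j + 1)) :
    α ∈ (pCore p A).map A.subtype := by
  -- the stability group
  let K : Subgroup A :=
    { carrier := {β | ∀ j, ∀ y ∈ D j, y⁻¹ * (β : MulAut P) y ∈ D (j + 1)}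
      one_mem' := by
        intro j y _
        simp
      mul_mem' := by
        intro a b ha hb j y hy
        have h1 := ha j y hy
        have h2 := hinv (j + 1) a a.2 _ (hb j y hy)
        have : y⁻¹ * ((a * b : A) : MulAut P) y
            = (y⁻¹ * (a : MulAut P) y) * (a : MulAut P) (y⁻¹ * (b : MulAut P) y) := by
          rw [map_mul, map_inv]
          show y⁻¹ * (a : MulAut P) ((b : MulAut P) y) = _
          group
        rw [this]
        exact Subgroup.mul_mem _ h1 h2
      inv_mem' := by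
        intro a ha j y hy
        have hw : ((a⁻¹ : A) : MulAut P) y ∈ D j := hinv j _ (a⁻¹).2 y hy
        have h1 := ha j _ hw
        have h2 : (a : MulAut P) (((a⁻¹ : A) : MulAut P) y) = y := by
          show ((a : MulAut P) * ((a⁻¹ : A) : MulAut P)) y = y
          simp
        rw [h2] at h1
        have := Subgroup.inv_mem _ h1
        simpa using this }
  have hKn : K.Normal := by
    constructor
    intro a ha g j y hy
    have hw : ((g⁻¹ : A) : MulAut P) y ∈ D j := hinv j _ (g⁻¹).2 y hy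
    have h1 := hinv (j + 1) g g.2 _ (ha j _ hw)
    have h2 : (g : MulAut P) (((g⁻¹ : A) : MulAut P) y) = y := by
      show ((g : MulAut P) * ((g⁻¹ : A) : MulAut P)) y = y
      simp
    rw [map_mul, map_inv, h2] at h1
    exact h1
  have hKp : IsPGroup p K := by
    obtain ⟨a, ha⟩ := IsPGroup.iff_card.1 hP
    rintro ⟨⟨β, hβA⟩, hβ⟩
    refine ⟨a * m, ?_⟩
    ext1
    ext1
    show β ^ p ^ (a * m) = 1
    ext1 y
    have := pow_eq_of_stab D m hm β hβ (fun j y hy => hinv j β hβA y hy) m 0 (by simp) y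
      (by rw [h0]; trivial)
    rw [ha, ← pow_mul] at this
    exact this
  exact ⟨⟨α, hα⟩, le_pCore hKn hKp hstab, rfl⟩

end Cfsg.Agent.Lib.Helper87
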