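import Cfsg.Agent.Lib.Helper87.FusUtil
import Cfsg.Agent.Lib.Helper84.FusionAlperin2

set_option autoImplicit false

/-! Strong closure via Alperin's theorem; transport of automizers (helper87). -/

namespace Cfsg.Agent.Lib.Helper87

open Cfsg Cfsg.FusionSystem Cfsg.Agent.Lib.Helper84

variable {Ω : Type*} [Group Ω] {S : Subgroup Ω}

/-- the subsystem of the maps of `F` preserving (in both directions) a subgroup `T` normalized by `S`. -/
def presSystem (F : FusionSystem S) (T : Subgroup Ω) (hN : S ≤ Subgroup.normalizer (T : Set Ω)) :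
    FusionSystem S where
  Hom P := {φ | φ ∈ F.Hom P ∧ ∀ x : P, (x : Ω) ∈ T ↔ φ x ∈ T}
  le_of_mem h := F.le_of_mem h.1
  injective_of_mem h := F.injective_of_mem h.1
  conj_mem := by
    intro P g hP hg
    exact ⟨F.conj_mem hP hg, fun x => Subgroup.mem_normalizer_iff.1 (hN hg) x⟩
  comp_mem := by
    rintro P Q φ ψ ⟨hφ, hφT⟩ ⟨hψ, hψT⟩ h
    exact ⟨F.comp_mem hφ hψ h, fun x => (hφT x).trans (hψT (φ.codRestrict Q h x))⟩
  inv_mem := by
    rintro P φ ⟨hφ, hφT⟩
    obtain ⟨ψ, hψ, hψ'⟩ := F.inv_mem hφ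
    refine ⟨ψ, ⟨hψ, ?_⟩, hψ'⟩
    rintro ⟨_, x, rfl⟩
    rw [hψ' x]
    exact (hφT x).symm

/-- **Strong closure via Alperin.** `T ≤ S` is strongly closed as soon as the automorphisms in `F` of `S` and of the
essential subgroups map elements of `T` into `T`. -/
theorem stronglyClosed_of_aut [Finite S] {p : ℕ} [Fact p.Prime] (hS : IsPGroup p S)
    (F : FusionSystem S) (hF : F.IsSaturated p) (T : Subgroup Ω) (hTS : T ≤ S)
    (h : ∀ P : Subgroup Ω, (P = S ∨ F.IsEssential p P) → ∀ α ∈ F.autGroup P, ∀ x : P,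
      (x : Ω) ∈ T → ((α x : P) : Ω) ∈ T) : F.StronglyClosed T := by
  have hconj : ∀ g ∈ S, ∀ t ∈ T, g * t * g⁻¹ ∈ T := by
    intro g hg t ht
    have hgN : g ∈ Subgroup.normalizer ((S : Subgroup Ω) : Set Ω) := Subgroup.le_normalizer hg
    exact h S (Or.inl rfl) (conjAut S g hgN)
      (autInducedBy_le_autGroup F le_rfl (conjAut_mem_autInducedBy hgN hg)) ⟨t, hTS ht⟩ ht
  have hN : S ≤ Subgroup.normalizer (T : Set Ω) := by
    intro g hg
    apply mem_normalizer_of_conj_mem
    · exact hconj g hg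
    · intro t ht
      have := hconj g⁻¹ (S.inv_mem hg) t ht
      simpa using this
  have hle : F ≤ presSystem F T hN := by
    apply alperin hS F hF
    intro P hP α hα
    have hPS : P ≤ S := by
      rcases hP with rfl | hP
      · exact le_rfl
      · exact hP.1.1
    rw [mem_autGroup_iff _ hPS]
    refine ⟨(mem_autGroup_iff F hPS α).1 hα, fun x => ⟨h P hP α hα x, fun hx => ?_⟩⟩
    have := h P hP α⁻¹ (Subgroup.inv_mem _ hα) (α x) hx
    simpa using this
  refine ⟨hTS, fun R hR φ hφ x => ?_⟩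
  exact ((hle R hφ).2 x).1 (hR x.2)

/-- transport of `Aut_F` along an isomorphism of the system, as an isomorphism of groups. -/
def autEquiv {F : FusionSystem S} {P Q : Subgroup Ω} {e : Q ≃* P} (he : Mor F e.toMonoidHom) :
    F.autGroup Q ≃* F.autGroup P where
  toFun a := ⟨MulAut.congr e a, congr_mem_autGroup he a.2⟩
  invFun b := ⟨MulAut.congr e.symm b, congr_mem_autGroup he.symm b.2⟩
  left_inv a := by
    ext x
    simp [MulAut.congr]
  right_inv b := by
    ext x
    simp [MulAut.congr]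
  map_mul' a b := by
    ext x
    simp [MulAut.congr]

theorem autEquiv_apply {F : FusionSystem S} {P Q : Subgroup Ω} {e : Q ≃* P}
    (he : Mor F e.toMonoidHom) (a : F.autGroup Q) (x : Q) :
    ((autEquiv he a : F.autGroup P) : MulAut P) (e x) = e ((a : MulAut Q) x) := by
  simp [autEquiv, MulAut.congr]

end Cfsg.Agent.Lib.Helper87
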