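import Mathlib

set_option autoImplicit false

/-! Elementary facts on `p`-groups of maximal class (helper87): orders of the terms of the upper
central series, and the centralizer of the second centre. -/

namespace Cfsg.Agent.Lib.Helper87

open scoped commutatorElement

variable {G : Type*} [Group G]

/-- No term `Z_{k+1}(G)` of the upper central series has prime index. -/
theorem index_ucs_succ_ne_prime {p : ℕ} (hp : p.Prime) (k : ℕ) :
    (Subgroup.upperCentralSeries G (k + 1)).index ≠ p := by
  intro h
  have h1 : Subgroup.upperCentralSeries G (k + 1) =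
      (Subgroup.center (G ⧸ Subgroup.upperCentralSeries G k)).comap (QuotientGroup.mk' _) :=
    Subgroup.upperCentralSeriesStep_eq_comap_center (Subgroup.upperCentralSeries G k)
  rw [h1, Subgroup.index_comap_of_surjective _ (QuotientGroup.mk'_surjective _)] at h
  have : Fact p.Prime := ⟨hp⟩
  have hc : Nat.card ((G ⧸ Subgroup.upperCentralSeries G k) ⧸ Subgroup.center (G ⧸ Subgroup.upperCentralSeries G k)) = p := h
  have : IsCyclic ((G ⧸ Subgroup.upperCentralSeries G k) ⧸ Subgroup.center (G ⧸ Subgroup.upperCentralSeries G k)) :=
    isCyclic_of_prime_card hc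
  have hcomm := commutative_of_cyclic_center_quotient
    (QuotientGroup.mk' (Subgroup.center (G ⧸ Subgroup.upperCentralSeries G k))) (by simp)
  have htop : Subgroup.center (G ⧸ Subgroup.upperCentralSeries G k) = ⊤ := by
    rw [eq_top_iff]
    intro x _
    rw [Subgroup.mem_center_iff]
    intro y
    exact hcomm y x
  rw [htop, Subgroup.index_top] at h
  exact hp.one_lt.ne h

/-- In a group of order `p ^ n` whose `(n-2)`-nd upper central term is proper (maximal class), the
`i`-th upper central term has order `p ^ i` for `i ≤ n - 2`. -/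
theorem card_ucs_of_maxClass [Finite G] {p : ℕ} [hp : Fact p.Prime] {n : ℕ}
    (hn : Nat.card G = p ^ n) (h2 : 2 ≤ n) (hmax : Subgroup.upperCentralSeries G (n - 2) ≠ ⊤) {i : ℕ}
    (hi : i ≤ n - 2) : Nat.card (Subgroup.upperCentralSeries G i) = p ^ i := by
  have hG : IsPGroup p G := IsPGroup.of_card hn
  have : Group.IsNilpotent G := hG.isNilpotent
  have hex : ∀ j, ∃ c, c ≤ n ∧ Nat.card (Subgroup.upperCentralSeries G j) = p ^ c := by
    intro j
    have := Subgroup.card_subgroup_dvd_card (Subgroup.upperCentralSeries G j)
    rw [hn] at this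
    exact (Nat.dvd_prime_pow hp.out).1 this
  choose c hcn hc using hex
  have hstrict : ∀ j, j < n - 2 → c j < c (j + 1) := by
    intro j hj
    have hlt : Subgroup.upperCentralSeries G j < Subgroup.upperCentralSeries G (j + 1) := by
      refine lt_of_le_of_ne (Subgroup.upperCentralSeries_mono G (Nat.le_succ j)) ?_
      intro heq
      have := Subgroup.upperCentralSeries.eq_top (Nat.succ_ne_self j).symm heq
      apply hmax
      rw [eq_top_iff, ← this]
      exact Subgroup.upperCentralSeries_mono G hj.le
    have hcard : Nat.card (Subgroup.upperCentralSeries G j) < Nat.card (Subgroup.upperCentralSeries G (j + 1)) := by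
      exact Set.ncard_lt_ncard (s := (Subgroup.upperCentralSeries G j : Set G))
        (t := (Subgroup.upperCentralSeries G (j + 1) : Set G)) (SetLike.coe_ssubset_coe.2 hlt)
        (Set.toFinite _)
    rw [hc, hc] at hcard
    exact (Nat.pow_lt_pow_iff_right hp.out.one_lt).1 hcard
  have h0 : c 0 = 0 := by
    have := hc 0
    rw [Subgroup.upperCentralSeries_zero, Subgroup.card_bot] at this
    by_contra hne
    have : 1 < p ^ c 0 := Nat.one_lt_pow hne hp.out.one_lt
    omega
  have htop : c (n - 2) ≤ n - 2 := by
    -- index is neither 1 nor p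
    have hidx : Nat.card (Subgroup.upperCentralSeries G (n - 2)) * (Subgroup.upperCentralSeries G (n - 2)).index
        = p ^ n := by rw [Subgroup.card_mul_index, hn]
    rw [hc] at hidx
    have hidx' : (Subgroup.upperCentralSeries G (n - 2)).index = p ^ (n - c (n - 2)) := by
      have hpow : p ^ n = p ^ c (n - 2) * p ^ (n - c (n - 2)) := by
        rw [← pow_add, Nat.add_sub_cancel' (hcn _)]
      rw [hpow] at hidx
      exact Nat.eq_of_mul_eq_mul_left (pow_pos hp.out.pos _) hidx
    by_contra hlt
    push Not at hlt
    have hcase : n - c (n - 2) = 0 ∨ n - c (n - 2) = 1 := by omega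
    rcases hcase with h | h
    · rw [h, pow_zero, Subgroup.index_eq_one] at hidx'
      exact hmax hidx'
    · rw [h, pow_one] at hidx'
      rcases Nat.eq_zero_or_pos (n - 2) with h0' | hpos
      · rw [h0'] at hlt
        omega
      · obtain ⟨k, hk⟩ : ∃ k, n - 2 = k + 1 := ⟨n - 2 - 1, by omega⟩
        rw [hk] at hidx'
        exact index_ucs_succ_ne_prime hp.out k hidx'
  have hlow : ∀ j, j ≤ n - 2 → j ≤ c j := by
    intro j
    induction j with
    | zero => intro _; omega
    | succ j ih =>
      intro hj
      have := hstrict j (by omega)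
      have := ih (by omega)
      omega
  have hup : ∀ d, d ≤ n - 2 → c (n - 2 - d) + d ≤ n - 2 := by
    intro d
    induction d with
    | zero => intro _; simpa using htop
    | succ d ih =>
      intro hd
      have h1 := hstrict (n - 2 - (d + 1)) (by omega)
      have h2 : n - 2 - (d + 1) + 1 = n - 2 - d := by omega
      rw [h2] at h1
      have := ih (by omega)
      omega
  have h1 := hlow i hi
  have h2 := hup (n - 2 - i) (by omega)
  have h3 : n - 2 - (n - 2 - i) = i := by omega
  rw [h3] at h2
  rw [hc]
  congr 1
  omega

/-- If `|Z(G)| = p` and `|Z₂(G)| = p²` then `C_G(Z₂(G))` has index `p` and contains `Z₂(G)`. -/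
theorem centralizer_ucs_two [Finite G] {p : ℕ} [hp : Fact p.Prime]
    (h1 : Nat.card (Subgroup.center G) = p) (h2 : Nat.card (Subgroup.upperCentralSeries G 2) = p ^ 2) :
    (Subgroup.centralizer (Subgroup.upperCentralSeries G 2 : Set G)).index = p ∧
      Subgroup.upperCentralSeries G 2 ≤
        Subgroup.centralizer (Subgroup.upperCentralSeries G 2 : Set G) := by
  have hle : Subgroup.center G ≤ Subgroup.upperCentralSeries G 2 := by
    rw [← Subgroup.upperCentralSeries_one]
    exact Subgroup.upperCentralSeries_mono G (by norm_num)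
  obtain ⟨a, ha2, ha1⟩ : ∃ a ∈ Subgroup.upperCentralSeries G 2, a ∉ Subgroup.center G := by
    by_contra hcon
    push Not at hcon
    have heq : Subgroup.upperCentralSeries G 2 = Subgroup.center G := le_antisymm hcon hle
    rw [heq, h1] at h2
    have : p < p ^ 2 := by
      have := hp.out.one_lt
      nlinarith
    omega
  have hcomm : ∀ y : G, ⁅a, y⁆ ∈ Subgroup.center G := by
    intro y
    have := (Subgroup.mem_upperCentralSeries_succ_iff (n := 1)).1 ha2 y
    rwa [Subgroup.upperCentralSeries_one] at this
  let f : G →* Subgroup.center G :=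
    { toFun := fun y => ⟨⁅a, y⁆, hcomm y⟩
      map_one' := by ext; simp
      map_mul' := by
        intro y z
        ext
        have hz := Subgroup.mem_center_iff.1 (hcomm z) y⁻¹
        show ⁅a, y * z⁆ = ⁅a, y⁆ * ⁅a, z⁆
        have : ⁅a, y * z⁆ = a * y * a⁻¹ * (⁅a, z⁆ * y⁻¹) := by
          simp only [commutatorElement_def]; group
        rw [this, ← hz]
        simp only [commutatorElement_def]; group }
  have hker : ∀ y, y ∈ f.ker ↔ a * y = y * a := by
    intro y
    rw [MonoidHom.mem_ker]
    constructor
    · intro h
      have h' : ⁅a, y⁆ = 1 := congrArg (fun z : Subgroup.center G => (z : G)) h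
      exact commutatorElement_eq_one_iff_mul_comm.1 h'
    · intro h
      ext
      exact commutatorElement_eq_one_iff_mul_comm.2 h
  have hgen : Subgroup.upperCentralSeries G 2 = Subgroup.center G ⊔ Subgroup.zpowers a := by
    symm
    have hle2 : Subgroup.center G ⊔ Subgroup.zpowers a ≤ Subgroup.upperCentralSeries G 2 :=
      sup_le hle (by rwa [Subgroup.zpowers_le])
    apply Subgroup.eq_of_le_of_card_ge hle2
    have hd1 : Nat.card (Subgroup.center G ⊔ Subgroup.zpowers a : Subgroup G) ∣ p ^ 2 := by
      rw [← h2]; exact Subgroup.card_dvd_of_le hle2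
    obtain ⟨k, hk, hk'⟩ := (Nat.dvd_prime_pow hp.out).1 hd1
    have hlt : Subgroup.center G < Subgroup.center G ⊔ Subgroup.zpowers a := by
      refine lt_of_le_of_ne le_sup_left ?_
      intro h
      apply ha1
      rw [h]
      exact (le_sup_right : Subgroup.zpowers a ≤ _) (Subgroup.mem_zpowers a)
    have hcl : Nat.card (Subgroup.center G) <
        Nat.card (Subgroup.center G ⊔ Subgroup.zpowers a : Subgroup G) :=
      Set.ncard_lt_ncard (s := (Subgroup.center G : Set G))
        (t := ((Subgroup.center G ⊔ Subgroup.zpowers a : Subgroup G) : Set G))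
        (SetLike.coe_ssubset_coe.2 hlt) (Set.toFinite _)
    rw [h1, hk'] at hcl
    have hk1 : 1 < k := by
      have : p ^ 1 < p ^ k := by simpa using hcl
      exact (Nat.pow_lt_pow_iff_right hp.out.one_lt).1 this
    have hk2 : k = 2 := by omega
    rw [h2, hk', hk2]
  have hC : Subgroup.centralizer (Subgroup.upperCentralSeries G 2 : Set G) = f.ker := by
    ext y
    rw [hker, Subgroup.mem_centralizer_iff]
    constructor
    · intro h
      exact h a ha2
    · intro h x hx
      have hx' : x ∈ Subgroup.center G ⊔ Subgroup.zpowers a := hgen ▸ hx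
      have hsub : Subgroup.center G ⊔ Subgroup.zpowers a ≤ Subgroup.centralizer {y} := by
        refine sup_le ?_ ?_
        · intro z hz
          rw [Subgroup.mem_centralizer_singleton_iff]
          exact (Subgroup.mem_center_iff.1 hz y).symm
        · rw [Subgroup.zpowers_le, Subgroup.mem_centralizer_singleton_iff]
          exact h
      have := Subgroup.mem_centralizer_singleton_iff.1 (hsub hx')
      exact this
  refine ⟨?_, ?_⟩
  · rw [hC, Subgroup.index_ker]
    have hd : Nat.card f.range ∣ p := by
      rw [← h1]; exact Subgroup.card_subgroup_dvd_card _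
    rcases (Nat.dvd_prime hp.out).1 hd with h | h
    · exfalso
      apply ha1
      rw [Subgroup.mem_center_iff]
      intro y
      have hy : y ∈ f.ker := by
        rw [MonoidHom.mem_ker]
        have hb : f.range = ⊥ := Subgroup.card_eq_one.1 h
        have : f y ∈ f.range := ⟨y, rfl⟩
        rw [hb] at this
        exact this
      exact ((hker y).1 hy).symm
    · exact h
  · rw [hC]
    intro x hx
    rw [hker]
    have hx' : x ∈ Subgroup.center G ⊔ Subgroup.zpowers a := hgen ▸ hx
    have hsub : Subgroup.center G ⊔ Subgroup.zpowers a ≤ Subgroup.centralizer {a} := by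
      refine sup_le ?_ ?_
      · intro z hz
        rw [Subgroup.mem_centralizer_singleton_iff]
        exact (Subgroup.mem_center_iff.1 hz a).symm
      · rw [Subgroup.zpowers_le, Subgroup.mem_centralizer_singleton_iff]
    exact (Subgroup.mem_centralizer_singleton_iff.1 (hsub hx')).symm

end Cfsg.Agent.Lib.Helper87
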