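import Cfsg.Agent.Lib.Helper84.FusionAlperin2
import Cfsg.Agent.Lib.Helper84.ChainStab
import Cfsg.Agent.Lib.Helper87.FusUtil
import Cfsg.Agent.Lib.Helper87.MaxClass

set_option autoImplicit false

/-! A finite `p`-subgroup `S` of `Ω` whose centre has index `p²` (helper87). -/

namespace Cfsg.Agent.Lib.Helper87

open Cfsg Cfsg.FusionSystem Cfsg.Agent.Lib.Helper84

variable {Ω : Type*} [Group Ω]

/-- The centre of `S`, as a subgroup of `Ω`. -/
def ZS (S : Subgroup Ω) : Subgroup Ω := S ⊓ Subgroup.centralizer (S : Set Ω)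

theorem mem_ZS {S : Subgroup Ω} {x : Ω} : x ∈ ZS S ↔ x ∈ S ∧ ∀ y ∈ S, y * x = x * y := by
  unfold ZS
  rw [Subgroup.mem_inf, Subgroup.mem_centralizer_iff]
  rfl

theorem ZS_le (S : Subgroup Ω) : ZS S ≤ S := inf_le_left

theorem map_center_eq_ZS (S : Subgroup Ω) : (Subgroup.center ↥S).map S.subtype = ZS S := by
  ext x
  rw [mem_ZS]
  constructor
  · rintro ⟨z, hz, rfl⟩
    refine ⟨z.2, fun y hy => ?_⟩
    have := Subgroup.mem_center_iff.1 hz ⟨y, hy⟩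
    exact congrArg (fun w : S => (w : Ω)) this
  · rintro ⟨hx, h⟩
    refine ⟨⟨x, hx⟩, ?_, rfl⟩
    rw [SetLike.mem_coe, Subgroup.mem_center_iff]
    intro y
    ext
    exact h y y.2

theorem eq_of_lt_of_card {p : ℕ} (hp : p.Prime) {A Q B : Subgroup Ω} [Finite B] (hAQ : A < Q)
    (hQB : Q ≤ B) (hcard : Nat.card B = p * Nat.card A) : Q = B := by
  have hfQ : Finite Q := Finite.of_injective _ (Subgroup.inclusion_injective hQB)
  have hfA : Finite A := Finite.of_injective _ (Subgroup.inclusion_injective hAQ.le)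
  apply Subgroup.eq_of_le_of_card_ge hQB
  obtain ⟨d, hd⟩ := Subgroup.card_dvd_of_le hAQ.le
  obtain ⟨e, he⟩ := Subgroup.card_dvd_of_le hQB
  have hlt := card_lt_of_lt hAQ
  have hpos : 0 < Nat.card A := Nat.card_pos
  have hde : d * e = p := by
    have : Nat.card A * (d * e) = Nat.card A * p := by
      rw [mul_comm _ p, ← hcard, he, hd, mul_assoc]
    exact Nat.eq_of_mul_eq_mul_left hpos this
  have hd1 : d ≠ 1 := by
    intro h
    rw [hd, h, mul_one] at hlt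
    exact lt_irrefl _ hlt
  have hdp : d = p := by
    rcases (Nat.dvd_prime hp).1 ⟨e, hde.symm⟩ with h | h
    · exact absurd h hd1
    · exact h
  rw [hcard, hd, hdp, mul_comm]

/-- The setting: commutators of `S` are central and `|S : Z(S)| = p²`. -/
structure CenIdx (p : ℕ) (S : Subgroup Ω) : Prop where
  comm_mem : ∀ a ∈ S, ∀ b ∈ S, a * b * a⁻¹ * b⁻¹ ∈ ZS S
  card : Nat.card S = p ^ 2 * Nat.card (ZS S)

theorem cenIdx_of_index {p : ℕ} [hp : Fact p.Prime] {S : Subgroup Ω}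
    (h : (Subgroup.center ↥S).index = p ^ 2) : CenIdx p S := by
  constructor
  · intro a ha b hb
    have hc : Nat.card (↥S ⧸ Subgroup.center ↥S) = p ^ 2 := h
    have hcomm := IsPGroup.commutative_of_card_eq_prime_sq hc
      (QuotientGroup.mk (⟨a, ha⟩ : S)) (QuotientGroup.mk (⟨b, hb⟩ : S))
    rw [← map_center_eq_ZS]
    refine ⟨⟨a, ha⟩ * ⟨b, hb⟩ * ⟨a, ha⟩⁻¹ * ⟨b, hb⟩⁻¹, ?_, rfl⟩
    rw [SetLike.mem_coe, ← QuotientGroup.eq_one_iff]
    simp only [QuotientGroup.mk_mul, QuotientGroup.mk_inv]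
    rw [hcomm]
    group
  · rw [← map_center_eq_ZS, Subgroup.card_map_of_injective S.subtype_injective, ← h, mul_comm,
      Subgroup.card_mul_index]

namespace CenIdx

variable {p : ℕ} [hp : Fact p.Prime] {S : Subgroup Ω} [Finite S]

/-- A subgroup strictly between `Z(S)` and `S`. -/
structure Mid (S E : Subgroup Ω) : Prop where
  ZE : ZS S < E
  ES : E < S

theorem Mid.card (h : CenIdx p S) {E : Subgroup Ω} (hE : Mid S E) :
    Nat.card E = p * Nat.card (ZS S) ∧ Nat.card S = p * Nat.card E := by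
  have hfE : Finite E := finite_of_le hE.ES.le
  have hfZ : Finite (ZS S) := finite_of_le (ZS_le S)
  obtain ⟨d, hd⟩ := Subgroup.card_dvd_of_le hE.ZE.le
  obtain ⟨e, he⟩ := Subgroup.card_dvd_of_le hE.ES.le
  have h1 := card_lt_of_lt hE.ZE
  have h2 := card_lt_of_lt hE.ES
  have hpos : 0 < Nat.card (ZS S) := Nat.card_pos
  have hposE : 0 < Nat.card E := Nat.card_pos
  have hde : d * e = p ^ 2 := by
    have : Nat.card (ZS S) * (d * e) = Nat.card (ZS S) * p ^ 2 := by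
      rw [mul_comm _ (p ^ 2), ← h.card, he, hd, mul_assoc]
    exact Nat.eq_of_mul_eq_mul_left hpos this
  have hd1 : d ≠ 1 := by
    intro hh
    rw [hd, hh, mul_one] at h1
    exact lt_irrefl _ h1
  have he1 : e ≠ 1 := by
    intro hh
    rw [he, hh, mul_one] at h2
    exact lt_irrefl _ h2
  obtain ⟨k, hk, hdk⟩ := (Nat.dvd_prime_pow hp.out).1 ⟨e, hde.symm⟩
  have hk1 : k = 1 := by
    interval_cases k
    · simp at hdk; exact absurd hdk hd1
    · rfl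
    · exfalso
      rw [hdk] at hde
      have : p ^ 2 * e = p ^ 2 * 1 := by rw [hde, mul_one]
      exact he1 (Nat.eq_of_mul_eq_mul_left (pow_pos hp.out.pos 2) this)
  rw [hk1, pow_one] at hdk
  have hep : e = p := by
    rw [hdk, sq] at hde
    exact Nat.eq_of_mul_eq_mul_left hp.out.pos hde
  rw [hd, hdk] at he ⊢
  rw [he, hep]
  constructor <;> ring

theorem Mid.le_normalizer (h : CenIdx p S) {E : Subgroup Ω} (hE : Mid S E) :
    S ≤ Subgroup.normalizer (E : Set Ω) := by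
  have key : ∀ s ∈ S, ∀ e ∈ E, s * e * s⁻¹ ∈ E := by
    intro s hs e he
    have h1 := hE.ZE.le (h.comm_mem s hs e (hE.ES.le he))
    have := E.mul_mem h1 he
    simpa using this
  intro s hs
  apply mem_normalizer_of_conj_mem (key s hs)
  intro e he
  simpa using key s⁻¹ (S.inv_mem hs) e he

omit [Finite S] hp in
theorem comm_of_mem_ZS {z s : Ω} (hz : z ∈ ZS S) (hs : s ∈ S) : s * z = z * s :=
  (mem_ZS.1 hz).2 s hs

/-- `S = E⟨y⟩`. -/
theorem Mid.exists_eq (h : CenIdx p S) {E : Subgroup Ω} (hE : Mid S E) {y : Ω} (hy : y ∈ S)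
    (hyE : y ∉ E) {s : Ω} (hs : s ∈ S) : ∃ (k : ℕ), ∃ e ∈ E, s = y ^ k * e := by
  have hsup : Subgroup.zpowers y ⊔ E = S := by
    apply eq_of_lt_of_card hp.out (A := E) _ (sup_le (by rwa [Subgroup.zpowers_le]) hE.ES.le)
      (hE.card h).2
    refine lt_of_le_of_ne le_sup_right (fun hh => hyE ?_)
    rw [hh]
    exact (le_sup_left : Subgroup.zpowers y ≤ _) (Subgroup.mem_zpowers y)
  have hN : Subgroup.zpowers y ≤ Subgroup.normalizer (E : Set Ω) := by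
    rw [Subgroup.zpowers_le]
    exact hE.le_normalizer h hy
  obtain ⟨x, hx, e, he, rfl⟩ := mem_sup_of_le_normalizer hN (hsup ▸ hs)
  have hfin : IsOfFinOrder y := by
    have : IsOfFinOrder (⟨y, hy⟩ : S) := isOfFinOrder_of_finite _
    exact (Submonoid.isOfFinOrder_coe (H := S.toSubmonoid) (x := ⟨y, hy⟩)).2 this
  obtain ⟨k, hk⟩ := hfin.mem_powers_iff_mem_zpowers.2 hx
  exact ⟨k, e, he, by rw [← hk]⟩

/-- `E = Z(S)⟨x⟩`. -/
theorem Mid.exists_eq' (h : CenIdx p S) {E : Subgroup Ω} (hE : Mid S E) {x : Ω} (hx : x ∈ E)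
    (hxZ : x ∉ ZS S) {s : Ω} (hs : s ∈ E) : ∃ (k : ℕ), ∃ z ∈ ZS S, s = x ^ k * z := by
  have : Finite E := finite_of_le hE.ES.le
  have hsup : Subgroup.zpowers x ⊔ ZS S = E := by
    apply eq_of_lt_of_card hp.out (A := ZS S) _ (sup_le (by rwa [Subgroup.zpowers_le]) hE.ZE.le)
      (hE.card h).1
    refine lt_of_le_of_ne le_sup_right (fun hh => hxZ ?_)
    rw [hh]
    exact (le_sup_left : Subgroup.zpowers x ≤ _) (Subgroup.mem_zpowers x)
  have hN : Subgroup.zpowers x ≤ Subgroup.normalizer (ZS S : Set Ω) := by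
    rw [Subgroup.zpowers_le]
    have hxS := hE.ES.le hx
    apply mem_normalizer_of_conj_mem
    · intro z hz
      rw [comm_of_mem_ZS hz hxS, mul_inv_cancel_right]
      exact hz
    · intro z hz
      rw [mul_assoc, ← comm_of_mem_ZS hz hxS, inv_mul_cancel_left]
      exact hz
  obtain ⟨a, ha, e, he, rfl⟩ := mem_sup_of_le_normalizer hN (hsup ▸ hs)
  have hfin : IsOfFinOrder x := by
    have : IsOfFinOrder (⟨x, hx⟩ : E) := isOfFinOrder_of_finite _
    exact (Submonoid.isOfFinOrder_coe (H := E.toSubmonoid) (x := ⟨x, hx⟩)).2 this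
  obtain ⟨k, hk⟩ := hfin.mem_powers_iff_mem_zpowers.2 ha
  exact ⟨k, e, he, by rw [← hk]⟩

theorem Mid.exists_not_mem {E : Subgroup Ω} (hE : Mid S E) :
    (∃ x ∈ E, x ∉ ZS S) ∧ ∃ y ∈ S, y ∉ E :=
  ⟨SetLike.exists_of_lt hE.ZE, SetLike.exists_of_lt hE.ES⟩

/-- `E` is abelian. -/
theorem Mid.comm (h : CenIdx p S) {E : Subgroup Ω} (hE : Mid S E) {a b : Ω} (ha : a ∈ E)
    (hb : b ∈ E) : a * b = b * a := by
  obtain ⟨⟨x, hx, hxZ⟩, -⟩ := hE.exists_not_mem
  obtain ⟨i, z, hz, rfl⟩ := hE.exists_eq' h hx hxZ ha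
  obtain ⟨j, w, hw, rfl⟩ := hE.exists_eq' h hx hxZ hb
  have hxS := hE.ES.le hx
  have h1 : ∀ k : ℕ, ∀ c ∈ ZS S, x ^ k * c = c * x ^ k :=
    fun k c hc => comm_of_mem_ZS hc (S.pow_mem hxS k)
  have h2 : z * w = w * z := comm_of_mem_ZS hw (ZS_le S hz)
  calc x ^ i * z * (x ^ j * w) = x ^ i * (z * x ^ j) * w := by simp only [mul_assoc]
    _ = x ^ i * (x ^ j * z) * w := by rw [h1 j z hz]
    _ = (x ^ i * x ^ j) * (z * w) := by simp only [mul_assoc]
    _ = (x ^ j * x ^ i) * (w * z) := by rw [← pow_add, add_comm, pow_add, h2]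
    _ = x ^ j * (x ^ i * w) * z := by simp only [mul_assoc]
    _ = x ^ j * (w * x ^ i) * z := by rw [h1 i w hw]
    _ = x ^ j * w * (x ^ i * z) := by simp only [mul_assoc]

/-- An element of `E` commuting with `y ∈ S ∖ E` is central in `S`. -/
theorem Mid.mem_ZS_of_comm (h : CenIdx p S) {E : Subgroup Ω} (hE : Mid S E) {y : Ω} (hy : y ∈ S)
    (hyE : y ∉ E) {x : Ω} (hx : x ∈ E) (hxy : y * x = x * y) : x ∈ ZS S := by
  rw [mem_ZS]
  refine ⟨hE.ES.le hx, fun s hs => ?_⟩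
  obtain ⟨k, e, he, rfl⟩ := hE.exists_eq h hy hyE hs
  have h1 : y ^ k * x = x * y ^ k := by
    have : Commute y x := hxy
    exact (this.pow_left k).eq
  rw [mul_assoc, hE.comm h he hx, ← mul_assoc, h1, mul_assoc]

omit [Finite S] hp in
theorem comm_mul_left {N : Subgroup Ω} (hN : N ≤ ZS S) {a a' b : Ω} (ha : a ∈ S)
    (h1 : a * b * a⁻¹ * b⁻¹ ∈ N) (h2 : a' * b * a'⁻¹ * b⁻¹ ∈ N) :
    (a * a') * b * (a * a')⁻¹ * b⁻¹ ∈ N := by
  have hc : a * (a' * b * a'⁻¹ * b⁻¹) = (a' * b * a'⁻¹ * b⁻¹) * a := comm_of_mem_ZS (hN h2) ha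
  have : (a * a') * b * (a * a')⁻¹ * b⁻¹ = (a' * b * a'⁻¹ * b⁻¹) * (a * b * a⁻¹ * b⁻¹) := by
    calc (a * a') * b * (a * a')⁻¹ * b⁻¹ = (a * (a' * b * a'⁻¹ * b⁻¹)) * b * a⁻¹ * b⁻¹ := by group
      _ = ((a' * b * a'⁻¹ * b⁻¹) * a) * b * a⁻¹ * b⁻¹ := by rw [hc]
      _ = _ := by group
  rw [this]
  exact N.mul_mem h2 h1

omit [Finite S] hp in
theorem comm_swap {N : Subgroup Ω} {a b : Ω} (h1 : a * b * a⁻¹ * b⁻¹ ∈ N) :
    b * a * b⁻¹ * a⁻¹ ∈ N := by
  have := N.inv_mem h1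
  simpa [mul_assoc] using this

omit [Finite S] hp in
theorem comm_pow_left {N : Subgroup Ω} (hN : N ≤ ZS S) {a b : Ω} (ha : a ∈ S)
    (h1 : a * b * a⁻¹ * b⁻¹ ∈ N) (k : ℕ) : a ^ k * b * (a ^ k)⁻¹ * b⁻¹ ∈ N := by
  induction k with
  | zero => simp
  | succ k ih =>
    rw [pow_succ']
    exact comm_mul_left hN ha h1 ih

/-- All commutators of `S` lie in `[E, y]`. -/
theorem Mid.comm_mem_of (h : CenIdx p S) {E : Subgroup Ω} (hE : Mid S E) {y : Ω} (hy : y ∈ S)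
    (hyE : y ∉ E) {N : Subgroup Ω} (hN : N ≤ ZS S) (hgen : ∀ e ∈ E, e⁻¹ * (y * e * y⁻¹) ∈ N)
    {a b : Ω} (ha : a ∈ S) (hb : b ∈ S) : a * b * a⁻¹ * b⁻¹ ∈ N := by
  have hES := hE.ES.le
  have hye : ∀ e ∈ E, y * e * y⁻¹ * e⁻¹ ∈ N := by
    intro e he
    have h1 := hgen e he
    have h2 : e * (e⁻¹ * (y * e * y⁻¹)) = (e⁻¹ * (y * e * y⁻¹)) * e :=
      comm_of_mem_ZS (hN h1) (hES he)
    have h3 : y * e * y⁻¹ * e⁻¹ = e⁻¹ * (y * e * y⁻¹) := by
      rw [mul_inv_cancel_left] at h2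
      conv_lhs => rw [h2]
      rw [mul_inv_cancel_right]
    rw [h3]
    exact h1
  have hee : ∀ e ∈ E, ∀ f ∈ E, e * f * e⁻¹ * f⁻¹ ∈ N := by
    intro e he f hf
    rw [hE.comm h he hf]
    simp
  have hyy : ∀ k : ℕ, y ^ k * y * (y ^ k)⁻¹ * y⁻¹ ∈ N := by
    intro k
    have : y ^ k * y = y * y ^ k := by rw [← pow_succ, ← pow_succ']
    rw [this]
    simp
  obtain ⟨j, f, hf, rfl⟩ := hE.exists_eq h hy hyE hb
  have hyb : y * (y ^ j * f) * y⁻¹ * (y ^ j * f)⁻¹ ∈ N :=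
    comm_swap (comm_mul_left hN (S.pow_mem hy j) (hyy j) (comm_swap (hye f hf)))
  have heb : ∀ e ∈ E, e * (y ^ j * f) * e⁻¹ * (y ^ j * f)⁻¹ ∈ N := by
    intro e he
    exact comm_swap (comm_mul_left hN (S.pow_mem hy j) (comm_pow_left hN hy (hye e he) j)
      (hee f hf e he))
  obtain ⟨i, e, he, rfl⟩ := hE.exists_eq h hy hyE ha
  exact comm_mul_left hN (S.pow_mem hy i) (comm_pow_left hN hy hyb i) (heb e he)

end CenIdx

end Cfsg.Agent.Lib.Helper87
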