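import Cfsg.Agent.Lib.Helper84.FusionAlperin3
import Cfsg.Agent.Lib.Helper84.FusionCentral
import Cfsg.Agent.Lib.Helper84.FusionConseq
import Cfsg.Agent.Lib.Helper84.FusionKNorm2
import Cfsg.Agent.Lib.Helper85.FusPrimeIdx2
import Cfsg.Agent.Lib.Helper88.FusCentric

set_option autoImplicit false

/-! A "climbing" criterion for a subgroup of `Z(S)` to be central in a saturated fusion system (helper87). -/

namespace Cfsg.Agent.Lib.Helper87

open Cfsg Cfsg.FusionSystem Cfsg.Agent.Lib.Helper84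

variable {Ω : Type*} [Group Ω] {S : Subgroup Ω}

/-- Every element of `Aut_F(Q)` fixes every element of `X ∩ Q`. -/
def AutFix (F : FusionSystem S) (X Q : Subgroup Ω) : Prop :=
  ∀ α ∈ F.autGroup Q, ∀ y ∈ X, ∀ hy : y ∈ Q, ((α ⟨y, hy⟩ : Q) : Ω) = y

theorem AutFix.transport {F : FusionSystem S} {X N W W' : Subgroup Ω} {θ : N →* Ω}
    (hθ : θ ∈ F.Hom N) (hWN : W ≤ N) (hmap : (W.subgroupOf N).map θ = W')
    (hfix : ∀ y ∈ X, ∀ hy : y ∈ N, θ ⟨y, hy⟩ = y) (h : AutFix F X W') : AutFix F X W := by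
  intro α hα y hyX hy
  obtain ⟨e, he'⟩ : ∃ e, e = restrictEquiv θ (F.injective_of_mem hθ) hWN hmap := ⟨_, rfl⟩
  have he : Mor F e.toMonoidHom := he' ▸ mor_restrictEquiv F hθ hWN hmap
  have hex : ((e ⟨y, hy⟩ : W') : Ω) = y := by
    rw [he']
    exact hfix y hyX (hWN hy)
  have hy' : y ∈ W' := by
    have := (e ⟨y, hy⟩).2
    rwa [hex] at this
  have h1 := h _ (congr_mem_autGroup he hα) y hyX hy'
  have h2 : e.symm ⟨y, hy'⟩ = ⟨y, hy⟩ := by
    rw [MulEquiv.symm_apply_eq]
    exact Subtype.ext hex.symm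
  have h3 : (MulAut.congr e α) ⟨y, hy'⟩ = e (α ⟨y, hy⟩) := by
    show e (α (e.symm _)) = _
    rw [h2]
  rw [h3] at h1
  have h4 : e (α ⟨y, hy⟩) = e ⟨y, hy⟩ := Subtype.ext (h1.trans hex.symm)
  exact congrArg Subtype.val (e.injective h4)

theorem centric_self' [Finite S] (F : FusionSystem S) : F.IsCentric S := by
  refine ⟨le_rfl, ?_⟩
  rintro Q ⟨φ, hφ, rfl⟩
  rw [range_eq_of_card F hφ]
  exact inf_le_left

section
variable [Finite S] {p : ℕ} [Fact p.Prime]

/-- If `Aut_F(Q)` fixes `X` for all fully normalized centric `Q` with `|N_S(Q)| > k`, then all maps with source of order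
`> k` fix `X`. -/
theorem hom_fix_of_large (hS : IsPGroup p S) (F : FusionSystem S) (hF : F.IsSaturated p)
    {X : Subgroup Ω} (hXS : X ≤ S) (hXZ : ∀ g ∈ S, ∀ y ∈ X, g * y * g⁻¹ = y) (k : ℕ)
    (H : ∀ Q, F.IsFullyNormalized Q → F.IsCentric Q → k < Nat.card (normalizerIn S Q) → AutFix F X Q)
    (D : Subgroup Ω) (φ : D →* Ω) (hφ : φ ∈ F.Hom D) (hD : k < Nat.card D) :
    ∃ ψ ∈ F.Hom (D ⊔ X), (∀ x : D, ψ (Subgroup.inclusion le_sup_left x) = φ x) ∧
      ∀ x : X, ψ (Subgroup.inclusion le_sup_right x) = x := by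
  have hconj : ∀ g ∈ S, ∃ a ∈ (⊥ : Subgroup (MulAut X)), ∀ x : X, g * (x : Ω) * g⁻¹ = (a x : X) :=
    fun g hg => ⟨1, Subgroup.one_mem _, fun x => hXZ g hg x x.2⟩
  have hle : F ≤ truncSystem F (kSystem F X ⊥ hXS hconj) k := by
    apply alperin hS F hF
    intro P hP α hα
    have hPn : F.IsFullyNormalized P := by
      rcases hP with rfl | hP
      · exact fullyNormalized_self F
      · exact hP.2.1
    have hPc : F.IsCentric P := by
      rcases hP with rfl | hP
      · exact centric_self' F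
      · exact hP.1
    have hPS : P ≤ S := hPc.1
    rw [mem_autGroup_iff _ hPS]
    refine ⟨(mem_autGroup_iff F hPS α).1 hα, ?_⟩
    by_cases hk : Nat.card P ≤ k
    · exact Or.inl hk
    · right
      have hfinN : Finite (normalizerIn S P) := finite_of_le (normalizerIn_le S P)
      have hcard : k < Nat.card (normalizerIn S P) :=
        lt_of_lt_of_le (not_le.1 hk) (Subgroup.card_le_of_le (le_normalizerIn hPS))
      have hfix := H P hPn hPc hcard
      have hXP : X ≤ P := by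
        refine le_trans ?_ (hPc.2 P (isConj_refl F hPS))
        intro x hx
        refine ⟨hXS hx, ?_⟩
        show x ∈ Subgroup.centralizer (P : Set Ω)
        rw [Subgroup.mem_centralizer_iff]
        intro y hy
        have := hXZ y (hPS hy) x hx
        calc y * x = y * x * y⁻¹ * y := by simp
          _ = x * y := by rw [this]
      have h1 := autGroup_le_kSystem F X ⊥ hXS hconj hPS hXP (fun α hα =>
        ⟨1, Subgroup.one_mem _, fun x => hfix α hα x x.2 (hXP x.2)⟩) hα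
      exact (mem_autGroup_iff _ hPS α).1 h1
  rcases (hle D hφ).2 with h | h
  · omega
  · obtain ⟨-, ψ, hψ, h1, a, ha, h2⟩ := h
    refine ⟨ψ, hψ, h1, fun x => ?_⟩
    rw [h2, Subgroup.mem_bot.1 ha]
    rfl

theorem hom_fix_of_large' (hS : IsPGroup p S) (F : FusionSystem S) (hF : F.IsSaturated p)
    {X : Subgroup Ω} (hXS : X ≤ S) (hXZ : ∀ g ∈ S, ∀ y ∈ X, g * y * g⁻¹ = y) (k : ℕ)
    (H : ∀ Q, F.IsFullyNormalized Q → F.IsCentric Q → k < Nat.card (normalizerIn S Q) → AutFix F X Q)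
    (D : Subgroup Ω) (φ : D →* Ω) (hφ : φ ∈ F.Hom D) (hD : k < Nat.card D) :
    ∀ y ∈ X, ∀ hy : y ∈ D, φ ⟨y, hy⟩ = y := by
  intro y hyX hy
  obtain ⟨ψ, -, h1, h2⟩ := hom_fix_of_large hS F hF hXS hXZ k H D φ hφ hD
  rw [← h1 ⟨y, hy⟩]
  exact h2 ⟨y, hyX⟩

/-- centric subgroups with large normalizer. -/
theorem autFix_of_centric_large (hS : IsPGroup p S) (F : FusionSystem S) (hF : F.IsSaturated p)
    {X : Subgroup Ω} (hXS : X ≤ S) (hXZ : ∀ g ∈ S, ∀ y ∈ X, g * y * g⁻¹ = y) (k : ℕ)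
    (H : ∀ Q, F.IsFullyNormalized Q → F.IsCentric Q → k < Nat.card (normalizerIn S Q) → AutFix F X Q)
    {R : Subgroup Ω} (hR : F.IsCentric R) (hk : k < Nat.card (normalizerIn S R)) : AutFix F X R := by
  obtain ⟨R', hRR', hR'⟩ := exists_fullyNormalized F hR.1
  obtain ⟨-, h1, h2⟩ := sat_fullyNormalized hS hF hR'
  obtain ⟨η, hη, -, hmap⟩ := exists_normalizer_hom hS F h1 h2 hRR'
  have hc : F.IsCentric R' := Cfsg.Agent.Lib.Helper88.centric_of_isConj hR hRR'
  have hcard := hR'.2 R (isConj_symm hRR')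
  exact AutFix.transport hη (le_normalizerIn hR.1) hmap
    (hom_fix_of_large' hS F hF hXS hXZ k H _ η hη hk) (H R' hR' hc (lt_of_lt_of_le hk hcard))

theorem normalizerIn_le_normalizerIn_sup (S W : Subgroup Ω) :
    normalizerIn S W ≤ normalizerIn S (W ⊔ centralizerIn S W) := by
  intro g hg
  refine ⟨hg.1, mem_normalizer_sup hg.2 ?_⟩
  have key : ∀ g ∈ normalizerIn S W, ∀ c ∈ centralizerIn S W, g * c * g⁻¹ ∈ centralizerIn S W := by
    intro g hg c hc
    refine ⟨S.mul_mem (S.mul_mem hg.1 hc.1) (S.inv_mem hg.1), ?_⟩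
    show _ ∈ Subgroup.centralizer (W : Set Ω)
    rw [Subgroup.mem_centralizer_iff]
    intro w hw
    have h1 : g⁻¹ * w * g ∈ W := inv_conj_mem_of_mem_normalizer hg.2 hw
    have h2 := (Subgroup.mem_centralizer_iff.1 hc.2) _ h1
    calc w * (g * c * g⁻¹) = g * ((g⁻¹ * w * g) * c) * g⁻¹ := by group
      _ = g * (c * (g⁻¹ * w * g)) * g⁻¹ := by rw [h2]
      _ = g * c * g⁻¹ * w := by group
  apply mem_normalizer_of_conj_mem (key g hg)
  intro c hc
  simpa using key g⁻¹ (Subgroup.inv_mem _ hg) c hc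

/-- arbitrary subgroups with large normalizer. -/
theorem autFix_of_large (hS : IsPGroup p S) (F : FusionSystem S) (hF : F.IsSaturated p)
    {X : Subgroup Ω} (hXS : X ≤ S) (hXZ : ∀ g ∈ S, ∀ y ∈ X, g * y * g⁻¹ = y) (k : ℕ)
    (H : ∀ Q, F.IsFullyNormalized Q → F.IsCentric Q → k < Nat.card (normalizerIn S Q) → AutFix F X Q)
    {W : Subgroup Ω} (hW : W ≤ S) (hk : k < Nat.card (normalizerIn S W)) : AutFix F X W := by
  obtain ⟨W', hWW', hW'⟩ := exists_fullyNormalized F hW
  obtain ⟨h0, h1, h2⟩ := sat_fullyNormalized hS hF hW'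
  obtain ⟨θ, hθ, -, hmap⟩ := exists_normalizer_hom hS F h1 h2 hWW'
  have hcard := hW'.2 W (isConj_symm hWW')
  refine AutFix.transport hθ (le_normalizerIn hW) hmap
    (hom_fix_of_large' hS F hF hXS hXZ k H _ θ hθ hk) ?_
  have hRc := Cfsg.Agent.Lib.Helper85.centric_sup_centralizer h0
  have hfin : Finite (normalizerIn S (W' ⊔ centralizerIn S W')) := finite_of_le (normalizerIn_le S _)
  have hk' : k < Nat.card (normalizerIn S (W' ⊔ centralizerIn S W')) :=
    lt_of_lt_of_le (lt_of_lt_of_le hk hcard)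
      (Subgroup.card_le_of_le (normalizerIn_le_normalizerIn_sup S W'))
  have hR := autFix_of_centric_large hS F hF hXS hXZ k H hRc hk'
  intro β hβ y hyX hy
  obtain ⟨β', hβ', hext⟩ := Cfsg.Agent.Lib.Helper85.exists_aut_extension F h2 hβ
  have h3 := hR β' hβ' y hyX ((le_sup_left : W' ≤ _) hy)
  have h4 := hext ⟨y, hy⟩
  have h5 : (Subgroup.inclusion (le_sup_left : W' ≤ W' ⊔ centralizerIn S W') ⟨y, hy⟩) =
      ⟨y, (le_sup_left : W' ≤ _) hy⟩ := rfl
  rw [h5] at h4
  rw [h4] at h3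
  exact h3

/-- The climbing criterion. -/
theorem climb (hS : IsPGroup p S) (F : FusionSystem S) (hF : F.IsSaturated p)
    {X : Subgroup Ω} (hXS : X ≤ S) (hXZ : ∀ g ∈ S, ∀ y ∈ X, g * y * g⁻¹ = y)
    (𝒲 : Subgroup Ω → Subgroup Ω) (h1 : ∀ T ≤ S, 𝒲 T ≤ T)
    (h2 : ∀ T ≤ S, normalizerIn S T ≤ normalizerIn S (𝒲 T))
    (hbase : AutFix F X (𝒲 S))
    (hloc : ∀ Q, F.IsFullyNormalized Q → F.IsCentric Q → AutFix F X (𝒲 (normalizerIn S Q)) →
      AutFix F X Q) : F.IsCentral X := by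
  have main : ∀ d : ℕ, ∀ Q, F.IsFullyNormalized Q → F.IsCentric Q →
      Nat.card S ≤ Nat.card (normalizerIn S Q) + d → AutFix F X Q := by
    intro d
    induction d using Nat.strong_induction_on with
    | _ d ih =>
      intro Q hQn hQc hd
      apply hloc Q hQn hQc
      by_cases hT : normalizerIn S Q = S
      · rw [hT]; exact hbase
      · have hTS : normalizerIn S Q < S := lt_of_le_of_ne (normalizerIn_le S Q) hT
        have hlt := lt_normalizerIn hS hTS
        have hfin : Finite (normalizerIn S (normalizerIn S Q)) := finite_of_le (normalizerIn_le S _)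
        have hfin2 : Finite (normalizerIn S (𝒲 (normalizerIn S Q))) := finite_of_le (normalizerIn_le S _)
        have hc1 : Nat.card (normalizerIn S Q) < Nat.card (normalizerIn S (normalizerIn S Q)) :=
          card_lt_card_of_lt hlt
        have hc2 : Nat.card (normalizerIn S (normalizerIn S Q)) ≤
            Nat.card (normalizerIn S (𝒲 (normalizerIn S Q))) :=
          Subgroup.card_le_of_le (h2 _ hTS.le)
        have hc3 : Nat.card (normalizerIn S Q) < Nat.card S := card_lt_card_of_lt hTS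
        apply autFix_of_large hS F hF hXS hXZ (Nat.card (normalizerIn S Q)) ?_
          ((h1 _ hTS.le).trans hTS.le) (lt_of_lt_of_le hc1 hc2)
        intro Q' hQ'n hQ'c hk
        have hc4 : Nat.card (normalizerIn S Q') ≤ Nat.card S :=
          Subgroup.card_le_of_le (normalizerIn_le S Q')
        exact ih (Nat.card S - Nat.card (normalizerIn S Q')) (by omega) Q' hQ'n hQ'c (by omega)
  refine ⟨hXS, fun P φ hφ => ?_⟩
  have hfinP : Finite P := finite_of_le (F.le_of_mem hφ).1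
  exact hom_fix_of_large hS F hF hXS hXZ 0
    (fun Q hQn hQc _ => main (Nat.card S) Q hQn hQc (by omega)) P φ hφ Nat.card_pos

end

end Cfsg.Agent.Lib.Helper87
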