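import Cfsg.Agent.Lib.Helper84.FusionSat

set_option autoImplicit false

/-! The fusion system on `P` whose maps are the restrictions of a group `A` of automorphisms of `P`
(`F_P(P ⋊ H)` when `A = Inn(P) H`), and its saturation (helper87). -/

namespace Cfsg.Agent.Lib.Helper87

open Cfsg Cfsg.FusionSystem Cfsg.Agent.Lib.Helper84

variable {Ω : Type*} [Group Ω]

/-- the fusion system over `P` whose maps are the restrictions of the elements of `A ≤ Aut(P)`, `Inn(P) ≤ A`. -/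
def autSystem (P : Subgroup Ω) (A : Subgroup (MulAut P)) (hA : Inn P ≤ A) : FusionSystem P where
  Hom R := {φ | ∃ hR : R ≤ P, ∃ a ∈ A, ∀ x : R, φ x = (a ⟨x, hR x.2⟩ : P)}
  le_of_mem := by
    rintro R φ ⟨hR, a, -, h⟩
    exact ⟨hR, fun x => by rw [h x]; exact (a _).2⟩
  injective_of_mem := by
    rintro R φ ⟨hR, a, -, h⟩ x y hxy
    rw [h x, h y] at hxy
    have := a.injective (Subtype.ext hxy)
    ext
    exact congrArg (fun z : P => (z : Ω)) this
  conj_mem := by
    intro R g hR hg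
    exact ⟨hR, MulAut.conj ⟨g, hg⟩, hA ⟨_, rfl⟩, fun x => rfl⟩
  comp_mem := by
    rintro R Q φ ψ ⟨hR, a, ha, h⟩ ⟨hQ, b, hb, h'⟩ hφQ
    refine ⟨hR, b * a, A.mul_mem hb ha, fun x => ?_⟩
    show ψ (φ.codRestrict Q hφQ x) = _
    rw [h', MulAut.mul_apply]
    congr 2
    ext
    exact h x
  inv_mem := by
    rintro R φ ⟨hR, a, ha, h⟩
    have hle : φ.range ≤ P := by
      rintro _ ⟨x, rfl⟩
      rw [h x]; exact (a _).2
    refine ⟨(P.subtype.comp (a⁻¹ : MulAut P).toMonoidHom).comp (Subgroup.inclusion hle),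
      ⟨hle, a⁻¹, A.inv_mem ha, fun x => rfl⟩, fun x => ?_⟩
    show (((a⁻¹ : MulAut P) ⟨φ x, _⟩ : P) : Ω) = x
    have : (⟨φ x, hle ⟨x, rfl⟩⟩ : P) = a ⟨x, hR x.2⟩ := by
      ext
      exact h x
    rw [this]
    simp

theorem mem_autSystem_hom (P : Subgroup Ω) (A : Subgroup (MulAut P)) (hA : Inn P ≤ A)
    (R : Subgroup Ω) (φ : R →* Ω) : φ ∈ (autSystem P A hA).Hom R ↔
      ∃ hR : R ≤ P, ∃ a ∈ A, ∀ x : R, φ x = (a ⟨x, hR x.2⟩ : P) := Iff.rfl

/-- the restriction of `a ∈ A` to `R ≤ P`. -/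
def resAut {P : Subgroup Ω} (a : MulAut P) {R : Subgroup Ω} (hR : R ≤ P) : R →* Ω :=
  (P.subtype.comp a.toMonoidHom).comp (Subgroup.inclusion hR)

theorem resAut_apply {P : Subgroup Ω} (a : MulAut P) {R : Subgroup Ω} (hR : R ≤ P) (x : R) :
    resAut a hR x = (a ⟨x, hR x.2⟩ : P) := rfl

theorem resAut_mem (P : Subgroup Ω) (A : Subgroup (MulAut P)) (hA : Inn P ≤ A) {a : MulAut P}
    (ha : a ∈ A) {R : Subgroup Ω} (hR : R ≤ P) : resAut a hR ∈ (autSystem P A hA).Hom R :=
  ⟨hR, a, ha, fun _ => rfl⟩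

theorem autGroup_autSystem_self (P : Subgroup Ω) (A : Subgroup (MulAut P)) (hA : Inn P ≤ A) :
    (autSystem P A hA).autGroup P = A := by
  ext α
  rw [mem_autGroup_iff _ le_rfl]
  constructor
  · rintro ⟨_, a, ha, h⟩
    have : α = a := by
      ext x
      exact h x
    rwa [this]
  · intro hα
    exact ⟨le_rfl, α, hα, fun _ => rfl⟩

theorem eq_zpow_of_coprime {G : Type*} [Group G] {β : G} {m n : ℕ} (hmn : m.Coprime n)
    (hβ : β ^ n = 1) : ∃ u : ℤ, β = (β ^ m) ^ u := by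
  refine ⟨Nat.gcdA m n, ?_⟩
  have h1 : (m : ℤ) * Nat.gcdA m n + n * Nat.gcdB m n = 1 := by
    have := Nat.gcd_eq_gcd_ab m n
    rw [hmn.gcd_eq_one] at this
    exact_mod_cast this.symm
  calc β = β ^ (1 : ℤ) := (zpow_one β).symm
    _ = β ^ ((m : ℤ) * Nat.gcdA m n + n * Nat.gcdB m n) := by rw [h1]
    _ = (β ^ m) ^ Nat.gcdA m n := by
      rw [zpow_add, zpow_mul, zpow_mul, zpow_natCast, zpow_natCast, hβ, one_zpow, mul_one]

/-- **Saturation of `F_P(P ⋊ H)`.** If `P` is a finite `p`-group and `A/Inn(P)` has exponent prime to `p`, the system of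
restrictions of elements of `A` is saturated (every subgroup is fully automized and receptive). -/
theorem autSystem_saturated {P : Subgroup Ω} [Finite P] {p : ℕ} [Fact p.Prime] (hP : IsPGroup p P)
    (A : Subgroup (MulAut P)) (hA : Inn P ≤ A) (m : ℕ) (hm : m.Coprime p)
    (hAm : ∀ a ∈ A, a ^ m ∈ Inn P) : (autSystem P A hA).IsSaturated p := by
  intro R hR
  refine ⟨R, isConj_refl _ hR, ⟨hR, ?_⟩, hR, ?_⟩
  · -- fully automized
    set E := autSystem P A hA with hE
    have hT : IsPGroup p ((autInducedBy P R).subgroupOf (E.autGroup R)) :=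
      (isPGroup_autInducedBy hP R).comap_subtype
    refine ⟨⟨(autInducedBy P R).subgroupOf (E.autGroup R), hT, ?_⟩, rfl⟩
    intro Q hQ hTQ
    apply le_antisymm _ hTQ
    intro β hβ
    obtain ⟨k, hk⟩ := hQ ⟨β, hβ⟩
    have hk' : β ^ p ^ k = 1 := congrArg Subtype.val hk
    obtain ⟨_, a, ha, hβa⟩ := (mem_autGroup_iff E hR (β : MulAut R)).1 β.2
    have hβa' : ∀ x : R, (((β : MulAut R) x : R) : Ω) = (a ⟨x, hR x.2⟩ : P) := hβa
    have hpow : ∀ (j : ℕ) (x : R), ((((β : MulAut R) ^ j) x : R) : Ω) = ((a ^ j) ⟨x, hR x.2⟩ : P) := by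
      intro j
      induction j with
      | zero => intro x; simp
      | succ j ih =>
        intro x
        rw [pow_succ', pow_succ', MulAut.mul_apply, MulAut.mul_apply, hβa']
        congr 2
        ext
        exact ih x
    have hm' : (β ^ m : E.autGroup R) ∈ (autInducedBy P R).subgroupOf (E.autGroup R) := by
      obtain ⟨g, hg⟩ := hAm a ha
      rw [Subgroup.mem_subgroupOf, mem_autInducedBy_iff]
      refine ⟨g, g.2, fun x => ?_⟩
      have := hpow m x
      rw [← hg] at this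
      exact this
    obtain ⟨u, hu⟩ := eq_zpow_of_coprime (hm.pow_right k) hk'
    rw [hu]
    exact Subgroup.zpow_mem _ hm' u
  · -- receptive
    rintro R₀ φ ⟨hR₀, a, ha, h⟩ -
    have hle : extender P R₀ φ ≤ P := (extender_le P R₀ φ).trans inf_le_left
    exact ⟨resAut a hle, resAut_mem P A hA ha hle, fun x hx _ => (h ⟨x, hx⟩).symm⟩

/-- the system of restrictions of `A ≤ Aut_F(P)` is a subsystem of `F`. -/
theorem autSystem_isSubsystemOf {S : Subgroup Ω} (F : FusionSystem S) {P : Subgroup Ω} (hPS : P ≤ S)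
    (A : Subgroup (MulAut P)) (hA : Inn P ≤ A) (hAF : A ≤ F.autGroup P) :
    (autSystem P A hA).IsSubsystemOf F := by
  rintro R φ ⟨hR, a, ha, h⟩
  have h1 : Mor F a.toMonoidHom := (mem_autGroup_iff F hPS a).1 (hAF ha)
  have h2 := restrict_mem F h1 hR
  have : φ = (P.subtype.comp a.toMonoidHom).comp (Subgroup.inclusion hR) := by
    ext x
    exact h x
  rw [this]
  exact h2

end Cfsg.Agent.Lib.Helper87
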