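import Cfsg.Agent.Lib.Helper87.AxZJ

set_option autoImplicit false

/-! The axiomatic Glauberman–Thompson criterion: transport to groups containing `S` as a Sylow subgroup (helper87). -/

namespace Cfsg.Agent.Lib.Helper87

open Cfsg Cfsg.FusionSystem Cfsg.Agent.Lib.Helper84 Cfsg.Agent.Lib.Helper85

universe u

section
variable {Ω : Type u} [Group Ω] {S : Subgroup Ω} {G : Type u} [Group G]

/-- The elements of `G` induce automorphisms in `F`. -/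
def RealIn (F : FusionSystem S) (ι : S →* G) : Prop :=
  ∀ (P : Subgroup Ω) (hP : P ≤ S) (g : G),
    (∀ x : P, ∃ y : P, ι ⟨y, hP y.2⟩ = g * ι ⟨x, hP x.2⟩ * g⁻¹) →
    ∃ α ∈ F.autGroup P, ∀ x : P, ι ⟨α x, hP (α x).2⟩ = g * ι ⟨x, hP x.2⟩ * g⁻¹

theorem mem_im {ι : S →* G} (hι : Function.Injective ι) (A : Subgroup Ω) (s : S) :
    ι s ∈ (A.subgroupOf S).map ι ↔ (s : Ω) ∈ A := by
  constructor
  · rintro ⟨t, ht, hts⟩
    rw [← hι hts]
    exact ht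
  · intro h
    exact ⟨s, h, rfl⟩

theorem realIn_pow {ι : S →* G} {P : Subgroup Ω} (hP : P ≤ S) {g : G}
    {α : MulAut P} (h : ∀ x : P, ι ⟨α x, hP (α x).2⟩ = g * ι ⟨x, hP x.2⟩ * g⁻¹) (n : ℕ) :
    ∀ x : P, ι ⟨(α ^ n) x, hP ((α ^ n) x).2⟩ = g ^ n * ι ⟨x, hP x.2⟩ * (g ^ n)⁻¹ := by
  induction n with
  | zero => intro x; simp
  | succ n ih =>
    intro x
    have e : (α ^ (n + 1)) x = α ((α ^ n) x) := by rw [pow_succ', MulAut.mul_apply]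
    have e2 : (⟨(α ^ (n + 1)) x, hP ((α ^ (n + 1)) x).2⟩ : S) =
        ⟨α ((α ^ n) x), hP (α ((α ^ n) x)).2⟩ := by
      apply Subtype.ext
      show (((α ^ (n + 1)) x : P) : Ω) = ((α ((α ^ n) x) : P) : Ω)
      rw [e]
    rw [e2, h, ih, pow_succ']
    group

theorem axiomatic_top [Finite S] [Finite G] {p : ℕ} [Fact p.Prime] (hp : p ≠ 2)
    (F : FusionSystem S) (𝒜 : Set (Subgroup Ω))
    (h𝒜 : ∀ A ∈ 𝒜, A ≤ S ∧ IsMulCommutative ↥A) (hne : 𝒜.Nonempty)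
    (hinv : ∀ Q : Subgroup Ω, Q ≤ S → (∃ A ∈ 𝒜, A ≤ Q) → ∀ α ∈ F.autGroup Q, ∀ x : Q,
      (∀ A ∈ 𝒜, A ≤ Q → (x : Ω) ∈ A) → ∀ A ∈ 𝒜, A ≤ Q → ((α x : Q) : Ω) ∈ A)
    (hrep : ∀ B : Subgroup Ω, B ≤ S → ⁅⁅B, B⁆, B⁆ = ⊥ → (∃ A ∈ 𝒜, ⁅B, B⁆ ≤ A ∧ ¬ B ≤ A) →
      ∃ A ∈ 𝒜, ⁅B, B⁆ ≤ A ∧ ¬ B ≤ A ∧ B ≤ Subgroup.normalizer (A : Set Ω))
    (X : Subgroup Ω) (hX : ∀ x, x ∈ X ↔ ∀ A ∈ 𝒜, x ∈ A)
    (hNI : Cfsg.Agent.Lib.Helper88.NI p F X)
    (ι : S →* G) (hι : Function.Injective ι) (P₀ : Sylow p G) (hP₀ : (P₀ : Subgroup G) = ι.range)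
    (hC : Subgroup.centralizer ((pCore p G : Subgroup G) : Set G) ≤ pCore p G)
    (hmax : ∀ K : Subgroup G, (P₀ : Subgroup G) ≤ K → K = P₀ ∨ K = ⊤)
    (hreal : RealIn F ι) : (P₀ : Subgroup G) = ⊤ := by
  have him_le : ∀ A : Subgroup Ω, (A.subgroupOf S).map ι ≤ P₀ := by
    rintro A _ ⟨s, -, rfl⟩
    rw [hP₀]
    exact ⟨s, rfl⟩
  obtain ⟨A₀, hA₀⟩ := hne
  have hXS : X ≤ S := fun x hx => (h𝒜 A₀ hA₀).1 ((hX x).1 hx A₀ hA₀)
  -- elements normalizing a subgroup of the Sylow subgroup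
  have haut : ∀ (U : Subgroup G), U ≤ P₀ → ∀ g ∈ Subgroup.normalizer (U : Set G),
      ∃ α ∈ F.autGroup (preimageAlong ι U), ∀ x : ↥(preimageAlong ι U),
        ι ⟨α x, preimageAlong_le ι U (α x).2⟩ = g * ι ⟨x, preimageAlong_le ι U x.2⟩ * g⁻¹ := by
    intro U hU g hg
    apply hreal _ (preimageAlong_le ι U)
    intro x
    have h1 : g * ι ⟨x, preimageAlong_le ι U x.2⟩ * g⁻¹ ∈ U :=
      conj_mem_of_mem_normalizer hg (mem_preimageAlong.1 x.2).2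
    obtain ⟨s, hs⟩ := (hP₀ ▸ hU) h1
    exact ⟨⟨s, mem_preimageAlong.2 ⟨s.2, by rw [Subtype.coe_eta, hs]; exact h1⟩⟩, hs⟩
  have hXn : ((X.subgroupOf S).map ι).Normal := by
    apply axiomatic_zj hp P₀ hC hmax ((fun A : Subgroup Ω => (A.subgroupOf S).map ι) '' 𝒜)
    · rintro _ ⟨A, hA, rfl⟩
      refine ⟨him_le A, ?_⟩
      rintro _ ⟨s, hs, rfl⟩ _ ⟨t, ht, rfl⟩
      have := (h𝒜 A hA).2
      have h1 : (⟨s, hs⟩ : A) * ⟨t, ht⟩ = ⟨t, ht⟩ * ⟨s, hs⟩ := mul_comm' _ _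
      have h1' : (s : Ω) * (t : Ω) = (t : Ω) * (s : Ω) := congrArg (fun a : A => (a : Ω)) h1
      have h2 : s * t = t * s := Subtype.ext h1'
      rw [← map_mul, ← map_mul, h2]
    · exact ⟨_, A₀, hA₀, rfl⟩
    · rintro Q' hQ' ⟨_, ⟨A₁, hA₁, rfl⟩, hA₁Q⟩ g hg x' hx' _ ⟨A, hA, rfl⟩ hAQ
      obtain ⟨α, hα, hαg⟩ := haut Q' hQ' g hg
      have hle : ∀ A : Subgroup Ω, A ≤ S →
          ((A.subgroupOf S).map ι ≤ Q' ↔ A ≤ preimageAlong ι Q') := by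
        intro A hAS
        constructor
        · intro h a ha
          exact mem_preimageAlong.2 ⟨hAS ha, h ⟨⟨a, hAS ha⟩, ha, rfl⟩⟩
        · rintro h _ ⟨s, hs, rfl⟩
          exact (mem_preimageAlong.1 (h hs)).2
      obtain ⟨s, hs, rfl⟩ := hx' _ ⟨A₁, hA₁, rfl⟩ hA₁Q
      have hsQ : (s : Ω) ∈ preimageAlong ι Q' := ((hle A₁ (h𝒜 A₁ hA₁).1).1 hA₁Q) hs
      have h1 := hinv _ (preimageAlong_le ι Q') ⟨A₁, hA₁, (hle A₁ (h𝒜 A₁ hA₁).1).1 hA₁Q⟩ α hα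
        ⟨s, hsQ⟩ (fun A' hA' hA'Q => (mem_im hι A' s).1
          (hx' _ ⟨A', hA', rfl⟩ ((hle A' (h𝒜 A' hA').1).2 hA'Q))) A hA
        ((hle A (h𝒜 A hA).1).1 hAQ)
      have h2 := hαg ⟨s, hsQ⟩
      rw [Subtype.coe_eta] at h2
      rw [← h2]
      exact (mem_im hι A _).2 h1
    · rintro B' hB' hcl ⟨_, ⟨A₁, hA₁, rfl⟩, hBA₁, hnBA₁⟩
      have hB₀ : (B'.comap ι).map ι = B' := by
        rw [Subgroup.map_comap_eq, ← hP₀, inf_eq_right.2 hB']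
      have hsi := Subgroup.subtype_injective S
      have hcomm : ∀ f : S →* G, ⁅(B'.comap ι).map f, (B'.comap ι).map f⁆ =
          (⁅B'.comap ι, B'.comap ι⁆).map f := fun f => (Subgroup.map_commutator _ _ f).symm
      have hcommΩ : ⁅(B'.comap ι).map S.subtype, (B'.comap ι).map S.subtype⁆ =
          (⁅B'.comap ι, B'.comap ι⁆).map S.subtype := (Subgroup.map_commutator _ _ _).symm
      have hAeq : ∀ A : Subgroup Ω, A ≤ S → (A.subgroupOf S).map S.subtype = A :=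
        fun A hA => Subgroup.map_subgroupOf_eq_of_le hA
      have key1 : ∀ A : Subgroup Ω, A ≤ S → (⁅B', B'⁆ ≤ (A.subgroupOf S).map ι ↔
          ⁅(B'.comap ι).map S.subtype, (B'.comap ι).map S.subtype⁆ ≤ A) := by
        intro A hA
        nth_rewrite 1 [← hB₀]
        nth_rewrite 2 [← hB₀]
        rw [hcomm, hcommΩ, Subgroup.map_le_map_iff_of_injective hι]
        nth_rewrite 2 [← hAeq A hA]
        rw [Subgroup.map_le_map_iff_of_injective hsi]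
      have key2 : ∀ A : Subgroup Ω, A ≤ S → (B' ≤ (A.subgroupOf S).map ι ↔
          (B'.comap ι).map S.subtype ≤ A) := by
        intro A hA
        nth_rewrite 1 [← hB₀]
        rw [Subgroup.map_le_map_iff_of_injective hι]
        nth_rewrite 2 [← hAeq A hA]
        rw [Subgroup.map_le_map_iff_of_injective hsi]
      have hclΩ : ⁅⁅(B'.comap ι).map S.subtype, (B'.comap ι).map S.subtype⁆,
          (B'.comap ι).map S.subtype⁆ = ⊥ := by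
        rw [hcommΩ, ← Subgroup.map_commutator, Subgroup.map_eq_bot_iff_of_injective _ hsi,
          ← Subgroup.map_eq_bot_iff_of_injective _ hι, Subgroup.map_commutator,
          Subgroup.map_commutator, hB₀]
        exact hcl
      obtain ⟨A, hA, h1, h2, h3⟩ := hrep ((B'.comap ι).map S.subtype) (Subgroup.map_subtype_le _)
        hclΩ ⟨A₁, hA₁, (key1 A₁ (h𝒜 A₁ hA₁).1).1 hBA₁,
          fun h => hnBA₁ ((key2 A₁ (h𝒜 A₁ hA₁).1).2 h)⟩
      refine ⟨_, ⟨A, hA, rfl⟩, (key1 A (h𝒜 A hA).1).2 h1,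
        fun h => h2 ((key2 A (h𝒜 A hA).1).1 h), ?_⟩
      intro b' hb'
      obtain ⟨b, rfl⟩ := (hP₀ ▸ hB') hb'
      have hbN : (b : Ω) ∈ Subgroup.normalizer (A : Set Ω) := h3 ⟨b, hb', rfl⟩
      apply Cfsg.Agent.Lib.Helper84.mem_normalizer_of_finite
      rintro _ ⟨a, ha, rfl⟩
      rw [← map_inv, ← map_mul, ← map_mul]
      exact (mem_im hι A _).2 (conj_mem_of_mem_normalizer hbN ha)
    · intro y
      constructor
      · rintro ⟨s, hs, rfl⟩ _ ⟨A, hA, rfl⟩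
        exact (mem_im hι A s).2 ((hX _).1 hs A hA)
      · intro h
        obtain ⟨s, -, rfl⟩ := h _ ⟨A₀, hA₀, rfl⟩
        refine (mem_im hι X s).2 ((hX _).2 (fun A hA => ?_))
        exact (mem_im hι A s).1 (h _ ⟨A, hA, rfl⟩)
  have hfinX : Finite X := finite_of_le hXS
  have hSX : S ≤ Subgroup.normalizer (X : Set Ω) := by
    intro s hs
    apply Cfsg.Agent.Lib.Helper84.mem_normalizer_of_finite
    intro x hx
    have h1 := hXn.conj_mem _ ((mem_im hι X ⟨x, hXS hx⟩).2 hx) (ι ⟨s, hs⟩)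
    rw [← map_inv, ← map_mul, ← map_mul] at h1
    exact (mem_im hι X _).1 h1
  have hfrob : Frob p (P₀ : Subgroup G) := by
    intro U hU g hgU hgo
    have hUX : U ⊔ (X.subgroupOf S).map ι ≤ P₀ := sup_le hU (him_le X)
    obtain ⟨α, hα, hαg⟩ := haut _ hUX g (mem_normalizer_sup hgU
      (by rw [Subgroup.normalizer_eq_top]; trivial))
    have hP := preimageAlong_le ι (U ⊔ (X.subgroupOf S).map ι)
    obtain ⟨k, hk⟩ := hNI _
      (fun x hx => mem_preimageAlong.2 ⟨hXS hx, (le_sup_right : _ ≤ U ⊔ (X.subgroupOf S).map ι)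
        ((mem_im hι X ⟨x, hXS hx⟩).2 hx)⟩)
      (fun x hx => ⟨hP hx, hSX (hP hx)⟩) α hα (by
        intro x hx
        have h1 := hXn.conj_mem _ ((mem_im hι X ⟨x, hP x.2⟩).2 hx) g
        rw [← hαg x] at h1
        exact (mem_im hι X _).1 h1)
    have hpow := realIn_pow hP hαg (p ^ k)
    rw [hk] at hpow
    obtain ⟨m, hm⟩ := exists_pow_eq_self_of_coprime (x := g) (n := p ^ k)
      (Nat.Coprime.pow_left k hgo.symm)
    rw [Subgroup.mem_centralizer_iff]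
    intro u hu
    obtain ⟨s, rfl⟩ := (hP₀ ▸ hU) hu
    have hsP : (s : Ω) ∈ preimageAlong ι (U ⊔ (X.subgroupOf S).map ι) :=
      mem_preimageAlong.2 ⟨s.2, (le_sup_left : U ≤ U ⊔ (X.subgroupOf S).map ι) hu⟩
    have h1 := hpow ⟨s, hsP⟩
    rw [MulAut.one_apply, eq_mul_inv_iff_mul_eq] at h1
    have hc : Commute (g ^ (p ^ k)) (ι s) := h1.symm
    have h2 := hc.pow_left m
    rw [hm] at h2
    exact h2.eq.symm
  exact Cfsg.Agent.Lib.Helper88.sylow_eq_top_of_hasNormalPComplement hC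
    (hasNormalPComplement_of_frob' P₀ hfrob) P₀

end

end Cfsg.Agent.Lib.Helper87
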