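import Cfsg.Agent.Lib.Helper87.AxGT
import Cfsg.Agent.Lib.Helper87.GenExtra3

set_option autoImplicit false

/-! The axiomatic Glauberman–Thompson criterion for fusion systems (helper87). -/

namespace Cfsg.Agent.Lib.Helper87

open Cfsg Cfsg.FusionSystem Cfsg.Agent.Lib.Helper84 Cfsg.Agent.Lib.Helper85

universe u

variable {Ω : Type u} [Group Ω] {S : Subgroup Ω}

theorem axiomatic_model_top [Finite S] {L : Type u} [Group L] [Finite L] {p : ℕ} [Fact p.Prime]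
    (hp : p ≠ 2) (F : FusionSystem S) (𝒜 : Set (Subgroup Ω))
    (h𝒜 : ∀ A ∈ 𝒜, A ≤ S ∧ IsMulCommutative ↥A) (hne : 𝒜.Nonempty)
    (hinv : ∀ Q : Subgroup Ω, Q ≤ S → (∃ A ∈ 𝒜, A ≤ Q) → ∀ α ∈ F.autGroup Q, ∀ x : Q,
      (∀ A ∈ 𝒜, A ≤ Q → (x : Ω) ∈ A) → ∀ A ∈ 𝒜, A ≤ Q → ((α x : Q) : Ω) ∈ A)
    (hrep : ∀ B : Subgroup Ω, B ≤ S → ⁅⁅B, B⁆, B⁆ = ⊥ → (∃ A ∈ 𝒜, ⁅B, B⁆ ≤ A ∧ ¬ B ≤ A) →
      ∃ A ∈ 𝒜, ⁅B, B⁆ ≤ A ∧ ¬ B ≤ A ∧ B ≤ Subgroup.normalizer (A : Set Ω))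
    (X : Subgroup Ω) (hX : ∀ x, x ∈ X ↔ ∀ A ∈ 𝒜, x ∈ A)
    (hNI : Cfsg.Agent.Lib.Helper88.NI p F X)
    (ι : S →* L) (hι : Function.Injective ι) (P₀ : Sylow p L) (hP₀ : (P₀ : Subgroup L) = ι.range)
    (hC : Subgroup.centralizer ((pCore p L : Subgroup L) : Set L) ≤ pCore p L)
    (hreal : RealIn F ι) : (P₀ : Subgroup L) = ⊤ := by
  by_contra hne'
  obtain ⟨H, hH, hmin⟩ := Set.exists_min_image {H : Subgroup L | (P₀ : Subgroup L) < H}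
    (fun H => Nat.card H) (Set.toFinite _) ⟨⊤, lt_top_iff_ne_top.2 hne'⟩
  have hle : (P₀ : Subgroup L) ≤ H := (show (P₀ : Subgroup L) < H from hH).le
  have hιH : ∀ s, ι s ∈ H := fun s => hle (hP₀ ▸ ⟨s, rfl⟩)
  have h := axiomatic_top hp F 𝒜 h𝒜 hne hinv hrep X hX hNI (ι.codRestrict H hιH)
    (fun a b hab => hι (congrArg Subtype.val hab)) (P₀.subtype hle) ?_ ?_ ?_ ?_
  · apply (show (P₀ : Subgroup L) < H from hH).not_ge
    intro x hx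
    have h1 : (⟨x, hx⟩ : H) ∈ ((P₀.subtype hle : Sylow p H) : Subgroup H) := h ▸ Subgroup.mem_top _
    exact h1
  · ext ⟨y, hy⟩
    rw [Sylow.coe_subtype, Subgroup.mem_subgroupOf]
    constructor
    · intro h1
      obtain ⟨s, hs⟩ := (hP₀ ▸ h1 : y ∈ ι.range)
      exact ⟨s, Subtype.ext hs⟩
    · rintro ⟨s, hs⟩
      show y ∈ (P₀ : Subgroup L)
      rw [hP₀]
      exact ⟨s, congrArg Subtype.val hs⟩
  · have h1 : (pCore p L).subgroupOf H ≤ pCore p ↥H :=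
      Cfsg.Agent.Lib.Lead.le_pCore ((Cfsg.Agent.Lib.Lead.pCore_normal' p L).subgroupOf H)
        ((Cfsg.Agent.Lib.Lead.pCore_isPGroup p L).comap_of_injective _ H.subtype_injective)
    intro c hc
    apply h1
    show (c : L) ∈ pCore p L
    apply hC
    rw [Subgroup.mem_centralizer_iff]
    intro x hx
    have hxH : x ∈ H := hle (Cfsg.Agent.Lib.Lead.pCore_le_sylow P₀ hx)
    exact congrArg Subtype.val ((Subgroup.mem_centralizer_iff.1 hc) ⟨x, hxH⟩ (h1 hx))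
  · intro K hK
    have hK' : (P₀ : Subgroup L) ≤ K.map H.subtype := by
      intro x hx
      exact ⟨⟨x, hle hx⟩, hK hx, rfl⟩
    have hKH : K.map H.subtype ≤ H := Subgroup.map_subtype_le K
    have hKeq : (K.map H.subtype).subgroupOf H = K :=
      Subgroup.comap_map_eq_self_of_injective H.subtype_injective K
    by_cases hc : K.map H.subtype = P₀
    · left
      rw [← hKeq, hc, Sylow.coe_subtype]
    · right
      have hlt : (P₀ : Subgroup L) < K.map H.subtype := lt_of_le_of_ne hK' (Ne.symm hc)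
      have h2 := hmin _ hlt
      have h3 : K.map H.subtype = H := Subgroup.eq_of_le_of_card_ge hKH h2
      rw [← hKeq, h3]
      exact Subgroup.subgroupOf_self H
  · intro P hP g hg
    obtain ⟨α, hα, h⟩ := hreal P hP (g : L) (fun x => by
      obtain ⟨y, hy⟩ := hg x
      exact ⟨y, congrArg Subtype.val hy⟩)
    exact ⟨α, hα, fun x => Subtype.ext (h x)⟩

theorem axiomatic_model_top' [Finite S] {L : Type u} [Group L] [Finite L] {p : ℕ} [Fact p.Prime]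
    (hp : p ≠ 2) (F : FusionSystem S) (𝒜 : Set (Subgroup Ω))
    (h𝒜 : ∀ A ∈ 𝒜, A ≤ S ∧ IsMulCommutative ↥A) (hne : 𝒜.Nonempty)
    (hinv : ∀ Q : Subgroup Ω, Q ≤ S → (∃ A ∈ 𝒜, A ≤ Q) → ∀ α ∈ F.autGroup Q, ∀ x : Q,
      (∀ A ∈ 𝒜, A ≤ Q → (x : Ω) ∈ A) → ∀ A ∈ 𝒜, A ≤ Q → ((α x : Q) : Ω) ∈ A)
    (hrep : ∀ B : Subgroup Ω, B ≤ S → ⁅⁅B, B⁆, B⁆ = ⊥ → (∃ A ∈ 𝒜, ⁅B, B⁆ ≤ A ∧ ¬ B ≤ A) →
      ∃ A ∈ 𝒜, ⁅B, B⁆ ≤ A ∧ ¬ B ≤ A ∧ B ≤ Subgroup.normalizer (A : Set Ω))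
    (X : Subgroup Ω) (hX : ∀ x, x ∈ X ↔ ∀ A ∈ 𝒜, x ∈ A)
    (hNI : Cfsg.Agent.Lib.Helper88.NI p F X)
    {T : Subgroup Ω} (hT : T = S)
    (ι : T →* L) (hι : Function.Injective ι) (P₀ : Sylow p L) (hP₀ : (P₀ : Subgroup L) = ι.range)
    (hC : Subgroup.centralizer ((pCore p L : Subgroup L) : Set L) ≤ pCore p L)
    (hreal : ∀ (P : Subgroup Ω) (hP : P ≤ T) (g : L),
      (∀ x : P, ∃ y : P, ι ⟨y, hP y.2⟩ = g * ι ⟨x, hP x.2⟩ * g⁻¹) →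
      ∃ α ∈ F.autGroup P, ∀ x : P, ι ⟨α x, hP (α x).2⟩ = g * ι ⟨x, hP x.2⟩ * g⁻¹) :
    (P₀ : Subgroup L) = ⊤ := by
  subst hT
  exact axiomatic_model_top hp F 𝒜 h𝒜 hne hinv hrep X hX hNI ι hι P₀ hP₀ hC hreal

theorem eq_inner_of_axiomatic [Finite S] {p : ℕ} [Fact p.Prime] (hS : IsPGroup p S) (hp : p ≠ 2)
    (F : FusionSystem S) (hF : F.IsSaturated p) (𝒜 : Set (Subgroup Ω))
    (h𝒜 : ∀ A ∈ 𝒜, A ≤ S ∧ IsMulCommutative ↥A) (hne : 𝒜.Nonempty)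
    (hinv : ∀ Q : Subgroup Ω, Q ≤ S → (∃ A ∈ 𝒜, A ≤ Q) → ∀ α ∈ F.autGroup Q, ∀ x : Q,
      (∀ A ∈ 𝒜, A ≤ Q → (x : Ω) ∈ A) → ∀ A ∈ 𝒜, A ≤ Q → ((α x : Q) : Ω) ∈ A)
    (hrep : ∀ B : Subgroup Ω, B ≤ S → ⁅⁅B, B⁆, B⁆ = ⊥ → (∃ A ∈ 𝒜, ⁅B, B⁆ ≤ A ∧ ¬ B ≤ A) →
      ∃ A ∈ 𝒜, ⁅B, B⁆ ≤ A ∧ ¬ B ≤ A ∧ B ≤ Subgroup.normalizer (A : Set Ω))
    (X : Subgroup Ω) (hX : ∀ x, x ∈ X ↔ ∀ A ∈ 𝒜, x ∈ A)
    (hNI : Cfsg.Agent.Lib.Helper88.NI p F X) : F = innerFusionSystem S := by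
  apply eq_inner_of_characteristic hS F hF (Or.inl hp)
  intro R hRS hRne hRchar
  have hSN : S ≤ Subgroup.normalizer (R : Set Ω) :=
    Subgroup.le_normalizer.trans (normalizer_le_of_characteristic hRS hRchar)
  have hRfn := fullyNormalized_of_normal F hRS hSN
  obtain ⟨hfc, -, hrec⟩ := sat_fullyNormalized hS hF hRfn
  apply isPGroup_autGroup_of_sup hrec
  have hQc := centric_sup_centralizer hfc
  have hNR : normalizerIn S R = S := inf_eq_left.2 hSN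
  have hSNQ : S ≤ Subgroup.normalizer ((R ⊔ centralizerIn S R : Subgroup Ω) : Set Ω) := by
    intro s hs
    exact (normalizerIn_le_normalizerIn_sup S R (hNR.symm ▸ hs : s ∈ normalizerIn S R)).2
  obtain ⟨Q, hQdef⟩ : ∃ Q, Q = R ⊔ centralizerIn S R := ⟨_, rfl⟩
  rw [← hQdef] at hQc hSNQ ⊢
  have hQS : Q ≤ S := hQc.1
  have hQn := fullyNormalized_of_normal F hQS hSNQ
  have hNS : normalizerIn S Q = S := inf_eq_left.2 hSNQ
  obtain ⟨EQ, hE⟩ := Cfsg.Agent.S5096.result F Q hQS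
  have hcon := constrained_normalizerSystem hS hF hQn hQc hE
  have hfinT : Finite (normalizerIn S Q) := finite_of_le (normalizerIn_le S Q)
  have hTp : IsPGroup p (normalizerIn S Q) := hS.to_le (normalizerIn_le S Q)
  obtain ⟨L, _, ι, hM⟩ := Cfsg.Agent.S5090.result p hTp EQ hcon
  obtain ⟨hfinL, hr, ⟨P₀, hP₀⟩, hCL⟩ := hM
  have htop := axiomatic_model_top' hp F 𝒜 h𝒜 hne hinv hrep X hX hNI hNS ι hr.1 P₀ hP₀ hCL (by
    intro P hP g hg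
    have hPS : P ≤ S := hP.trans (normalizerIn_le S Q)
    obtain ⟨ψ, hψ, hψT, hψ'⟩ := realized_exists_hom hr hP g (fun x => by
      obtain ⟨y, hy⟩ := hg x
      exact ⟨_, hy⟩)
    have hψF : ψ ∈ F.Hom P := Cfsg.Agent.Lib.Helper88.normalizerSystem_subsystem hE P hψ
    have hmem : ∀ x, ψ x ∈ P := by
      intro x
      obtain ⟨y, hy⟩ := hg x
      have h1 := hr.1 ((hψ' x).trans hy.symm)
      have h2 : ψ x = y := congrArg Subtype.val h1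
      rw [h2]
      exact y.2
    have hinj := F.injective_of_mem hψF
    have : Finite P := finite_of_le hPS
    have hrange : ψ.range = P := by
      apply Subgroup.eq_of_le_of_card_ge
      · rintro _ ⟨x, rfl⟩
        exact hmem x
      · exact (Nat.card_congr (MonoidHom.ofInjective hinj).toEquiv).le
    exact ⟨equivOfRange ψ hinj hrange,
      (mem_autGroup_iff F hPS _).2 (mor_equivOfRange F hψF hrange), fun x => hψ' x⟩)
  have hQT : Q ≤ normalizerIn S Q := Cfsg.Agent.Lib.Helper84.le_normalizerIn hQS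
  rintro ⟨α, hα⟩
  have hαE := Cfsg.Agent.Lib.Helper88.mem_autGroup_normalizerSystem hE le_rfl hQT hα
    (fun x _ => (α x).2)
  rw [mem_autGroup_iff _ hQT] at hαE
  obtain ⟨g, hg⟩ := (hr.2 Q hQT _ (fun x => hQT (α x).2)).1 hαE
  have hgT : g ∈ ι.range := by
    rw [← hP₀, htop]
    trivial
  obtain ⟨s, rfl⟩ := hgT
  have hαS : α ∈ autInducedBy (normalizerIn S Q) Q := by
    rw [Cfsg.Agent.Lib.Helper84.mem_autInducedBy_iff]
    refine ⟨s, s.2, fun x => ?_⟩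
    have h1 := hg x
    rw [← map_inv, ← map_mul, ← map_mul] at h1
    exact congrArg (fun s : normalizerIn S Q => (s : Ω)) (hr.1 h1)
  obtain ⟨k, hk⟩ := isPGroup_autInducedBy hTp Q ⟨α, hαS⟩
  have hk' : α ^ p ^ k = 1 := congrArg Subtype.val hk
  exact ⟨k, Subtype.ext hk'⟩

end Cfsg.Agent.Lib.Helper87
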