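import Cfsg.Agent.Lib.Helper87.MaxSylow

set_option autoImplicit false

/-! An axiomatic `ZJ`-theorem for groups of characteristic `p` in which a Sylow `p`-subgroup is maximal (helper87). -/

namespace Cfsg.Agent.Lib.Helper87

open Cfsg Cfsg.Agent.Lib.Helper84 Cfsg.Agent.Lib.Lead

universe u

theorem commutator_lt_of_isPGroup {G : Type*} [Group G] {p : ℕ} [Fact p.Prime] {B : Subgroup G}
    [Finite B] (hB : IsPGroup p B) (hne : B ≠ ⊥) : ⁅B, B⁆ < B := by
  have : Nontrivial B := (Subgroup.nontrivial_iff_ne_bot _).2 hne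
  have : Group.IsNilpotent B := hB.isNilpotent
  have h := Group.IsSolvable.commutator_lt_top_of_nontrivial ↥B
  rw [← B.range_subtype, MonoidHom.range_eq_map, ← Subgroup.map_commutator,
    Subgroup.map_subtype_lt_map_subtype]
  exact h

theorem comm_mem_of_normalClosure {G : Type*} [Group G] (Y B : Subgroup G) [hY : Y.Normal]
    [hB : B.Normal] (s : Set G) (h : ∀ x ∈ s, ∀ b ∈ B, x * b * x⁻¹ * b⁻¹ ∈ Y) :
    ∀ d ∈ Subgroup.normalClosure s, ∀ b ∈ B, d * b * d⁻¹ * b⁻¹ ∈ Y := by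
  have hBn : (B.map (QuotientGroup.mk' Y)).Normal := hB.map _ (QuotientGroup.mk'_surjective Y)
  have hle : Subgroup.normalClosure s ≤ (Subgroup.centralizer
      ((B.map (QuotientGroup.mk' Y) : Subgroup (G ⧸ Y)) : Set (G ⧸ Y))).comap
      (QuotientGroup.mk' Y) := by
    apply Subgroup.normalClosure_le_normal
    intro x hx
    show QuotientGroup.mk' Y x ∈ Subgroup.centralizer _
    rw [Subgroup.mem_centralizer_iff]
    rintro _ ⟨b, hb, rfl⟩
    have h1 : QuotientGroup.mk' Y (x * b * x⁻¹ * b⁻¹) = 1 :=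
      (QuotientGroup.eq_one_iff _).2 (h x hx b hb)
    rw [map_mul, map_mul, map_mul, map_inv, map_inv, mul_inv_eq_one, mul_inv_eq_iff_eq_mul] at h1
    exact h1.symm
  intro d hd b hb
  have h1 := (Subgroup.mem_centralizer_iff.1 (hle hd)) _ ⟨b, hb, rfl⟩
  rw [← QuotientGroup.eq_one_iff]
  show QuotientGroup.mk' Y (d * b * d⁻¹ * b⁻¹) = 1
  rw [map_mul, map_mul, map_mul, map_inv, map_inv, ← h1]
  group

theorem axiomatic_zj {G : Type u} [Group G] [Finite G] {p : ℕ} [Fact p.Prime] (hp : p ≠ 2)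
    (S : Sylow p G)
    (hC : Subgroup.centralizer ((pCore p G : Subgroup G) : Set G) ≤ pCore p G)
    (hmax : ∀ K : Subgroup G, (S : Subgroup G) ≤ K → K = S ∨ K = ⊤)
    (𝒜 : Set (Subgroup G)) (h𝒜 : ∀ A ∈ 𝒜, A ≤ S ∧ ∀ a ∈ A, ∀ b ∈ A, a * b = b * a)
    (hne : 𝒜.Nonempty)
    (hinv : ∀ Q : Subgroup G, Q ≤ S → (∃ A ∈ 𝒜, A ≤ Q) →
      ∀ g ∈ Subgroup.normalizer (Q : Set G), ∀ x : G,
      (∀ A ∈ 𝒜, A ≤ Q → x ∈ A) → ∀ A ∈ 𝒜, A ≤ Q → g * x * g⁻¹ ∈ A)
    (hrep : ∀ B : Subgroup G, B ≤ S → ⁅⁅B, B⁆, B⁆ = ⊥ → (∃ A ∈ 𝒜, ⁅B, B⁆ ≤ A ∧ ¬ B ≤ A) →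
      ∃ A ∈ 𝒜, ⁅B, B⁆ ≤ A ∧ ¬ B ≤ A ∧ B ≤ Subgroup.normalizer (A : Set G))
    (X : Subgroup G) (hX : ∀ x, x ∈ X ↔ ∀ A ∈ 𝒜, x ∈ A) : X.Normal := by
  obtain ⟨A₀, hA₀⟩ := hne
  have hXS : X ≤ S := fun x hx => (h𝒜 A₀ hA₀).1 ((hX x).1 hx A₀ hA₀)
  have hXab : ∀ a ∈ X, ∀ b ∈ X, a * b = b * a := fun a ha b hb =>
    (h𝒜 A₀ hA₀).2 a ((hX a).1 ha A₀ hA₀) b ((hX b).1 hb A₀ hA₀)
  have hXnS : ∀ s ∈ (S : Subgroup G), ∀ x ∈ X, s * x * s⁻¹ ∈ X := by
    intro s hs x hx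
    rw [hX]
    intro A hA
    exact hinv S le_rfl ⟨A₀, hA₀, (h𝒜 A₀ hA₀).1⟩ s (Subgroup.le_normalizer hs) x
      (fun A' hA' _ => (hX x).1 hx A' hA') A hA (h𝒜 A hA).1
  obtain ⟨K, hPAP⟩ := exists_pap_of_maximal_sylow hp S hmax
  have hQn : (pCore p G).Normal := pCore_normal' p G
  have hQS : pCore p G ≤ S := pCore_le_sylow S
  -- quadratic elements lie in `O_p(G)`
  have Lq : ∀ (P : Subgroup G) (g : G), P.Normal → IsPGroup p P →
      Subgroup.centralizer (P : Set G) ≤ S →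
      (∀ x ∈ P, g * (g * x * g⁻¹ * x⁻¹) * g⁻¹ = g * x * g⁻¹ * x⁻¹) → g ∈ pCore p G := by
    intro P g hPn hPp hCP hq
    obtain ⟨M, hMn, hgM, hM⟩ := Cfsg.Agent.Lib.Helper34.exists_normal_of_quadratic hp _ G rfl _ K P g
      hPAP hPn hPp hq
    refine le_pCore hMn ?_ hgM
    rintro ⟨m, hm⟩
    obtain ⟨k, hk⟩ := hM m hm
    obtain ⟨j, hj⟩ := S.2 ⟨_, hCP hk⟩
    refine ⟨k + j, Subtype.ext ?_⟩
    have hj' : (m ^ p ^ k) ^ p ^ j = 1 := congrArg Subtype.val hj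
    show m ^ p ^ (k + j) = 1
    rw [pow_add, pow_mul, hj']
  have hXQ : X ≤ pCore p G := by
    intro a ha
    apply Lq (pCore p G) a hQn (pCore_isPGroup p G) (hC.trans hQS)
    intro x hx
    have h1 : a * x * a⁻¹ * x⁻¹ ∈ X := by
      have h2 := X.mul_mem ha (hXnS x (hQS hx) a⁻¹ (X.inv_mem ha))
      have e : a * x * a⁻¹ * x⁻¹ = a * (x * a⁻¹ * x⁻¹) := by group
      rw [e]
      exact h2
    rw [hXab a ha _ h1, mul_inv_cancel_right]
  have main : ∀ n : ℕ, ∀ B : Subgroup G, Nat.card B = n → B.Normal → B ≤ pCore p G →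
      (X ⊓ B).Normal := by
    intro n
    induction n using Nat.strong_induction_on with
    | _ n ih =>
    intro B hcard hBn hBQ
    by_contra hnot
    have hBS : B ≤ S := hBQ.trans hQS
    have hSN : (S : Subgroup G) ≤ Subgroup.normalizer ((X ⊓ B : Subgroup G) : Set G) := by
      intro s hs
      apply mem_normalizer_of_finite
      intro x hx
      exact ⟨hXnS s hs x hx.1, hBn.conj_mem x hx.2 s⟩
    have hN : Subgroup.normalizer ((X ⊓ B : Subgroup G) : Set G) = S :=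
      (hmax _ hSN).resolve_right (fun h => hnot (Subgroup.normalizer_eq_top_iff.1 h))
    have hB₁B : Subgroup.normalClosure ((X ⊓ B : Subgroup G) : Set G) ≤ B :=
      Subgroup.normalClosure_le_normal (fun x hx => hx.2)
    have hB₁ : Subgroup.normalClosure ((X ⊓ B : Subgroup G) : Set G) = B := by
      by_contra hne'
      have hlt := lt_of_le_of_ne hB₁B hne'
      have h1 := ih _ (hcard ▸ Cfsg.Agent.Lib.Helper84.card_lt_card_of_lt hlt) _ rfl Subgroup.normalClosure_normal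
        (hB₁B.trans hBQ)
      have e : X ⊓ Subgroup.normalClosure ((X ⊓ B : Subgroup G) : Set G) = X ⊓ B :=
        le_antisymm (inf_le_inf_left _ hB₁B) (le_inf inf_le_left Subgroup.subset_normalClosure)
      exact hnot (e ▸ h1)
    have NC : ∀ D : Subgroup G, D.Normal → X ⊓ B ≤ D → B ≤ D := by
      intro D hD h
      rw [← hB₁]
      exact Subgroup.normalClosure_le_normal h
    have hBne : B ≠ ⊥ := by
      rintro rfl
      apply hnot
      rw [inf_bot_eq]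
      infer_instance
    have hB'lt : ⁅B, B⁆ < B := commutator_lt_of_isPGroup (S.2.to_le hBS) hBne
    have hB'n : (⁅B, B⁆).Normal := inferInstance
    have hY₀ : (X ⊓ ⁅B, B⁆).Normal :=
      ih _ (hcard ▸ Cfsg.Agent.Lib.Helper84.card_lt_card_of_lt hB'lt) _ rfl hB'n (hB'lt.le.trans hBQ)
    have hB'X : ⁅B, B⁆ ≤ X := by
      refine le_trans ?_ (inf_le_left : X ⊓ ⁅B, B⁆ ≤ X)
      rw [Subgroup.commutator_le]
      intro d hd b hb
      rw [commutatorElement_def]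
      apply comm_mem_of_normalClosure (X ⊓ ⁅B, B⁆) B ((X ⊓ B : Subgroup G) : Set G) _ d
        (hB₁.symm ▸ hd) b hb
      intro x hx b' hb'
      refine ⟨?_, ?_⟩
      · have h2 := X.mul_mem hx.1 (hXnS b' (hBS hb') x⁻¹ (X.inv_mem hx.1))
        have e : x * b' * x⁻¹ * b'⁻¹ = x * (b' * x⁻¹ * b'⁻¹) := by group
        rw [e]
        exact h2
      · rw [← commutatorElement_def]
        exact Subgroup.commutator_mem_commutator hx.2 hb'
    have hclass : ⁅⁅B, B⁆, B⁆ = ⊥ := by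
      rw [eq_bot_iff, Subgroup.commutator_le]
      intro c hc d hd
      have h1 := comm_mem_of_normalClosure ⊥ ⁅B, B⁆ ((X ⊓ B : Subgroup G) : Set G) (by
        intro x hx c' hc'
        rw [Subgroup.mem_bot, hXab x hx.1 c' (hB'X hc')]
        group) d (hB₁.symm ▸ hd) c hc
      rw [Subgroup.mem_bot] at h1 ⊢
      rw [commutatorElement_def]
      have h2 : d * c = c * d := by
        rw [mul_inv_eq_one, mul_inv_eq_iff_eq_mul] at h1
        exact h1
      rw [← h2]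
      group
    have hex : ∃ A ∈ 𝒜, ⁅B, B⁆ ≤ A ∧ ¬ B ≤ A := by
      by_contra hcon
      push Not at hcon
      apply hnot
      have h1 : B ≤ X := by
        intro b hb
        rw [hX]
        intro A hA
        exact hcon A hA (fun c hc => (hX c).1 (hB'X hc) A hA) hb
      rw [inf_eq_right.2 h1]
      exact hBn
    obtain ⟨A, hA, hB'A, hBA, hBNA⟩ := hrep B hBS hclass hex
    have hCB : Subgroup.centralizer (B : Set G) ≤ S := by
      rw [← hN]
      intro c hc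
      apply mem_normalizer_of_finite
      intro x hx
      rw [← (Subgroup.mem_centralizer_iff.1 hc) x hx.2, mul_inv_cancel_right]
      exact hx
    have hAQ : A ≤ pCore p G := by
      intro a ha
      apply Lq B a hBn (S.2.to_le hBS) hCB
      intro x hx
      have h1 : a * x * a⁻¹ * x⁻¹ ∈ A := by
        have h2 := A.mul_mem ha (conj_mem_of_mem_normalizer (hBNA hx) (A.inv_mem ha))
        have e : a * x * a⁻¹ * x⁻¹ = a * (x * a⁻¹ * x⁻¹) := by group
        rw [e]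
        exact h2
      rw [(h𝒜 A hA).2 a ha _ h1, mul_inv_cancel_right]
    -- the subgroup `I(O_p(G))`
    obtain ⟨Y, hY⟩ : ∃ Y : Subgroup G, ∀ x, x ∈ Y ↔ ∀ A' ∈ 𝒜, A' ≤ pCore p G → x ∈ A' :=
      ⟨⨅ A' ∈ 𝒜, ⨅ (_ : A' ≤ pCore p G), A', fun x => by simp only [Subgroup.mem_iInf]⟩
    have hYn : Y.Normal := by
      refine ⟨fun y hy g => ?_⟩
      rw [hY]
      exact hinv (pCore p G) hQS ⟨A, hA, hAQ⟩ g
        (by rw [Subgroup.normalizer_eq_top]; trivial) y ((hY y).1 hy)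
    have hXY : X ≤ Y := by
      intro x hx
      rw [hY]
      exact fun A' hA' _ => (hX x).1 hx A' hA'
    have h1 : B ≤ Y ⊓ B := NC _ inferInstance (inf_le_inf_right _ hXY)
    exact hBA (fun b hb => (hY b).1 (h1 hb).1 A hA hAQ)
  have h1 := main _ (pCore p G) rfl hQn le_rfl
  rwa [inf_eq_left.2 hXQ] at h1

end Cfsg.Agent.Lib.Helper87
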