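import Cfsg.Agent.Lib.Helper87.CenIdxOdd
import Cfsg.Agent.Lib.Helper2.PGroupFrattini

set_option autoImplicit false

/-! `|S : Z(S)| = p²`, `O_p(F) = 1`: final structure (helper87). -/

namespace Cfsg.Agent.Lib.Helper87

open Cfsg Cfsg.FusionSystem Cfsg.Agent.Lib.Helper84 Cfsg.Agent.Lib.Helper88 Cfsg.Agent.Lib.Lead

variable {Ω : Type*} [Group Ω] {S : Subgroup Ω}

section

variable [Finite S] {p : ℕ} [hp : Fact p.Prime]

theorem ZData.center_eq {ε : S} (hz : ZData p ε ⊥) : Subgroup.center S = Subgroup.zpowers ε := by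
  apply le_antisymm
  · intro z hzc
    obtain ⟨i, d, hd, rfl⟩ := hz.span z hzc
    rw [Subgroup.mem_bot.1 hd, mul_one]
    exact Subgroup.pow_mem _ (Subgroup.mem_zpowers _) i
  · rw [Subgroup.zpowers_le]
    exact hz.cen

omit [Finite S] in
theorem ZData.orderOf_eq {ε : S} {Ds : Subgroup S} (hz : ZData p ε Ds) : orderOf ε = p := by
  rcases (Nat.dvd_prime hp.out).1 (orderOf_dvd_of_pow_eq_one hz.pow) with h2 | h2
  · exact absurd (orderOf_eq_one_iff.1 h2) hz.ne
  · exact h2

theorem ZData.card_center {ε : S} (hz : ZData p ε ⊥) : Nat.card (Subgroup.center S) = p := by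
  rw [hz.center_eq, Nat.card_zpowers, hz.orderOf_eq]

omit [Finite S] hp in
theorem ZData.pow_mem_center {ε : S} {Ds : Subgroup S} (hz : ZData p ε Ds) (x : S) :
    x ^ p ∈ Subgroup.center S := by
  rw [Subgroup.mem_center_iff]
  intro g
  obtain ⟨i, hi⟩ := hz.comm x g
  have hc : x * g = ε ^ i * (g * x) := by
    rw [← hi]; group
  have hcx : Commute (ε ^ i) x :=
    ((show Commute x ε from Subgroup.mem_center_iff.1 hz.cen x).pow_right i).symm
  have := pow_mul_comm_central hc hcx p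
  rw [← pow_mul, mul_comm i p, pow_mul, hz.pow, one_pow, one_mul] at this
  exact this.symm

theorem ZData.isExtraspecial (hS : IsPGroup p S) {ε : S} (hz : ZData p ε ⊥) :
    IsExtraspecial p ↥S := by
  have hcomm : commutator S = Subgroup.center S := by
    apply le_antisymm
    · rw [commutator_def, Subgroup.commutator_le]
      intro a _ b _
      obtain ⟨i, hi⟩ := hz.comm a b
      rw [commutatorElement_def, hi]
      exact Subgroup.pow_mem _ hz.cen i
    · rw [hz.center_eq, Subgroup.zpowers_le]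
      obtain ⟨a, b, hab⟩ := hz.isComm
      rw [hab, ← commutatorElement_def, commutator_def]
      exact Subgroup.commutator_mem_commutator (Subgroup.mem_top a) (Subgroup.mem_top b)
  refine ⟨⟨hS, le_antisymm ?_ ?_, hcomm⟩, hz.card_center⟩
  · exact Cfsg.Agent.Lib.Helper2.frattini_le_of_elementary_quotient (p := p) (Subgroup.center S)
      hcomm.le hz.pow_mem_center
  · rw [← hcomm]
    exact Cfsg.Agent.Lib.Helper2.commutator_le_frattini hS

theorem CenIdx.card_of_zData (hc : CenIdx p S) {ε : S} (hz : ZData p ε ⊥) :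
    Nat.card S = p ^ 3 := by
  rw [hc.card, ← map_center_eq_ZS, Subgroup.card_map_of_injective S.subtype_injective,
    hz.card_center]
  ring

/-- There is an essential subgroup. -/
theorem exists_essential (hS : IsPGroup p S) {F : FusionSystem S} (hF : F.IsSaturated p)
    (hS1 : S ≠ ⊥) (hcore : F.core = ⊥) : ∃ E : Subgroup Ω, F.IsEssential p E := by
  by_contra hcon
  push Not at hcon
  have hsc : F.StronglyClosed (ZS S) := by
    apply stronglyClosed_of_aut hS F hF (ZS S) (ZS_le S)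
    rintro P (rfl | hP) α hα x hx
    · exact mem_center_iff_ZS.1 (ZData.aut_center α (mem_center_iff_ZS.2 hx))
    · exact absurd hP (hcon P)
  have hab : IsMulCommutative (ZS S) := by
    refine ⟨⟨fun a b => ?_⟩⟩
    ext
    exact CenIdx.comm_of_mem_ZS b.2 (ZS_le S a.2)
  have hne : ZS S ≠ ⊥ := by
    have hnt : Nontrivial S := (Subgroup.nontrivial_iff_ne_bot S).2 hS1
    have := hS.center_nontrivial
    rw [Subgroup.nontrivial_iff_ne_bot] at this
    intro hh
    apply this
    rw [← map_center_eq_ZS, Subgroup.map_eq_bot_iff_of_injective _ S.subtype_injective] at hh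
    exact hh
  exact (core_ne_bot_iff hS F hF).2 ⟨_, hne, hab, hsc⟩ hcore

omit [Finite S] hp in
theorem EssData.pow_eq_one_of_mem {F : FusionSystem S} {E : Subgroup Ω} {e₁ e₂ : Ω}
    (h : EssData F p E e₁ e₂ ⊥) (hES : E ≤ S) {x : Ω} (hx : x ∈ E) : x ^ p = 1 := by
  obtain ⟨i, j, d, hd, rfl⟩ := h.span x hx
  rw [Subgroup.mem_bot.1 hd, mul_one]
  have hcm : Commute (e₁ ^ i) (e₂ ^ j) :=
    ((show Commute e₂ e₁ from CenIdx.comm_of_mem_ZS h.e1Z (hES h.e2E)).pow_pow j i).symm
  rw [hcm.mul_pow, ← pow_mul, ← pow_mul, mul_comm i, mul_comm j, pow_mul, pow_mul, h.e1_pow,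
    h.e2_pow, one_pow, one_pow, one_mul]

/-- For odd `p`, `S` has exponent `p`. -/
theorem pow_eq_one_odd (hS : IsPGroup p S) {F : FusionSystem S} (hF : F.IsSaturated p)
    (hc : CenIdx p S) (hS1 : S ≠ ⊥) (hcore : F.core = ⊥) (hp2 : p ≠ 2) :
    ∀ s ∈ S, s ^ p = 1 := by
  obtain ⟨E, hE⟩ := exists_essential hS hF hS1 hcore
  obtain ⟨e₁, e₂, D, hd⟩ := exists_essData hS hF hc hE
  have hD := hd.D_eq_bot hS hF hc hcore hp2
  subst hD
  have hmid := ess_mid hS hF hE
  have hmul : ∀ x ∈ S, ∀ y ∈ S, (x * y) ^ p = x ^ p * y ^ p := by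
    intro x hx y hy
    obtain ⟨i, hi⟩ := hd.comm y hy x hx
    have hd' : y * x = e₁ ^ i * (x * y) := by
      rw [← hi]; group
    have hdx : Commute (e₁ ^ i) x :=
      ((show Commute x e₁ from CenIdx.comm_of_mem_ZS hd.e1Z hx).pow_right i).symm
    have hdy : Commute (e₁ ^ i) y :=
      ((show Commute y e₁ from CenIdx.comm_of_mem_ZS hd.e1Z hy).pow_right i).symm
    rw [mul_pow_central hd' hdx hdy p]
    have h2 : 2 < p := by
      have := hp.out.two_le
      omega
    obtain ⟨k, hk⟩ := Nat.Prime.dvd_choose_self hp.out (by norm_num : (2 : ℕ) ≠ 0) h2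
    rw [hk, ← pow_mul, mul_comm i, mul_assoc, pow_mul, hd.e1_pow, one_pow, one_mul]
  let K : Subgroup Ω :=
    { carrier := {x | x ∈ S ∧ x ^ p = 1}
      one_mem' := ⟨S.one_mem, one_pow _⟩
      mul_mem' := by
        rintro a b ⟨ha, ha'⟩ ⟨hb, hb'⟩
        exact ⟨S.mul_mem ha hb, by rw [hmul a ha b hb, ha', hb', one_mul]⟩
      inv_mem' := by
        rintro a ⟨ha, ha'⟩
        exact ⟨S.inv_mem ha, by rw [inv_pow, ha', inv_one]⟩ }
  have hKS : K ≤ S := fun x hx => hx.1
  have hess : ∀ E' : Subgroup Ω, F.IsEssential p E' → E' ≤ K := by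
    intro E' hE' x hx
    obtain ⟨e₁', e₂', D', hd'⟩ := exists_essData hS hF hc hE'
    have hD' := hd'.D_eq_bot hS hF hc hcore hp2
    subst hD'
    have hES' := (ess_mid hS hF hE').ES.le
    exact ⟨hES' hx, hd'.pow_eq_one_of_mem hES' hx⟩
  by_contra hcon
  push Not at hcon
  obtain ⟨s, hs, hs1⟩ := hcon
  have hKE : K = E := by
    by_contra hne
    have hlt : E < K := lt_of_le_of_ne (hess E hE) (Ne.symm hne)
    have := eq_of_lt_of_card hp.out hlt hKS (hmid.card hc).2
    have hsK : s ∈ K := this ▸ hs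
    exact hs1 hsK.2
  have hsc : F.StronglyClosed E := by
    apply stronglyClosed_of_aut hS F hF E hmid.ES.le
    rintro P (rfl | hP) α hα x hx
    · rw [← hKE] at hx ⊢
      refine ⟨(α x).2, ?_⟩
      have h1 : x ^ p = 1 := Subtype.ext hx.2
      have h2 : (α x) ^ p = 1 := by rw [← map_pow, h1, map_one]
      exact congrArg (fun z : P => (z : Ω)) h2
    · rw [← hKE]
      exact hess P hP (α x).2
  have hab : IsMulCommutative E := by
    refine ⟨⟨fun a b => ?_⟩⟩
    ext
    exact hmid.comm hc a.2 b.2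
  have hne : E ≠ ⊥ := by
    rintro rfl
    exact hd.e2Z ((Subgroup.mem_bot.1 hd.e2E) ▸ (ZS S).one_mem)
  exact (core_ne_bot_iff hS F hF).2 ⟨_, hne, hab, hsc⟩ hcore

end

end Cfsg.Agent.Lib.Helper87
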