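import Cfsg.Agent.Lib.Helper87.CenIdxEss
import Cfsg.Agent.Lib.Helper87.FusClosed2
import Cfsg.Agent.Lib.Helper84.FusionSeries2

set_option autoImplicit false

/-! `|S : Z(S)| = p²`, `O_p(F) = 1`: the centre has order `p` when `p` is odd (helper87). -/

namespace Cfsg.Agent.Lib.Helper87

open Cfsg Cfsg.FusionSystem Cfsg.Agent.Lib.Helper84 Cfsg.Agent.Lib.Helper88 Cfsg.Agent.Lib.Lead

variable {Ω : Type*} [Group Ω] {S : Subgroup Ω}

/-- The part of `EssData` concerning the centre, inside the group `↥S`. -/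
structure ZData (p : ℕ) (ε : S) (Ds : Subgroup S) : Prop where
  cen : ε ∈ Subgroup.center S
  ne : ε ≠ 1
  pow : ε ^ p = 1
  Dcen : Ds ≤ Subgroup.center S
  span : ∀ z ∈ Subgroup.center S, ∃ i : ℕ, ∃ d ∈ Ds, z = ε ^ i * d
  indep : ∀ i : ℕ, ∀ d ∈ Ds, ε ^ i * d = 1 → p ∣ i ∧ d = 1
  comm : ∀ a b : S, ∃ i : ℕ, a * b * a⁻¹ * b⁻¹ = ε ^ i
  isComm : ∃ a b : S, ε = a * b * a⁻¹ * b⁻¹

theorem mem_center_iff_ZS {x : S} : x ∈ Subgroup.center S ↔ (x : Ω) ∈ ZS S := by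
  rw [← map_center_eq_ZS]
  constructor
  · intro hx
    exact ⟨x, hx, rfl⟩
  · rintro ⟨y, hy, hxy⟩
    have : y = x := Subtype.ext hxy
    rwa [← this]

theorem EssData.zData {F : FusionSystem S} {p : ℕ} {E : Subgroup Ω} {e₁ e₂ : Ω} {D : Subgroup Ω}
    (h : EssData F p E e₁ e₂ D) : ZData p (⟨e₁, ZS_le S h.e1Z⟩ : S) (D.subgroupOf S) := by
  refine ⟨mem_center_iff_ZS.2 h.e1Z, fun hh => h.e1_ne (congrArg (fun z : S => (z : Ω)) hh),
    Subtype.ext h.e1_pow, fun d hd => mem_center_iff_ZS.2 (h.DZ hd), ?_, ?_, ?_, ?_⟩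
  · intro z hz
    obtain ⟨i, d, hd, hzd⟩ := h.spanZ z (mem_center_iff_ZS.1 hz)
    exact ⟨i, ⟨d, ZS_le S (h.DZ hd)⟩, hd, Subtype.ext hzd⟩
  · intro i d hd hh
    have h1 : e₁ ^ i * e₂ ^ 0 * (d : Ω) = 1 := by
      rw [pow_zero, mul_one]
      exact congrArg (fun z : S => (z : Ω)) hh
    obtain ⟨h2, -, h3⟩ := h.indep i 0 d hd h1
    exact ⟨h2, Subtype.ext h3⟩
  · intro a b
    obtain ⟨i, hi⟩ := h.comm a a.2 b b.2
    exact ⟨i, Subtype.ext hi⟩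
  · obtain ⟨a, ha, b, hb, hab⟩ := h.e1comm
    exact ⟨⟨a, ha⟩, ⟨b, hb⟩, Subtype.ext hab⟩

theorem EssData.torusS {F : FusionSystem S} {p : ℕ} {E : Subgroup Ω} {e₁ e₂ : Ω} {D : Subgroup Ω}
    (h : EssData F p E e₁ e₂ D) {l : ℕ} (hl : ¬ p ∣ l) :
    ∃ τ ∈ F.autGroup S, τ (⟨e₁, ZS_le S h.e1Z⟩ : S) = (⟨e₁, ZS_le S h.e1Z⟩ : S) ^ l ∧
      ∀ d ∈ D.subgroupOf S, τ d = d := by
  obtain ⟨τ, hτ, h1, h2⟩ := h.torus l hl
  exact ⟨τ, hτ, Subtype.ext (h1 _), fun d hd => Subtype.ext (h2 d hd d.2)⟩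

namespace ZData

variable {p : ℕ} {ε : S} {Ds : Subgroup S}

/-- Every automorphism of `S` maps `⟨ε⟩ = S'` to itself. -/
theorem aut_eps (h : ZData p ε Ds) (β : MulAut S) : ∃ k : ℕ, β ε = ε ^ k := by
  obtain ⟨a, b, hab⟩ := h.isComm
  obtain ⟨k, hk⟩ := h.comm (β a) (β b)
  refine ⟨k, ?_⟩
  rw [← hk, hab]
  simp only [map_mul, map_inv]

theorem aut_center (β : MulAut S) {z : S} (hz : z ∈ Subgroup.center S) :
    β z ∈ Subgroup.center S := by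
  rw [Subgroup.mem_center_iff] at hz ⊢
  intro g
  have := congrArg β (hz (β⁻¹ g))
  rwa [map_mul, map_mul, MulAut.apply_inv_self] at this

end ZData

section sat

variable [Finite S] {p : ℕ} [hp : Fact p.Prime]

/-- `σ ∈ Aut_F(S)`, `z ∈ Z(S)`, `σ z = z c` with `σ c = c` and `c^p = 1` forces `c = 1`. -/
theorem fix_of_twist {F : FusionSystem S} (hF : F.IsSaturated p) {σ : MulAut S}
    (hσ : σ ∈ F.autGroup S) {z c : S} (hz : z ∈ Subgroup.center S) (h1 : σ z = z * c)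
    (h2 : σ c = c) (hc : c ^ p = 1) : c = 1 := by
  obtain ⟨-, R, hR⟩ := fullyAutomized_top p F hF
  have hfin : Finite (F.autGroup S) := finite_autGroup F le_rfl
  have hle : (R : Subgroup (F.autGroup S)) ≤ (Inn S).subgroupOf (F.autGroup S) := by
    rw [hR]
    intro α hα
    obtain ⟨g, hg, hg'⟩ := (mem_autInducedBy_iff S S _).1 hα
    refine ⟨⟨g, hg⟩, ?_⟩
    ext x
    exact (hg' x).symm
  have hnd : ¬ p ∣ ((Inn S).subgroupOf (F.autGroup S)).index :=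
    fun hh => R.not_dvd_index (hh.trans (Subgroup.index_dvd_of_le hle))
  have hnorm : ((Inn S).subgroupOf (F.autGroup S)).Normal := inferInstance
  have hmem := Subgroup.pow_index_mem ((Inn S).subgroupOf (F.autGroup S)) (⟨σ, hσ⟩ : F.autGroup S)
  generalize ((Inn S).subgroupOf (F.autGroup S)).index = m at hnd hmem
  obtain ⟨g, hg⟩ : σ ^ m ∈ Inn S := hmem
  have h3 : (σ ^ m) z = z := by
    rw [← hg, MulAut.conj_apply, Subgroup.mem_center_iff.1 hz g, mul_inv_cancel_right]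
  rw [twist_nc σ h1 h2 m] at h3
  have h4 : c ^ m = 1 := mul_eq_left.1 h3
  have h5 : orderOf c ∣ m := orderOf_dvd_of_pow_eq_one h4
  have h6 : orderOf c ∣ p := orderOf_dvd_of_pow_eq_one hc
  rcases (Nat.dvd_prime hp.out).1 h6 with h7 | h7
  · exact orderOf_eq_one_iff.1 h7
  · exact absurd (h7 ▸ h5) hnd

/-- Two elements of `Aut_F(S)` squaring `⟨ε⟩` and trivial on `Z(S)/⟨ε⟩` agree on `Z(S)`. -/
theorem agree_on_center {F : FusionSystem S} (hF : F.IsSaturated p) {ε : S} (hε : ε ^ p = 1)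
    {l : ℕ} {τ τ' : MulAut S} (hτ : τ ∈ F.autGroup S) (hτ' : τ' ∈ F.autGroup S)
    (h1 : τ ε = ε ^ l) (h1' : τ' ε = ε ^ l)
    (h2 : ∀ z ∈ Subgroup.center S, ∃ i : ℕ, τ z = z * ε ^ i)
    (h2' : ∀ z ∈ Subgroup.center S, ∃ i : ℕ, τ' z = z * ε ^ i) {z : S}
    (hz : z ∈ Subgroup.center S) : τ z = τ' z := by
  -- σ = τ'⁻¹ τ
  have hσ : τ'⁻¹ * τ ∈ F.autGroup S := (F.autGroup S).mul_mem ((F.autGroup S).inv_mem hτ') hτ
  have hσε : (τ'⁻¹ * τ) ε = ε := by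
    rw [MulAut.mul_apply, h1, ← h1', MulAut.inv_apply_self]
  have hw : (τ'⁻¹ * τ) z ∈ Subgroup.center S := ZData.aut_center _ hz
  obtain ⟨i, hi⟩ := h2 z hz
  obtain ⟨j, hj⟩ := h2' _ hw
  rw [MulAut.mul_apply, MulAut.apply_inv_self, ← MulAut.mul_apply, hi] at hj
  -- z ε^i = w ε^j
  have hc : (τ'⁻¹ * τ) z = z * (ε ^ i * (ε ^ j)⁻¹) := by
    rw [← mul_assoc, hj, mul_inv_cancel_right]
  have hfix : (τ'⁻¹ * τ) (ε ^ i * (ε ^ j)⁻¹) = ε ^ i * (ε ^ j)⁻¹ := by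
    rw [map_mul, map_inv, map_pow, map_pow, hσε]
  have hpow : (ε ^ i * (ε ^ j)⁻¹) ^ p = 1 := by
    have hcm : Commute (ε ^ i) ((ε ^ j)⁻¹) := ((Commute.refl ε).pow_pow i j).inv_right
    rw [hcm.mul_pow, inv_pow, ← pow_mul, ← pow_mul, mul_comm i, mul_comm j, pow_mul, pow_mul, hε]
    simp
  have h3 := fix_of_twist hF hσ hz hc hfix hpow
  rw [h3, mul_one, MulAut.mul_apply] at hc
  have := congrArg τ' hc
  rwa [MulAut.apply_inv_self] at this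

omit [Finite S] in
theorem ZData.torus_props {ε : S} {Ds : Subgroup S} (hz : ZData p ε Ds) {τ : MulAut S}
    (h1 : τ ε = ε ^ 2) (h2 : ∀ d ∈ Ds, τ d = d) :
    (∀ z ∈ Subgroup.center S, ∃ i : ℕ, τ z = z * ε ^ i) ∧
      (∀ z ∈ Subgroup.center S, τ z = z → z ∈ Ds) := by
  have key : ∀ (i : ℕ) (d : S), d ∈ Ds → τ (ε ^ i * d) = ε ^ i * d * ε ^ i := by
    intro i d hd
    have hcm : Commute d (ε ^ i) :=
      (show Commute d ε from Subgroup.mem_center_iff.1 hz.cen d).pow_right i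
    rw [map_mul, map_pow, h1, h2 d hd, ← pow_mul, two_mul, pow_add, mul_assoc, mul_assoc, hcm.eq]
  constructor
  · intro z hzc
    obtain ⟨i, d, hd, rfl⟩ := hz.span z hzc
    exact ⟨i, key i d hd⟩
  · intro z hzc hfix
    obtain ⟨i, d, hd, rfl⟩ := hz.span z hzc
    rw [key i d hd] at hfix
    have h3 : ε ^ i = 1 := mul_eq_left.1 hfix
    rw [h3, one_mul]
    exact hd

theorem not_dvd_two (hp2 : p ≠ 2) : ¬ p ∣ 2 := by
  intro h
  exact hp2 ((Nat.prime_dvd_prime_iff_eq hp.out Nat.prime_two).1 h)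

/-- For odd `p` the complement `D` does not depend on the essential subgroup. -/
theorem EssData.D_le {F : FusionSystem S} (hF : F.IsSaturated p) (hp2 : p ≠ 2)
    {E E' : Subgroup Ω} {e₁ e₂ e₁' e₂' : Ω} {D D' : Subgroup Ω} (h : EssData F p E e₁ e₂ D)
    (h' : EssData F p E' e₁' e₂' D') : D ≤ D' := by
  obtain ⟨τ, hτ, h1, h2⟩ := h.torusS (not_dvd_two hp2)
  obtain ⟨τ', hτ', h1', h2'⟩ := h'.torusS (not_dvd_two hp2)
  have hz := h.zData
  have hz' := h'.zData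
  generalize (⟨e₁, ZS_le S h.e1Z⟩ : S) = ε at h1 hz
  generalize (⟨e₁', ZS_le S h'.e1Z⟩ : S) = ε' at h1' hz'
  obtain ⟨k, hk⟩ : ∃ k : ℕ, ε = ε' ^ k := by
    obtain ⟨a, b, hab⟩ := hz.isComm
    obtain ⟨k, hk⟩ := hz'.comm a b
    exact ⟨k, hab.trans hk⟩
  obtain ⟨k', hk'⟩ : ∃ k : ℕ, ε' = ε ^ k := by
    obtain ⟨a, b, hab⟩ := hz'.isComm
    obtain ⟨k, hk⟩ := hz.comm a b
    exact ⟨k, hab.trans hk⟩
  have h3 : τ' ε = ε ^ 2 := by
    rw [hk, map_pow, h1', ← pow_mul, ← pow_mul, mul_comm]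
  have h4 : ∀ z ∈ Subgroup.center S, ∃ i : ℕ, τ' z = z * ε ^ i := by
    intro z hzc
    obtain ⟨i, hi⟩ := (hz'.torus_props h1' h2').1 z hzc
    refine ⟨k' * i, ?_⟩
    rw [hi, pow_mul, ← hk']
  intro d hd
  have hdS : d ∈ S := ZS_le S (h.DZ hd)
  have hdc : (⟨d, hdS⟩ : S) ∈ Subgroup.center S := hz.Dcen hd
  have h5 := agree_on_center hF hz.pow hτ hτ' h1 h3 (hz.torus_props h1 h2).1 h4 hdc
  rw [h2 _ hd] at h5
  exact (hz'.torus_props h1' h2').2 _ hdc h5.symm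

/-- For odd `p` the complement `D` is invariant under `Aut_F(S)`. -/
theorem EssData.D_inv {F : FusionSystem S} (hF : F.IsSaturated p) (hp2 : p ≠ 2)
    {E : Subgroup Ω} {e₁ e₂ : Ω} {D : Subgroup Ω} (h : EssData F p E e₁ e₂ D) {β : MulAut S}
    (hβ : β ∈ F.autGroup S) {x : S} (hx : (x : Ω) ∈ D) : ((β x : S) : Ω) ∈ D := by
  obtain ⟨τ, hτ, h1, h2⟩ := h.torusS (not_dvd_two hp2)
  have hz := h.zData
  generalize (⟨e₁, ZS_le S h.e1Z⟩ : S) = ε at h1 hz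
  obtain ⟨k, hk⟩ := hz.aut_eps β
  obtain ⟨k', hk'⟩ := hz.aut_eps β⁻¹
  have hτ'' : β⁻¹ * τ * β ∈ F.autGroup S :=
    (F.autGroup S).mul_mem ((F.autGroup S).mul_mem ((F.autGroup S).inv_mem hβ) hτ) hβ
  have h3 : (β⁻¹ * τ * β) ε = ε ^ 2 := by
    rw [MulAut.mul_apply, MulAut.mul_apply, hk, map_pow, h1, ← pow_mul, mul_comm, pow_mul, ← hk,
      map_pow, MulAut.inv_apply_self]
  have h4 : ∀ z ∈ Subgroup.center S, ∃ i : ℕ, (β⁻¹ * τ * β) z = z * ε ^ i := by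
    intro z hzc
    obtain ⟨i, hi⟩ := (hz.torus_props h1 h2).1 (β z) (ZData.aut_center β hzc)
    refine ⟨k' * i, ?_⟩
    rw [MulAut.mul_apply, MulAut.mul_apply, hi, map_mul, MulAut.inv_apply_self, map_pow, hk',
      pow_mul]
  have hxc : x ∈ Subgroup.center S := hz.Dcen hx
  have h5 := agree_on_center hF hz.pow hτ hτ'' h1 h3 (hz.torus_props h1 h2).1 h4 hxc
  rw [h2 _ hx, MulAut.mul_apply, MulAut.mul_apply] at h5
  have h6 := congrArg β h5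
  rw [MulAut.apply_inv_self] at h6
  exact (hz.torus_props h1 h2).2 _ (ZData.aut_center β hxc) h6.symm

/-- For odd `p` and `O_p(F) = 1` the complement `D` is trivial. -/
theorem EssData.D_eq_bot (hS : IsPGroup p S) {F : FusionSystem S} (hF : F.IsSaturated p)
    (hc : CenIdx p S) (hcore : F.core = ⊥) (hp2 : p ≠ 2)
    {E : Subgroup Ω} {e₁ e₂ : Ω} {D : Subgroup Ω} (h : EssData F p E e₁ e₂ D) : D = ⊥ := by
  by_contra hne
  have hDS : D ≤ S := h.DZ.trans (ZS_le S)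
  have hsc : F.StronglyClosed D := by
    apply stronglyClosed_of_aut hS F hF D hDS
    rintro P (rfl | hP) α hα x hx
    · exact h.D_inv hF hp2 hα hx
    · obtain ⟨e₁', e₂', D', h'⟩ := exists_essData hS hF hc hP
      exact h'.D_le hF hp2 h (h'.invD α hα x (h.D_le hF hp2 h' hx))
  have hab : IsMulCommutative D := by
    refine ⟨⟨fun a b => ?_⟩⟩
    ext
    exact CenIdx.comm_of_mem_ZS (h.DZ b.2) (hDS a.2)
  exact (core_ne_bot_iff hS F hF).2 ⟨D, hne, hab, hsc⟩ hcore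

end sat

end Cfsg.Agent.Lib.Helper87
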