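import Cfsg.Agent.Lib.Helper87.CenIdxFin
import Cfsg.Agent.Lib.Helper84.FusionFocal

set_option autoImplicit false

/-! `|S : Z(S)| = 4`, `O_2(F) = 1`, `hyp(F) = S`: the case `p = 2` (helper87). -/

namespace Cfsg.Agent.Lib.Helper87

open Cfsg Cfsg.FusionSystem Cfsg.Agent.Lib.Helper84 Cfsg.Agent.Lib.Helper88 Cfsg.Agent.Lib.Lead

variable {Ω : Type*} [Group Ω] {S : Subgroup Ω}

theorem pow_cases_two {G : Type*} [Group G] {x : G} (hx : x ^ 2 = 1) (k : ℕ) :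
    x ^ k = 1 ∨ x ^ k = x := by
  rcases Nat.even_or_odd' k with ⟨m, rfl | rfl⟩
  · left; rw [pow_mul, hx, one_pow]
  · right; rw [pow_succ, pow_mul, hx, one_pow, one_mul]

theorem inv_eq_self_of_sq {G : Type*} [Group G] {x : G} (hx : x ^ 2 = 1) : x⁻¹ = x := by
  rw [sq] at hx
  exact inv_eq_of_mul_eq_one_left hx

/-- restriction of an automorphism to an invariant finite subgroup. -/
noncomputable def resEquiv {P T : Subgroup Ω} [Finite T] (a : MulAut P) (hTP : T ≤ P)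
    (hinv : ∀ x : P, (x : Ω) ∈ T → ((a x : P) : Ω) ∈ T) : MulAut T :=
  MulEquiv.ofBijective
    ({ toFun := fun x => ⟨a ⟨x, hTP x.2⟩, hinv _ x.2⟩
       map_one' := by
        ext
        show ((a 1 : P) : Ω) = 1
        simp
       map_mul' := by
        intro x y
        ext
        show ((a (⟨x, hTP x.2⟩ * ⟨y, hTP y.2⟩) : P) : Ω) = _
        rw [map_mul]
        rfl } : T →* T)
    (by
      apply Finite.injective_iff_bijective.1
      intro x y hxy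
      have h1 : (a ⟨x, hTP x.2⟩ : P) = a ⟨y, hTP y.2⟩ := by
        ext
        exact congrArg (fun z : T => (z : Ω)) hxy
      have h2 := a.injective h1
      ext
      exact congrArg (fun z : P => (z : Ω)) h2)

theorem resEquiv_apply {P T : Subgroup Ω} [Finite T] (a : MulAut P) (hTP : T ≤ P)
    (hinv : ∀ x : P, (x : Ω) ∈ T → ((a x : P) : Ω) ∈ T) (x : T) :
    ((resEquiv a hTP hinv x : T) : Ω) = (a ⟨x, hTP x.2⟩ : P) := rfl

theorem resEquiv_mem (F : FusionSystem S) {P T : Subgroup Ω} [Finite T] (hP : P ≤ S)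
    {a : MulAut P} (ha : a ∈ F.autGroup P) (hTP : T ≤ P)
    (hinv : ∀ x : P, (x : Ω) ∈ T → ((a x : P) : Ω) ∈ T) : resEquiv a hTP hinv ∈ F.autGroup T := by
  rw [mem_autGroup_iff F (hTP.trans hP)]
  exact restrict_mem F ((mem_autGroup_iff F hP a).1 ha) hTP

/-- The automorphisms of `S` leaving `E` invariant. -/
def stabE (S E : Subgroup Ω) : Subgroup (MulAut S) where
  carrier := {γ | ∀ x : S, (x : Ω) ∈ E ↔ ((γ x : S) : Ω) ∈ E}
  one_mem' := fun _ => Iff.rfl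
  mul_mem' := by
    intro a b ha hb x
    exact (hb x).trans (ha (b x))
  inv_mem' := by
    intro a ha x
    have := ha (a⁻¹ x)
    rw [MulAut.apply_inv_self] at this
    exact this.symm

theorem mem_stabE_of_pres [Finite S] {E : Subgroup Ω} {γ : MulAut S}
    (h : ∀ x : S, (x : Ω) ∈ E → ((γ x : S) : Ω) ∈ E) : γ ∈ stabE S E := by
  intro x
  refine ⟨h x, fun hx => ?_⟩
  have hle : (E.subgroupOf S).map γ.toMonoidHom ≤ E.subgroupOf S := by
    rintro _ ⟨y, hy, rfl⟩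
    exact h y hy
  have heq : (E.subgroupOf S).map γ.toMonoidHom = E.subgroupOf S := by
    apply Subgroup.eq_of_le_of_card_ge hle
    rw [Subgroup.card_map_of_injective γ.injective]
  have hx' : γ x ∈ (E.subgroupOf S).map γ.toMonoidHom := by
    rw [heq]; exact hx
  obtain ⟨y, hy, hyx⟩ := hx'
  have : y = x := γ.injective hyx
  rw [← this]
  exact hy

theorem exists_pow_mem_inn [Finite S] {p : ℕ} [hp : Fact p.Prime] {F : FusionSystem S}
    (hF : F.IsSaturated p) : ∃ m : ℕ, ¬ p ∣ m ∧ ∀ σ ∈ F.autGroup S, σ ^ m ∈ Inn S := by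
  obtain ⟨-, R, hR⟩ := fullyAutomized_top p F hF
  have hfin : Finite (F.autGroup S) := finite_autGroup F le_rfl
  have hle : (R : Subgroup (F.autGroup S)) ≤ (Inn S).subgroupOf (F.autGroup S) := by
    rw [hR]
    intro α hα
    obtain ⟨g, hg, hg'⟩ := (mem_autInducedBy_iff S S _).1 hα
    refine ⟨⟨g, hg⟩, ?_⟩
    ext x
    exact (hg' x).symm
  have hnd : ¬ p ∣ ((Inn S).subgroupOf (F.autGroup S)).index :=
    fun hh => R.not_dvd_index (hh.trans (Subgroup.index_dvd_of_le hle))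
  have hnorm : ((Inn S).subgroupOf (F.autGroup S)).Normal := inferInstance
  refine ⟨_, hnd, fun σ hσ => ?_⟩
  exact Subgroup.pow_index_mem ((Inn S).subgroupOf (F.autGroup S)) (⟨σ, hσ⟩ : F.autGroup S)

section two

variable [Finite S]

theorem CenIdx.Mid.decomp (h : CenIdx 2 S) {E : Subgroup Ω} (hE : CenIdx.Mid S E) {x y : Ω}
    (hx : x ∈ E) (hxZ : x ∉ ZS S) (hx2 : x ^ 2 = 1) (hy : y ∈ S) (hyE : y ∉ E) (hy2 : y ^ 2 = 1)
    {s : Ω} (hs : s ∈ S) : ∃ c ∈ ZS S, s = c ∨ s = x * c ∨ s = y * c ∨ s = y * x * c := by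
  have : Fact (Nat.Prime 2) := ⟨Nat.prime_two⟩
  obtain ⟨k, e, he, rfl⟩ := hE.exists_eq h hy hyE hs
  obtain ⟨j, c, hc, rfl⟩ := hE.exists_eq' h hx hxZ he
  refine ⟨c, hc, ?_⟩
  rcases pow_cases_two hy2 k with h1 | h1 <;> rcases pow_cases_two hx2 j with h2 | h2 <;>
    rw [h1, h2] <;> simp [mul_assoc]

theorem CenIdx.Mid.not_comm {p : ℕ} [Fact p.Prime] (h : CenIdx p S) {E : Subgroup Ω}
    (hE : CenIdx.Mid S E) {x y : Ω} (hx : x ∈ E) (hxZ : x ∉ ZS S) (hy : y ∈ S) (hyE : y ∉ E) :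
    y * x ≠ x * y := fun hh => hxZ (hE.mem_ZS_of_comm h hy hyE hx hh)

omit [Finite S] in
theorem EssData.no_invol {F : FusionSystem S} {E : Subgroup Ω} {e₁ e₂ : Ω} {D : Subgroup Ω}
    (hd : EssData F 2 E e₁ e₂ D) {a b c : Ω} (ha : a ∈ S) (hb : b ∈ S) (ha2 : a ^ 2 = 1)
    (hb2 : b ^ 2 = 1) (hab : a * b ≠ b * a) (hc : c ∈ ZS S) : (a * b * c) ^ 2 ≠ 1 := by
  intro hsq
  obtain ⟨i, hi⟩ := hd.comm a ha b hb
  have he : a * b * a * b = e₁ := by
    rcases pow_cases_two hd.e1_pow i with h1 | h1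
    · exfalso
      rw [h1] at hi
      apply hab
      have : a * b * a⁻¹ = b := mul_inv_eq_one.1 hi
      exact mul_inv_eq_iff_eq_mul.1 this
    · rw [h1, inv_eq_self_of_sq ha2, inv_eq_self_of_sq hb2] at hi
      exact hi
  obtain ⟨j, d, hdD, rfl⟩ := hd.spanZ c hc
  have hdS : d ∈ S := ZS_le S (hd.DZ hdD)
  have hc1 : ∀ s ∈ S, s * (e₁ ^ j * d) = (e₁ ^ j * d) * s := fun s hs => CenIdx.comm_of_mem_ZS hc hs
  have h1 : (a * b * (e₁ ^ j * d)) ^ 2 = (a * b * a * b) * ((e₁ ^ j * d) * (e₁ ^ j * d)) := by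
    rw [sq]
    calc a * b * (e₁ ^ j * d) * (a * b * (e₁ ^ j * d))
        = a * b * ((e₁ ^ j * d) * (a * b)) * (e₁ ^ j * d) := by simp only [mul_assoc]
      _ = a * b * ((a * b) * (e₁ ^ j * d)) * (e₁ ^ j * d) := by rw [hc1 (a * b) (S.mul_mem ha hb)]
      _ = _ := by simp only [mul_assoc]
  have h2 : (e₁ ^ j * d) * (e₁ ^ j * d) = d * d := by
    have hcm : d * e₁ ^ j = e₁ ^ j * d :=
      ((show Commute d e₁ from CenIdx.comm_of_mem_ZS hd.e1Z hdS).pow_right j).eq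
    calc (e₁ ^ j * d) * (e₁ ^ j * d) = e₁ ^ j * (d * e₁ ^ j) * d := by simp only [mul_assoc]
      _ = e₁ ^ j * (e₁ ^ j * d) * d := by rw [hcm]
      _ = (e₁ ^ j * e₁ ^ j) * (d * d) := by simp only [mul_assoc]
      _ = d * d := by rw [← pow_add, ← two_mul, pow_mul, hd.e1_pow, one_pow, one_mul]
  rw [h1, he, h2] at hsq
  have := hd.indep 1 0 (d * d) (D.mul_mem hdD hdD) (by rw [pow_one, pow_zero, mul_one]; exact hsq)
  have h3 : (2 : ℕ) ∣ 1 := this.1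
  omega

/-- Every element of `Aut_F(S)` leaves each essential subgroup invariant (`p = 2`). -/
theorem EssData.aut_pres (hS : IsPGroup 2 S) {F : FusionSystem S} (hF : F.IsSaturated 2)
    (hc : CenIdx 2 S) {E : Subgroup Ω} (hE : F.IsEssential 2 E) {e₁ e₂ : Ω} {D : Subgroup Ω}
    (hd : EssData F 2 E e₁ e₂ D) {β : MulAut S} (hβ : β ∈ F.autGroup S) : β ∈ stabE S E := by
  have : Fact (Nat.Prime 2) := ⟨Nat.prime_two⟩
  have hmid := ess_mid hS hF hE
  have hES := hmid.ES.le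
  have he2S : e₂ ∈ S := hES hd.e2E
  have hgen : ∀ γ : MulAut S, ((γ ⟨e₂, he2S⟩ : S) : Ω) ∈ E → γ ∈ stabE S E := by
    intro γ hγ
    apply mem_stabE_of_pres
    intro x hx
    obtain ⟨k, c, hcZ, hxc⟩ := hmid.exists_eq' hc hd.e2E hd.e2Z hx
    have hx' : x = ⟨e₂, he2S⟩ ^ k * ⟨c, ZS_le S hcZ⟩ := Subtype.ext hxc
    rw [hx', map_mul, map_pow]
    exact E.mul_mem (E.pow_mem hγ k)
      (hmid.ZE.le (mem_center_iff_ZS.1 (ZData.aut_center γ (mem_center_iff_ZS.2 hcZ))))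
  apply hgen
  by_contra hcon
  have hx2 : (⟨e₂, he2S⟩ : S) ^ 2 = 1 := Subtype.ext hd.e2_pow
  have hy2' : (β ⟨e₂, he2S⟩) ^ 2 = 1 := by rw [← map_pow, hx2, map_one]
  have hy2 : ((β ⟨e₂, he2S⟩ : S) : Ω) ^ 2 = 1 := congrArg (fun z : S => (z : Ω)) hy2'
  have hz2' : (β (β ⟨e₂, he2S⟩)) ^ 2 = 1 := by rw [← map_pow, hy2', map_one]
  have hz2 : ((β (β ⟨e₂, he2S⟩) : S) : Ω) ^ 2 = 1 := congrArg (fun z : S => (z : Ω)) hz2'
  obtain ⟨c, hcZ, hcases⟩ := hmid.decomp hc hd.e2E hd.e2Z hd.e2_pow (β ⟨e₂, he2S⟩).2 hcon hy2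
    (β (β ⟨e₂, he2S⟩)).2
  rcases hcases with h1 | h1 | h1 | h1
  · have h2 : β (β ⟨e₂, he2S⟩) ∈ Subgroup.center S := mem_center_iff_ZS.2 (h1 ▸ hcZ)
    have h3 := ZData.aut_center β⁻¹ (ZData.aut_center β⁻¹ h2)
    rw [MulAut.inv_apply_self, MulAut.inv_apply_self] at h3
    exact hd.e2Z (mem_center_iff_ZS.1 h3)
  · have h2 : β * β ∈ stabE S E := by
      apply hgen
      rw [MulAut.mul_apply, h1]
      exact E.mul_mem hd.e2E (hmid.ZE.le hcZ)
    obtain ⟨m, hm, hinn⟩ := exists_pow_mem_inn hF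
    have h3 : β ^ m ∈ stabE S E := by
      obtain ⟨g, hg⟩ := hinn β hβ
      rw [← hg]
      apply mem_stabE_of_pres
      intro x hx
      exact conj_mem_of_mem_normalizer (hmid.le_normalizer hc g.2) hx
    obtain ⟨k, hk⟩ : ∃ k, m = 2 * k + 1 := by
      refine ⟨m / 2, ?_⟩
      omega
    have h4 : β = ((β * β) ^ k)⁻¹ * β ^ m := by
      rw [hk, pow_succ, pow_mul, sq, inv_mul_cancel_left]
    have h5 : β ∈ stabE S E := by
      rw [h4]
      exact (stabE S E).mul_mem ((stabE S E).inv_mem ((stabE S E).pow_mem h2 k)) h3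
    exact hcon ((h5 ⟨e₂, he2S⟩).1 hd.e2E)
  · have h2 : β (β ⟨e₂, he2S⟩) = β ⟨e₂, he2S⟩ * ⟨c, ZS_le S hcZ⟩ := Subtype.ext h1
    have h3 := congrArg (fun z => (β⁻¹ : MulAut S) z) h2
    simp only [map_mul, MulAut.inv_apply_self] at h3
    apply hcon
    rw [h3]
    exact E.mul_mem hd.e2E
      (hmid.ZE.le (mem_center_iff_ZS.1 (ZData.aut_center β⁻¹ (mem_center_iff_ZS.2 hcZ))))
  · rw [h1] at hz2
    exact hd.no_invol (β ⟨e₂, he2S⟩).2 he2S hy2 hd.e2_pow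
      (hmid.not_comm hc hd.e2E hd.e2Z (β ⟨e₂, he2S⟩).2 hcon) hcZ hz2

end two

end Cfsg.Agent.Lib.Helper87
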