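import Cfsg.Agent.Lib.Helper87.CenIdxTwo

set_option autoImplicit false

/-! `|S : Z(S)| = 4`, `O_2(F) = 1`, `hyp(F) = S`: the case `p = 2`, continued (helper87). -/

namespace Cfsg.Agent.Lib.Helper87

open Cfsg Cfsg.FusionSystem Cfsg.Agent.Lib.Helper84 Cfsg.Agent.Lib.Helper88 Cfsg.Agent.Lib.Lead

variable {Ω : Type*} [Group Ω] {S : Subgroup Ω} [Finite S]

theorem CenIdx.Mid.eq_of_gen {p : ℕ} [Fact p.Prime] (h : CenIdx p S) {E E' : Subgroup Ω}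
    (hE : CenIdx.Mid S E) (hE' : CenIdx.Mid S E') {x : Ω} (hx : x ∈ E') (hxZ : x ∉ ZS S)
    (hxE : x ∈ E) : E' = E := by
  have : Finite E := finite_of_le hE.ES.le
  apply Subgroup.eq_of_le_of_card_ge
  · intro y hy
    obtain ⟨k, c, hc, rfl⟩ := hE'.exists_eq' h hx hxZ hy
    exact E.mul_mem (E.pow_mem hxE k) (hE.ZE.le hc)
  · rw [(hE.card h).1, (hE'.card h).1]

/-- The restriction to `E` of an element of `Aut_F(S)`. -/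
theorem EssData.autS (hS : IsPGroup 2 S) {F : FusionSystem S} (hF : F.IsSaturated 2)
    (hc : CenIdx 2 S) {E : Subgroup Ω} (hE : F.IsEssential 2 E) {e₁ e₂ : Ω} {D : Subgroup Ω}
    (hd : EssData F 2 E e₁ e₂ D) {β : MulAut S} (hβ : β ∈ F.autGroup S) :
    ∃ α ∈ F.autGroup E, ∀ (x : E) (hxS : (x : Ω) ∈ S), ((α x : E) : Ω) = β ⟨x, hxS⟩ := by
  have : Fact (Nat.Prime 2) := ⟨Nat.prime_two⟩
  have hES := (ess_mid hS hF hE).ES.le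
  have : Finite E := finite_of_le hES
  have hinv : ∀ x : S, (x : Ω) ∈ E → ((β x : S) : Ω) ∈ E :=
    fun x hx => ((hd.aut_pres hS hF hc hE hβ) x).1 hx
  exact ⟨resEquiv β hES hinv, resEquiv_mem F le_rfl hβ hES hinv, fun x _ => rfl⟩

theorem EssData.autS_D (hS : IsPGroup 2 S) {F : FusionSystem S} (hF : F.IsSaturated 2)
    (hc : CenIdx 2 S) {E : Subgroup Ω} (hE : F.IsEssential 2 E) {e₁ e₂ : Ω} {D : Subgroup Ω}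
    (hd : EssData F 2 E e₁ e₂ D) {β : MulAut S} (hβ : β ∈ F.autGroup S) {x : S}
    (hx : (x : Ω) ∈ D) : ((β x : S) : Ω) ∈ D := by
  have : Fact (Nat.Prime 2) := ⟨Nat.prime_two⟩
  obtain ⟨α, hα, hαβ⟩ := hd.autS hS hF hc hE hβ
  have hxE : (x : Ω) ∈ E := (ess_mid hS hF hE).ZE.le (hd.DZ hx)
  have := hd.invD α hα ⟨x, hxE⟩ hx
  rwa [hαβ ⟨x, hxE⟩ x.2] at this

theorem EssData.autS_W (hS : IsPGroup 2 S) {F : FusionSystem S} (hF : F.IsSaturated 2)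
    (hc : CenIdx 2 S) {E : Subgroup Ω} (hE : F.IsEssential 2 E) {e₁ e₂ : Ω} {D : Subgroup Ω}
    (hd : EssData F 2 E e₁ e₂ D) {β : MulAut S} (hβ : β ∈ F.autGroup S) {x : S}
    (hxE : (x : Ω) ∈ E) (hx : ∃ i j : ℕ, (x : Ω) = e₁ ^ i * e₂ ^ j) :
    ∃ i j : ℕ, ((β x : S) : Ω) = e₁ ^ i * e₂ ^ j := by
  obtain ⟨α, hα, hαβ⟩ := hd.autS hS hF hc hE hβ
  have := hd.invW α hα ⟨x, hxE⟩ hx
  rwa [hαβ ⟨x, hxE⟩ x.2] at this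

omit [Finite S] in
theorem EssData.e1_eq {F : FusionSystem S} {E E' : Subgroup Ω} {e₁ e₂ e₁' e₂' : Ω}
    {D D' : Subgroup Ω} (hd : EssData F 2 E e₁ e₂ D) (hd' : EssData F 2 E' e₁' e₂' D') :
    e₁' = e₁ := by
  obtain ⟨a, ha, b, hb, hab⟩ := hd'.e1comm
  obtain ⟨i, hi⟩ := hd.comm a ha b hb
  rw [hi] at hab
  rcases pow_cases_two hd.e1_pow i with h1 | h1
  · exact absurd (hab.trans h1) hd'.e1_ne
  · exact hab.trans h1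

omit [Finite S] in
theorem EssData.inf_inv {F : FusionSystem S} {E : Subgroup Ω} {e₁ e₂ : Ω} {D D₂ : Subgroup Ω}
    (hd : EssData F 2 E e₁ e₂ D) (hES : E ≤ S)
    (h1 : ∀ β ∈ F.autGroup S, ∀ x : S, (x : Ω) ∈ D → ((β x : S) : Ω) ∈ D)
    (h2 : ∀ β ∈ F.autGroup S, ∀ x : S, (x : Ω) ∈ D₂ → ((β x : S) : Ω) ∈ D₂)
    {α : MulAut E} (hα : α ∈ F.autGroup E) {x : E} (hx : (x : Ω) ∈ D ⊓ D₂) :
    ((α x : E) : Ω) ∈ D ⊓ D₂ := by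
  obtain ⟨g, -, β, hβ, hgD, hfr⟩ := hd.frat α hα
  obtain ⟨hxE, hαx⟩ := hfr x (hES x.2)
  have h3 := h1 β hβ ⟨x, hES x.2⟩ hx.1
  have h4 := h2 β hβ ⟨x, hES x.2⟩ hx.2
  rw [hαx, hgD _ h3]
  exact ⟨h3, h4⟩

omit [Finite S] in
theorem EssData.uniq {F : FusionSystem S} {E E' : Subgroup Ω} {e₁ e₂ e₂' : Ω}
    {D D' : Subgroup Ω} (hd : EssData F 2 E e₁ e₂ D) (hd' : EssData F 2 E' e₁ e₂' D')
    (hN : D ⊓ D' = ⊥) {d d' : Ω} (h1 : d ∈ D) (h2 : d' ∈ D) (h3 : d ≠ 1) (h4 : d' ≠ 1) :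
    d = d' := by
  have key : ∀ a ∈ D, a ≠ 1 → ∃ δ ∈ D', a = e₁ * δ := by
    intro a ha ha1
    obtain ⟨i, δ, hδ, haδ⟩ := hd'.spanZ a (hd.DZ ha)
    rcases pow_cases_two hd.e1_pow i with h5 | h5
    · exfalso
      rw [h5, one_mul] at haδ
      have : a ∈ D ⊓ D' := ⟨ha, haδ ▸ hδ⟩
      rw [hN] at this
      exact ha1 (Subgroup.mem_bot.1 this)
    · exact ⟨δ, hδ, by rw [haδ, h5]⟩
  obtain ⟨δ, hδ, rfl⟩ := key d h1 h3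
  obtain ⟨δ', hδ', rfl⟩ := key d' h2 h4
  have h5 : (e₁ * δ)⁻¹ * (e₁ * δ') ∈ D ⊓ D' := by
    refine ⟨D.mul_mem (D.inv_mem h1) h2, ?_⟩
    have : (e₁ * δ)⁻¹ * (e₁ * δ') = δ⁻¹ * δ' := by group
    rw [this]
    exact D'.mul_mem (D'.inv_mem hδ) hδ'
  rw [hN] at h5
  exact inv_mul_eq_one.1 (Subgroup.mem_bot.1 h5)

omit [Finite S] in
/-- `x⁻¹ α(x) ∈ T` for `α ∈ Aut_F(E)`. -/
theorem EssData.focE {F : FusionSystem S} {E : Subgroup Ω} {e₁ e₂ : Ω} {D : Subgroup Ω}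
    (hd : EssData F 2 E e₁ e₂ D) (hES : E ≤ S) (hZE : ZS S ≤ E)
    (huniq : ∀ d ∈ D, ∀ d' ∈ D, d ≠ 1 → d' ≠ 1 → d = d') {T : Subgroup Ω}
    (hT : ∀ i j : ℕ, e₁ ^ i * e₂ ^ j ∈ T) {α : MulAut E} (hα : α ∈ F.autGroup E) (x : E) :
    (x : Ω)⁻¹ * ((α x : E) : Ω) ∈ T := by
  obtain ⟨i, j, d, hdD, hx⟩ := hd.span x x.2
  have hwE : e₁ ^ i * e₂ ^ j ∈ E := E.mul_mem (E.pow_mem (hZE hd.e1Z) i) (E.pow_mem hd.e2E j)
  have hdE : d ∈ E := hZE (hd.DZ hdD)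
  have hx' : x = ⟨e₁ ^ i * e₂ ^ j, hwE⟩ * ⟨d, hdE⟩ := Subtype.ext hx
  have hfix : α ⟨d, hdE⟩ = ⟨d, hdE⟩ := by
    by_cases hd1 : d = 1
    · have : (⟨d, hdE⟩ : E) = 1 := Subtype.ext hd1
      rw [this, map_one]
    · ext
      apply huniq _ (hd.invD α hα ⟨d, hdE⟩ hdD) d hdD _ hd1
      intro hh
      apply hd1
      have h1 : α ⟨d, hdE⟩ = 1 := Subtype.ext hh
      have h2 : (⟨d, hdE⟩ : E) = 1 := by
        apply α.injective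
        rw [h1, map_one]
      exact congrArg (fun z : E => (z : Ω)) h2
  obtain ⟨i', j', hw'⟩ := hd.invW α hα ⟨e₁ ^ i * e₂ ^ j, hwE⟩ ⟨i, j, rfl⟩
  rw [hx', map_mul, hfix, Subgroup.coe_mul, Subgroup.coe_mul, hw']
  have hdc : ∀ s ∈ S, s * d = d * s := fun s hs => CenIdx.comm_of_mem_ZS (hd.DZ hdD) hs
  have hw'S : e₁ ^ i' * e₂ ^ j' ∈ S :=
    S.mul_mem (S.pow_mem (ZS_le S hd.e1Z) i') (S.pow_mem (hES hd.e2E) j')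
  have : (e₁ ^ i * e₂ ^ j * d)⁻¹ * (e₁ ^ i' * e₂ ^ j' * d) =
      (e₁ ^ i * e₂ ^ j)⁻¹ * (e₁ ^ i' * e₂ ^ j') := by
    rw [hdc _ hw'S, hdc _ (hES hwE)]
    group
  show (e₁ ^ i * e₂ ^ j * d)⁻¹ * (e₁ ^ i' * e₂ ^ j' * d) ∈ T
  rw [this]
  exact T.mul_mem (T.inv_mem (hT i j)) (hT i' j')

end Cfsg.Agent.Lib.Helper87
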