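import Cfsg.Agent.Lib.Helper87.CenIdxTwo2

set_option autoImplicit false

/-! `|S : Z(S)| = 4`, `O_2(F) = 1`, `hyp(F) = S`: the case `p = 2`, conclusion (helper87). -/

namespace Cfsg.Agent.Lib.Helper87

open Cfsg Cfsg.FusionSystem Cfsg.Agent.Lib.Helper84 Cfsg.Agent.Lib.Helper88 Cfsg.Agent.Lib.Lead

variable {Ω : Type*} [Group Ω] {S : Subgroup Ω} [Finite S]

theorem two_main (hS : IsPGroup 2 S) {F : FusionSystem S} (hF : F.IsSaturated 2)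
    (hc : CenIdx 2 S) (hS1 : S ≠ ⊥) (hcore : F.core = ⊥) (hhyp : F.hyperfocalSubgroup 2 = S) :
    ∃ (E : Subgroup Ω) (e₁ x₁ x₂ : Ω), CenIdx.Mid S E ∧ EssData F 2 E e₁ x₁ ⊥ ∧ x₂ ∈ S ∧ x₂ ∉ E ∧
      x₂ ^ 2 = 1 := by
  have hp : Fact (Nat.Prime 2) := ⟨Nat.prime_two⟩
  obtain ⟨E₁, hE₁⟩ := exists_essential hS hF hS1 hcore
  obtain ⟨e₁, x₁, D₁, hd₁⟩ := exists_essData hS hF hc hE₁
  have hmid₁ := ess_mid hS hF hE₁
  obtain ⟨E₂, hE₂, hne⟩ : ∃ E₂, F.IsEssential 2 E₂ ∧ E₂ ≠ E₁ := by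
    by_contra hcon
    push Not at hcon
    have hsc : F.StronglyClosed E₁ := by
      apply stronglyClosed_of_aut hS F hF E₁ hmid₁.ES.le
      rintro P (rfl | hP) α hα x hx
      · exact ((hd₁.aut_pres hS hF hc hE₁ hα) x).1 hx
      · have := hcon P hP
        subst this
        exact (α x).2
    have hab : IsMulCommutative E₁ := by
      refine ⟨⟨fun a b => ?_⟩⟩
      ext
      exact hmid₁.comm hc a.2 b.2
    have hne : E₁ ≠ ⊥ := by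
      rintro rfl
      exact hd₁.e2Z ((Subgroup.mem_bot.1 hd₁.e2E) ▸ (ZS S).one_mem)
    exact (core_ne_bot_iff hS F hF).2 ⟨_, hne, hab, hsc⟩ hcore
  obtain ⟨e₁', x₂, D₂, hd₂⟩ := exists_essData hS hF hc hE₂
  have he := hd₁.e1_eq hd₂
  subst he
  have hmid₂ := ess_mid hS hF hE₂
  have hx₂E₁ : x₂ ∉ E₁ := fun hh => hne (hmid₁.eq_of_gen hc hmid₂ hd₂.e2E hd₂.e2Z hh)
  have hx₁E₂ : x₁ ∉ E₂ := fun hh => hne (hmid₂.eq_of_gen hc hmid₁ hd₁.e2E hd₁.e2Z hh).symm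
  have hx₁S : x₁ ∈ S := hmid₁.ES.le hd₁.e2E
  have hx₂S : x₂ ∈ S := hmid₂.ES.le hd₂.e2E
  have he₁S : e₁' ∈ S := ZS_le S hd₁.e1Z
  have hall : ∀ E₃, F.IsEssential 2 E₃ → E₃ = E₁ ∨ E₃ = E₂ := by
    intro E₃ hE₃
    obtain ⟨e₁'', x₃, D₃, hd₃⟩ := exists_essData hS hF hc hE₃
    have hmid₃ := ess_mid hS hF hE₃
    obtain ⟨c, hcZ, hcases⟩ := hmid₁.decomp hc hd₁.e2E hd₁.e2Z hd₁.e2_pow hx₂S hx₂E₁ hd₂.e2_pow
      (hmid₃.ES.le hd₃.e2E)
    rcases hcases with h1 | h1 | h1 | h1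
    · exact absurd (h1 ▸ hcZ) hd₃.e2Z
    · left
      exact hmid₁.eq_of_gen hc hmid₃ hd₃.e2E hd₃.e2Z
        (h1 ▸ E₁.mul_mem hd₁.e2E (hmid₁.ZE.le hcZ))
    · right
      exact hmid₂.eq_of_gen hc hmid₃ hd₃.e2E hd₃.e2Z
        (h1 ▸ E₂.mul_mem hd₂.e2E (hmid₂.ZE.le hcZ))
    · exfalso
      have h2 := hd₃.e2_pow
      rw [h1] at h2
      exact hd₁.no_invol hx₂S hx₁S hd₂.e2_pow hd₁.e2_pow
        (hmid₁.not_comm hc hd₁.e2E hd₁.e2Z hx₂S hx₂E₁) hcZ h2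
  have hA₁ : ∀ β ∈ F.autGroup S, ∀ x : S, (x : Ω) ∈ D₁ → ((β x : S) : Ω) ∈ D₁ :=
    fun β hβ x hx => hd₁.autS_D hS hF hc hE₁ hβ hx
  have hA₂ : ∀ β ∈ F.autGroup S, ∀ x : S, (x : Ω) ∈ D₂ → ((β x : S) : Ω) ∈ D₂ :=
    fun β hβ x hx => hd₂.autS_D hS hF hc hE₂ hβ hx
  have hN : D₁ ⊓ D₂ = ⊥ := by
    by_contra hne'
    have hNS : D₁ ⊓ D₂ ≤ S := inf_le_left.trans (hd₁.DZ.trans (ZS_le S))
    have hsc : F.StronglyClosed (D₁ ⊓ D₂) := by
      apply stronglyClosed_of_aut hS F hF _ hNS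
      rintro P (rfl | hP) α hα x hx
      · exact ⟨hA₁ α hα x hx.1, hA₂ α hα x hx.2⟩
      · rcases hall P hP with rfl | rfl
        · exact hd₁.inf_inv hmid₁.ES.le hA₁ hA₂ hα hx
        · have := hd₂.inf_inv hmid₂.ES.le hA₂ hA₁ hα (x := x) ⟨hx.2, hx.1⟩
          exact ⟨this.2, this.1⟩
    have hab : IsMulCommutative (D₁ ⊓ D₂ : Subgroup Ω) := by
      refine ⟨⟨fun a b => ?_⟩⟩
      ext
      exact CenIdx.comm_of_mem_ZS (hd₁.DZ b.2.1) (hNS a.2)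
    exact (core_ne_bot_iff hS F hF).2 ⟨_, hne', hab, hsc⟩ hcore
  have hN' : D₂ ⊓ D₁ = ⊥ := by rw [inf_comm]; exact hN
  have hu₁ : ∀ d ∈ D₁, ∀ d' ∈ D₁, d ≠ 1 → d' ≠ 1 → d = d' :=
    fun d h1 d' h2 h3 h4 => hd₁.uniq hd₂ hN h1 h2 h3 h4
  have hu₂ : ∀ d ∈ D₂, ∀ d' ∈ D₂, d ≠ 1 → d' ≠ 1 → d = d' :=
    fun d h1 d' h2 h3 h4 => hd₂.uniq hd₁ hN' h1 h2 h3 h4
  -- the subgroup T
  obtain ⟨T, hTdef⟩ : ∃ T : Subgroup Ω, T = Subgroup.closure {e₁', x₁, x₂} := ⟨_, rfl⟩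
  have heT : e₁' ∈ T := hTdef ▸ Subgroup.subset_closure (by simp)
  have hx₁T : x₁ ∈ T := hTdef ▸ Subgroup.subset_closure (by simp)
  have hx₂T : x₂ ∈ T := hTdef ▸ Subgroup.subset_closure (by simp)
  have hTS : T ≤ S := by
    rw [hTdef, Subgroup.closure_le]
    rintro x (rfl | rfl | rfl)
    · exact he₁S
    · exact hx₁S
    · exact hx₂S
  have hcommT : ⁅S, S⁆ ≤ T := by
    rw [Subgroup.commutator_le]
    intro a ha b hb
    obtain ⟨i, hi⟩ := hd₁.comm a ha b hb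
    rw [commutatorElement_def, hi]
    exact T.pow_mem heT i
  have hTinv : ∀ β ∈ F.autGroup S, ∀ τ ∈ T, ∀ h : τ ∈ S, ((β ⟨τ, h⟩ : S) : Ω) ∈ T := by
    intro β hβ τ hτ
    rw [hTdef] at hτ
    induction hτ using Subgroup.closure_induction with
    | mem x hx =>
      intro h
      rcases hx with rfl | rfl | rfl
      · obtain ⟨k, hk⟩ := hd₁.zData.aut_eps β
        have : ((β ⟨x, h⟩ : S) : Ω) = x ^ k := congrArg (fun z : S => (z : Ω)) hk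
        rw [this]
        exact T.pow_mem heT k
      · obtain ⟨i, j, hij⟩ := hd₁.autS_W hS hF hc hE₁ hβ (x := ⟨x, h⟩) hd₁.e2E
          ⟨0, 1, by simp⟩
        rw [hij]
        exact T.mul_mem (T.pow_mem heT i) (T.pow_mem hx₁T j)
      · obtain ⟨i, j, hij⟩ := hd₂.autS_W hS hF hc hE₂ hβ (x := ⟨x, h⟩) hd₂.e2E
          ⟨0, 1, by simp⟩
        rw [hij]
        exact T.mul_mem (T.pow_mem heT i) (T.pow_mem hx₂T j)
    | one =>
      intro h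
      have : (⟨1, h⟩ : S) = 1 := rfl
      rw [this, map_one]
      exact T.one_mem
    | mul x y hx hy ihx ihy =>
      intro h
      have hxS : x ∈ S := hTS (hTdef ▸ hx)
      have hyS : y ∈ S := hTS (hTdef ▸ hy)
      have : (⟨x * y, h⟩ : S) = ⟨x, hxS⟩ * ⟨y, hyS⟩ := rfl
      rw [this, map_mul]
      exact T.mul_mem (ihx hxS) (ihy hyS)
    | inv x hx ihx =>
      intro h
      have hxS : x ∈ S := hTS (hTdef ▸ hx)
      have : (⟨x⁻¹, h⟩ : S) = ⟨x, hxS⟩⁻¹ := rfl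
      rw [this, map_inv]
      exact T.inv_mem (ihx hxS)
  have hdec : ∀ s ∈ S, ∃ τ ∈ T, ∃ d ∈ D₁, s = τ * d := by
    intro s hs
    obtain ⟨c, hcZ, hcases⟩ := hmid₁.decomp hc hd₁.e2E hd₁.e2Z hd₁.e2_pow hx₂S hx₂E₁ hd₂.e2_pow hs
    obtain ⟨i, d, hdD, rfl⟩ := hd₁.spanZ c hcZ
    rcases hcases with h1 | h1 | h1 | h1
    · exact ⟨e₁' ^ i, T.pow_mem heT i, d, hdD, h1⟩
    · exact ⟨x₁ * e₁' ^ i, T.mul_mem hx₁T (T.pow_mem heT i), d, hdD, by rw [h1, mul_assoc]⟩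
    · exact ⟨x₂ * e₁' ^ i, T.mul_mem hx₂T (T.pow_mem heT i), d, hdD, by rw [h1, mul_assoc]⟩
    · exact ⟨x₂ * x₁ * e₁' ^ i, T.mul_mem (T.mul_mem hx₂T hx₁T) (T.pow_mem heT i), d, hdD,
        by rw [h1, mul_assoc (x₂ * x₁)]⟩
  have hle : F ≤ focSystem F T hcommT := by
    apply alperin hS F hF
    rintro P hP α hα
    have hPS : P ≤ S := by
      rcases hP with rfl | hP
      · exact le_rfl
      · exact hP.1.1
    rw [mem_autGroup_iff _ hPS]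
    refine ⟨(mem_autGroup_iff F hPS α).1 hα, fun x => ?_⟩
    show (x : Ω)⁻¹ * ((α x : P) : Ω) ∈ T
    rcases hP with rfl | hP
    · obtain ⟨τ, hτ, d, hdD, hx⟩ := hdec x x.2
      have hτS := hTS hτ
      have hdS : d ∈ P := ZS_le P (hd₁.DZ hdD)
      have hx' : x = ⟨τ, hτS⟩ * ⟨d, hdS⟩ := Subtype.ext hx
      have hfix : α ⟨d, hdS⟩ = ⟨d, hdS⟩ := by
        by_cases hd1 : d = 1
        · have : (⟨d, hdS⟩ : P) = 1 := Subtype.ext hd1
          rw [this, map_one]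
        · ext
          apply hu₁ _ (hA₁ α hα ⟨d, hdS⟩ hdD) d hdD _ hd1
          intro hh
          apply hd1
          have h1 : α ⟨d, hdS⟩ = 1 := Subtype.ext hh
          have h2 : (⟨d, hdS⟩ : P) = 1 := by
            apply α.injective
            rw [h1, map_one]
          exact congrArg (fun z : P => (z : Ω)) h2
      have hτ' := hTinv α hα τ hτ hτS
      rw [hx', map_mul, hfix]
      show (τ * d)⁻¹ * (((α ⟨τ, hτS⟩ : P) : Ω) * d) ∈ T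
      have hdc : ∀ s ∈ P, s * d = d * s := fun s hs => CenIdx.comm_of_mem_ZS (hd₁.DZ hdD) hs
      have : (τ * d)⁻¹ * (((α ⟨τ, hτS⟩ : P) : Ω) * d) = τ⁻¹ * ((α ⟨τ, hτS⟩ : P) : Ω) := by
        rw [hdc _ (α ⟨τ, hτS⟩).2, hdc _ hτS]
        group
      rw [this]
      exact T.mul_mem (T.inv_mem hτ) hτ'
    · rcases hall P hP with rfl | rfl
      · exact hd₁.focE hmid₁.ES.le hmid₁.ZE.le hu₁
          (fun i j => T.mul_mem (T.pow_mem heT i) (T.pow_mem hx₁T j)) hα x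
      · exact hd₂.focE hmid₂.ES.le hmid₂.ZE.le hu₂
          (fun i j => T.mul_mem (T.pow_mem heT i) (T.pow_mem hx₂T j)) hα x
  have hST : S ≤ T := by
    have h1 : F.focalSubgroup ≤ T := by
      unfold FusionSystem.focalSubgroup
      rw [Subgroup.closure_le]
      rintro _ ⟨P, φ, x, hφ, rfl⟩
      exact (hle P hφ).2 x
    have h2 : F.hyperfocalSubgroup 2 ≤ F.focalSubgroup := by
      rw [focal_eq hS F hF]
      exact le_sup_left
    rw [hhyp] at h2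
    exact h2.trans h1
  -- normal form of the elements of T
  have hT' : T ≤ Subgroup.zpowers x₂ ⊔ (Subgroup.zpowers x₁ ⊔ Subgroup.zpowers e₁') := by
    rw [hTdef, Subgroup.closure_le]
    rintro x (rfl | rfl | rfl)
    · exact le_sup_right (a := Subgroup.zpowers x₂)
        (le_sup_right (a := Subgroup.zpowers x₁) (Subgroup.mem_zpowers _))
    · exact le_sup_right (a := Subgroup.zpowers x₂)
        (le_sup_left (b := Subgroup.zpowers e₁') (Subgroup.mem_zpowers _))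
    · exact le_sup_left (b := Subgroup.zpowers x₁ ⊔ Subgroup.zpowers e₁') (Subgroup.mem_zpowers _)
  have hW₁E : Subgroup.zpowers x₁ ⊔ Subgroup.zpowers e₁' ≤ E₁ :=
    sup_le (by rw [Subgroup.zpowers_le]; exact hd₁.e2E)
      (by rw [Subgroup.zpowers_le]; exact hmid₁.ZE.le hd₁.e1Z)
  have hnorm1 : Subgroup.zpowers x₁ ≤ Subgroup.normalizer (Subgroup.zpowers e₁' : Set Ω) := by
    rw [Subgroup.zpowers_le]
    have key : ∀ s ∈ S, ∀ w ∈ Subgroup.zpowers e₁', s * w * s⁻¹ ∈ Subgroup.zpowers e₁' := by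
      intro s hs w hw
      have hwZ : w ∈ ZS S := (Subgroup.zpowers_le.2 hd₁.e1Z) hw
      rw [CenIdx.comm_of_mem_ZS hwZ hs, mul_inv_cancel_right]
      exact hw
    apply mem_normalizer_of_conj_mem (key x₁ hx₁S)
    intro w hw
    simpa using key x₁⁻¹ (S.inv_mem hx₁S) w hw
  have hnorm2 : Subgroup.zpowers x₂ ≤
      Subgroup.normalizer ((Subgroup.zpowers x₁ ⊔ Subgroup.zpowers e₁' : Subgroup Ω) : Set Ω) := by
    rw [Subgroup.zpowers_le]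
    have key : ∀ s ∈ S, ∀ w ∈ Subgroup.zpowers x₁ ⊔ Subgroup.zpowers e₁',
        s * w * s⁻¹ ∈ Subgroup.zpowers x₁ ⊔ Subgroup.zpowers e₁' := by
      intro s hs w hw
      obtain ⟨i, hi⟩ := hd₁.comm s hs w (hmid₁.ES.le (hW₁E hw))
      have h1 : s * w * s⁻¹ = e₁' ^ i * w := by
        rw [← hi]; group
      rw [h1]
      exact Subgroup.mul_mem _ (le_sup_right (a := Subgroup.zpowers x₁)
        (Subgroup.pow_mem _ (Subgroup.mem_zpowers _) i)) hw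
    apply mem_normalizer_of_conj_mem (key x₂ hx₂S)
    intro w hw
    simpa using key x₂⁻¹ (S.inv_mem hx₂S) w hw
  have hD₁ : D₁ = ⊥ := by
    rw [eq_bot_iff]
    intro d hdD
    have hdS : d ∈ S := ZS_le S (hd₁.DZ hdD)
    obtain ⟨a, ha, w, hw, hdaw⟩ := mem_sup_of_le_normalizer hnorm2 (hT' (hST hdS))
    obtain ⟨k, rfl⟩ := exists_pow_of_mem_zpowers' (by norm_num : 0 < 2) hd₂.e2_pow ha
    have haE : x₂ ^ k ∈ E₁ := by
      have : x₂ ^ k = d * w⁻¹ := by rw [hdaw]; group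
      rw [this]
      exact E₁.mul_mem (hmid₁.ZE.le (hd₁.DZ hdD)) (E₁.inv_mem (hW₁E hw))
    have ha1 : x₂ ^ k = 1 := by
      rcases pow_cases_two hd₂.e2_pow k with h1 | h1
      · exact h1
      · exact absurd (h1 ▸ haE) hx₂E₁
    rw [ha1, one_mul] at hdaw
    obtain ⟨b, hb, c, hc', hwbc⟩ := mem_sup_of_le_normalizer hnorm1 hw
    obtain ⟨j, rfl⟩ := exists_pow_of_mem_zpowers' (by norm_num : 0 < 2) hd₁.e2_pow hb
    obtain ⟨i, rfl⟩ := exists_pow_of_mem_zpowers' (by norm_num : 0 < 2) hd₁.e1_pow hc'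
    have hcm : x₁ ^ j * e₁' ^ i = e₁' ^ i * x₁ ^ j :=
      ((show Commute x₁ e₁' from CenIdx.comm_of_mem_ZS hd₁.e1Z hx₁S).pow_pow j i).eq
    have h1 : e₁' ^ i * x₁ ^ j * d⁻¹ = 1 := by
      rw [← hcm, ← hwbc, ← hdaw, mul_inv_cancel]
    have := (hd₁.indep i j d⁻¹ (D₁.inv_mem hdD) h1).2.2
    exact Subgroup.mem_bot.2 (inv_eq_one.1 this)
  subst hD₁
  exact ⟨E₁, e₁', x₁, x₂, hmid₁, hd₁, hx₂S, hx₂E₁, hd₂.e2_pow⟩

end Cfsg.Agent.Lib.Helper87
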