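import Cfsg.Agent.Lib.Helper51.Replacement
import Cfsg.Agent.Lib.Lead.ZJFunctor
import Cfsg.Agent.Lib.Lead.Cores
import Cfsg.Agent.Lib.Helper84.FusionSat
import Cfsg.Agent.Lib.Helper84.StronglyEmbedded2

set_option autoImplicit false

/-! The abelian-version Thompson subgroup as a characteristic functor with a quadratic element condition (helper87). -/

namespace Cfsg.Agent.Lib.Helper87

open Cfsg Cfsg.Agent.Lib.Helper84 Cfsg.Agent.Lib.Helper51
open scoped commutatorElement

universe u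

theorem thompsonA_map {Q R : Type u} [Group Q] [Group R] (φ : Q ≃* R) :
    (thompsonSubgroupA Q).map φ.toMonoidHom = thompsonSubgroupA R := by
  apply le_antisymm (Cfsg.Agent.Lib.Lead.thompsonSubgroupA_map_le φ)
  have h := Cfsg.Agent.Lib.Lead.thompsonSubgroupA_map_le φ.symm
  intro y hy
  exact ⟨φ.symm y, h ⟨y, hy, rfl⟩, by simp⟩

theorem centralizer_thompsonA_le (Q : Type*) [Group Q] [Finite Q] :
    Subgroup.centralizer (thompsonSubgroupA Q : Set Q) ≤ thompsonSubgroupA Q := by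
  intro c hc
  obtain ⟨A, hA⟩ := exists_mem_maxAbelian (P := Q)
  have hAJ : A ≤ thompsonSubgroupA Q := le_sSup hA
  have h1 : Subgroup.zpowers c ≤ A := by
    apply le_of_le_centralizer_maxAbelian hA
    · rw [Subgroup.zpowers_le]
      rw [Subgroup.mem_centralizer_iff]
      intro y hy
      obtain ⟨k, rfl⟩ := Subgroup.mem_zpowers_iff.1 hy
      exact ((Commute.refl c).zpow_left k).eq
    · rw [Subgroup.zpowers_le]
      exact Subgroup.centralizer_le (SetLike.coe_subset_coe.2 hAJ) hc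
  exact hAJ (h1 (Subgroup.mem_zpowers c))

theorem center_le_thompsonA (Q : Type*) [Group Q] [Finite Q] :
    Subgroup.center Q ≤ thompsonSubgroupA Q := by
  refine le_trans ?_ (centralizer_thompsonA_le Q)
  exact Subgroup.center_le_centralizer _

theorem thompsonA_quadratic {p : ℕ} [Fact p.Prime] (G : Type*) [Group G] [Finite G] (P : Sylow p G)
    (hn : ¬ (((thompsonSubgroupA ↥(P : Subgroup G)).map (P : Subgroup G).subtype : Subgroup G)).Normal) :
    ∃ g : G, g ∈ (P : Subgroup G) ∧ g ∉ Cfsg.pCore p G ∧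
      ⁅⁅Subgroup.center ↥(Cfsg.pCore p G) |>.map (Cfsg.pCore p G).subtype, Subgroup.zpowers g⁆,
        Subgroup.zpowers g⁆ = ⊥ := by
  have hUP : pCore p G ≤ P := Cfsg.Agent.Lib.Lead.pCore_le_sylow P
  have hUn : (pCore p G).Normal := Cfsg.Agent.Lib.Lead.pCore_normal' p G
  have hnil : Group.IsNilpotent ↥(P : Subgroup G) := P.2.isNilpotent
  obtain ⟨Z, hZdef⟩ : ∃ Z, Z = (Subgroup.center ↥(pCore p G)).map (pCore p G).subtype := ⟨_, rfl⟩
  rw [← hZdef]
  have hZ : ∀ a, a ∈ Z ↔ a ∈ pCore p G ∧ ∀ u ∈ pCore p G, u * a = a * u := by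
    intro a
    rw [hZdef]
    constructor
    · rintro ⟨a', ha', rfl⟩
      refine ⟨a'.2, fun u hu => ?_⟩
      exact congrArg Subtype.val (Subgroup.mem_center_iff.1 ha' ⟨u, hu⟩)
    · rintro ⟨h1, h2⟩
      refine ⟨⟨a, h1⟩, ?_, rfl⟩
      rw [SetLike.mem_coe, Subgroup.mem_center_iff]
      intro u
      exact Subtype.ext (h2 u u.2)
  have hZn : ∀ a ∈ Z, ∀ l : G, l * a * l⁻¹ ∈ Z := by
    intro a ha l
    obtain ⟨h1, h2⟩ := (hZ a).1 ha
    refine (hZ _).2 ⟨hUn.conj_mem a h1 l, fun u hu => ?_⟩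
    have h3 := h2 (l⁻¹ * u * l) (by simpa using hUn.conj_mem u hu l⁻¹)
    calc u * (l * a * l⁻¹) = l * ((l⁻¹ * u * l) * a) * l⁻¹ := by group
      _ = l * (a * (l⁻¹ * u * l)) * l⁻¹ := by rw [h3]
      _ = l * a * l⁻¹ * u := by group
  -- some member of `𝒜(P)` is not contained in `O_p(G)`
  have step1 : ∃ A ∈ maxAbelianSubgroups ↥(P : Subgroup G), ¬ A.map (P : Subgroup G).subtype ≤ pCore p G := by
    by_contra hcon
    push Not at hcon
    apply hn
    constructor
    intro x hx g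
    have key : thompsonSubgroupA ↥(P : Subgroup G) ≤
        (((thompsonSubgroupA ↥(P : Subgroup G)).map (P : Subgroup G).subtype).comap
          (MulAut.conj g).toMonoidHom).comap (P : Subgroup G).subtype := by
      apply sSup_le
      intro A hA a ha
      have hAU := hcon A hA
      have hmem : ∀ a : A, g * ((a : ↥(P : Subgroup G)) : G) * g⁻¹ ∈ (P : Subgroup G) := fun a =>
        hUP (hUn.conj_mem _ (hAU ⟨a, a.2, rfl⟩) g)
      let f : A →* ↥(P : Subgroup G) :=
        (((MulAut.conj g).toMonoidHom.comp (P : Subgroup G).subtype).comp A.subtype).codRestrict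
          (P : Subgroup G) hmem
      have hf : Function.Injective f := by
        intro a b hab
        have h1 : g * ((a : ↥(P : Subgroup G)) : G) * g⁻¹ = g * ((b : ↥(P : Subgroup G)) : G) * g⁻¹ :=
          congrArg Subtype.val hab
        have h2 : ((a : ↥(P : Subgroup G)) : G) = b := by simpa using h1
        exact Subtype.ext (Subtype.ext h2)
      have hfA : f.range ∈ maxAbelianSubgroups ↥(P : Subgroup G) := by
        rw [mem_maxAbelian_iff] at hA ⊢
        constructor
        · rintro _ ⟨a, rfl⟩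
          rw [Subgroup.mem_centralizer_iff]
          rintro _ ⟨b, rfl⟩
          rw [← map_mul, ← map_mul]
          congr 1
          exact Subtype.ext ((Subgroup.mem_centralizer_iff.1 (hA.1 a.2)) b b.2)
        · intro B hB
          rw [← Nat.card_congr (MonoidHom.ofInjective hf).toEquiv]
          exact hA.2 B hB
      have h3 : f ⟨a, ha⟩ ∈ thompsonSubgroupA ↥(P : Subgroup G) := (le_sSup hfA) ⟨_, rfl⟩
      exact ⟨_, h3, rfl⟩
    obtain ⟨y, hy, rfl⟩ := hx
    exact key hy
  obtain ⟨B, hBdef⟩ : ∃ B : Subgroup ↥(P : Subgroup G), B = Z.subgroupOf (P : Subgroup G) := ⟨_, rfl⟩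
  have hBab : B ≤ Subgroup.centralizer (B : Set ↥(P : Subgroup G)) := by
    intro b hb
    rw [Subgroup.mem_centralizer_iff]
    intro c hc
    rw [hBdef] at hb hc
    exact Subtype.ext (((hZ b).1 hb).2 c ((hZ c).1 hc).1)
  have hBn : ∀ A : Subgroup ↥(P : Subgroup G), A ≤ Subgroup.normalizer (B : Set ↥(P : Subgroup G)) := by
    intro A a _
    apply mem_normalizer_of_conj_mem
    · intro b hb
      rw [hBdef] at hb ⊢
      exact hZn b hb a
    · intro b hb
      rw [hBdef] at hb ⊢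
      have := hZn b hb (a : G)⁻¹
      rw [inv_inv] at this
      exact this
  have hfin : {A : Subgroup ↥(P : Subgroup G) | A ∈ maxAbelianSubgroups ↥(P : Subgroup G) ∧
      ¬ A.map (P : Subgroup G).subtype ≤ pCore p G}.Finite := Set.toFinite _
  obtain ⟨A, ⟨hA, hAU⟩, hmax⟩ := Set.exists_max_image _
    (fun A : Subgroup ↥(P : Subgroup G) => Nat.card ↥(A ⊓ B)) hfin
    (by obtain ⟨A, h1, h2⟩ := step1; exact ⟨A, h1, h2⟩)
  have hBA : B ≤ Subgroup.normalizer (A : Set ↥(P : Subgroup G)) := by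
    by_contra hBA
    obtain ⟨A', hA', hlt, hA'N, -⟩ := thompson_replacement hA B hBab (hBn A) hBA
    have hA'U : A'.map (P : Subgroup G).subtype ≤ pCore p G := by
      by_contra hcon
      have h1 := hmax A' ⟨hA', hcon⟩
      have h2 : Nat.card ↥(A ⊓ B) < Nat.card ↥(A' ⊓ B) := card_lt_card_of_lt hlt
      have h3 : Nat.card ↥(A' ⊓ B) ≤ Nat.card ↥(A ⊓ B) := h1
      omega
    have hBA' : B ≤ Subgroup.centralizer (A' : Set ↥(P : Subgroup G)) := by
      intro b hb
      rw [Subgroup.mem_centralizer_iff]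
      intro a ha
      rw [hBdef] at hb
      exact Subtype.ext (((hZ b).1 hb).2 a (hA'U ⟨a, ha, rfl⟩))
    exact hBA ((le_of_le_centralizer_maxAbelian hA' hBab hBA').trans hA'N)
  obtain ⟨a, ha, haU⟩ : ∃ a ∈ A, (a : G) ∉ pCore p G := by
    by_contra hcon
    push Not at hcon
    apply hAU
    rintro _ ⟨a, ha, rfl⟩
    exact hcon a ha
  refine ⟨a, a.2, haU, ?_⟩
  have hAab := (mem_maxAbelian_iff.1 hA).1
  have hzp : Subgroup.zpowers (a : G) ≤ A.map (P : Subgroup G).subtype := by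
    rw [Subgroup.zpowers_le]
    exact ⟨a, ha, rfl⟩
  have h1 : ⁅Z, Subgroup.zpowers (a : G)⁆ ≤ A.map (P : Subgroup G).subtype := by
    rw [Subgroup.commutator_le]
    intro z hz y hy
    obtain ⟨y', hy', rfl⟩ := hzp hy
    have hzP : z ∈ (P : Subgroup G) := hUP ((hZ z).1 hz).1
    have hzB : (⟨z, hzP⟩ : ↥(P : Subgroup G)) ∈ B := by rw [hBdef]; exact hz
    have h2 := conj_mem_of_mem_normalizer (hBA hzB) hy'
    rw [commutatorElement_def]
    exact ⟨⟨z, hzP⟩ * y' * ⟨z, hzP⟩⁻¹ * y'⁻¹, A.mul_mem h2 (A.inv_mem hy'), rfl⟩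
  have h2 : ⁅A.map (P : Subgroup G).subtype, Subgroup.zpowers (a : G)⁆ = ⊥ := by
    rw [Subgroup.commutator_eq_bot_iff_le_centralizer]
    rintro _ ⟨x, hx, rfl⟩
    rw [Subgroup.mem_centralizer_iff]
    intro y hy
    obtain ⟨y', hy', rfl⟩ := hzp hy
    exact congrArg Subtype.val ((Subgroup.mem_centralizer_iff.1 (hAab hx)) y' hy')
  rw [eq_bot_iff, ← h2]
  exact Subgroup.commutator_mono h1 le_rfl

end Cfsg.Agent.Lib.Helper87
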