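import Cfsg.Agent.Lib.Helper87.ClimbNF
import Cfsg.Agent.Lib.Helper87.ThompsonQuad
import Cfsg.Agent.Lib.Helper88.FusNilp5
import Cfsg.Agent.Lib.Helper33.Sections
import Cfsg.Agent.S2800

set_option autoImplicit false

/-! A strengthened Frobenius criterion for groups: if `p` is odd or `G` is `S₄`-free and the `p'`-elements of
the normalizers of the nontrivial characteristic subgroups of a Sylow subgroup centralize them, then `G` has a normal
`p`-complement (helper87). -/

namespace Cfsg.Agent.Lib.Helper87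

open Cfsg Cfsg.Agent.Lib.Helper84

universe u

/-- Frobenius' condition. -/
def Frob (p : ℕ) {G : Type*} [Group G] (T : Subgroup G) : Prop :=
  ∀ U : Subgroup G, U ≤ T → ∀ g ∈ Subgroup.normalizer (U : Set G), (orderOf g).Coprime p →
    g ∈ Subgroup.centralizer (U : Set G)

/-- Frobenius' condition for the nontrivial characteristic subgroups only. -/
def CharHyp (p : ℕ) {G : Type*} [Group G] (T : Subgroup G) : Prop :=
  ∀ R : Subgroup G, R ≤ T → R ≠ ⊥ → (R.subgroupOf T).Characteristic →
    ∀ g ∈ Subgroup.normalizer (R : Set G), (orderOf g).Coprime p →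
    g ∈ Subgroup.centralizer (R : Set G)

theorem char_of_equiv {A B : Type*} [Group A] [Group B] (e : A ≃* B) (K : Subgroup A)
    (K' : Subgroup B) (h : ∀ a, a ∈ K ↔ e a ∈ K') (hK : K.Characteristic) : K'.Characteristic := by
  rw [Subgroup.characteristic_iff_map_le]
  rintro φ _ ⟨b, hb, rfl⟩
  obtain ⟨a, rfl⟩ := e.surjective b
  have h1 : a ∈ K := (h a).2 hb
  have h2 := (Subgroup.characteristic_iff_map_le.1 hK) ((e.trans φ).trans e.symm) ⟨a, h1, rfl⟩
  have h3 := (h _).1 h2
  simpa using h3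

theorem char_comap_of_surjective {A B : Type*} [Group A] [Group B] (f : A →* B)
    (hf : Function.Surjective f) (hker : f.ker.Characteristic) (K : Subgroup B)
    (hK : K.Characteristic) : (K.comap f).Characteristic := by
  rw [Subgroup.characteristic_iff_map_le]
  rintro α _ ⟨a, ha, rfl⟩
  have hmap : f.ker.map α.toMonoidHom = f.ker := (Subgroup.characteristic_iff_map_eq.1 hker) α
  let β : B ≃* B := (QuotientGroup.quotientKerEquivOfSurjective f hf).symm.trans
    ((QuotientGroup.congr f.ker f.ker α hmap).trans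
      (QuotientGroup.quotientKerEquivOfSurjective f hf))
  have hβ : ∀ x, β (f x) = f (α x) := by
    intro x
    have h1 : (QuotientGroup.quotientKerEquivOfSurjective f hf).symm (f x) =
        (x : A ⧸ f.ker) := by
      rw [MulEquiv.symm_apply_eq]
      rfl
    show (QuotientGroup.quotientKerEquivOfSurjective f hf) ((QuotientGroup.congr f.ker f.ker α hmap)
      ((QuotientGroup.quotientKerEquivOfSurjective f hf).symm (f x))) = _
    rw [h1]
    rfl
  have h2 := (Subgroup.characteristic_iff_map_le.1 hK) β ⟨f a, ha, rfl⟩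
  show f (α a) ∈ K
  rw [← hβ]
  exact h2

theorem eq_one_of_conj {G : Type*} [Group G] {p : ℕ} {g u c : G} (h1 : g * u * g⁻¹ = u * c)
    (h2 : g * c * g⁻¹ = c) {k : ℕ} (hc : c ^ (p ^ k) = 1) (hg : (orderOf g).Coprime p) :
    c = 1 := by
  have h3 := conj_pow_of_conj h1 h2 (orderOf g)
  rw [pow_orderOf_eq_one] at h3
  have h4 : c ^ orderOf g = 1 := by simpa using h3.symm
  have h5 := Nat.dvd_gcd (orderOf_dvd_of_pow_eq_one h4) (orderOf_dvd_of_pow_eq_one hc)
  rw [(Nat.Coprime.pow_right k hg).gcd_eq_one, Nat.dvd_one, orderOf_eq_one_iff] at h5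
  exact h5

theorem frob_of_hasNormalPComplement {G : Type*} [Group G] [Finite G] {p : ℕ} [Fact p.Prime]
    (h : HasNormalPComplement p G) (T : Sylow p G) : Frob p (T : Subgroup G) := by
  obtain ⟨P, N, hN, hc⟩ := h
  have hcard := hc.card_mul_card
  have hNcop : (Nat.card N).Coprime p := by
    have h1 : Nat.card N = (P : Subgroup G).index := by
      have h2 := (P : Subgroup G).card_mul_index
      rw [← hcard, mul_comm] at h2
      exact (Nat.eq_of_mul_eq_mul_right Nat.card_pos h2).symm
    rw [h1, Nat.coprime_comm]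
    exact (Nat.Prime.coprime_iff_not_dvd Fact.out).2 P.not_dvd_index
  have hTP : Nat.card (T : Subgroup G) = Nat.card (P : Subgroup G) := by
    rw [T.card_eq_multiplicity, P.card_eq_multiplicity]
  have hc' : N.IsComplement' (T : Subgroup G) := by
    apply Subgroup.isComplement'_of_coprime
    · rw [hTP]; exact hcard
    · obtain ⟨k, hk⟩ := IsPGroup.iff_card.1 T.2
      rw [hk]
      exact Nat.Coprime.pow_right k hNcop
  exact (Cfsg.Agent.S0071.result T).1 ⟨N, hN, hc'⟩

theorem hasNormalPComplement_of_frob' {G : Type*} [Group G] [Finite G] {p : ℕ} [Fact p.Prime]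
    (T : Sylow p G) (h : Frob p (T : Subgroup G)) : HasNormalPComplement p G := by
  obtain ⟨N, hN, hc⟩ := (Cfsg.Agent.S0071.result T).2 h
  exact ⟨T, N, hN, hc⟩

theorem exists_lift_coprime {G : Type*} [Group G] {p : ℕ} (Z : Subgroup G) [Z.Normal]
    (hZ : IsPGroup p Z) (gb : G ⧸ Z) (h : (orderOf gb).Coprime p) :
    ∃ g : G, (g : G ⧸ Z) = gb ∧ (orderOf g).Coprime p := by
  obtain ⟨g₀, rfl⟩ := QuotientGroup.mk_surjective gb
  have h1 : g₀ ^ orderOf (g₀ : G ⧸ Z) ∈ Z := by
    rw [← QuotientGroup.eq_one_iff, QuotientGroup.mk_pow, pow_orderOf_eq_one]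
  obtain ⟨a, ha⟩ := hZ ⟨_, h1⟩
  have ha' : (g₀ ^ orderOf (g₀ : G ⧸ Z)) ^ p ^ a = 1 := congrArg Subtype.val ha
  obtain ⟨m, hm⟩ := exists_pow_eq_self_of_coprime (x := (g₀ : G ⧸ Z)) (n := p ^ a)
    (Nat.Coprime.pow_left a h.symm)
  refine ⟨(g₀ ^ p ^ a) ^ m, ?_, ?_⟩
  · rw [QuotientGroup.mk_pow, QuotientGroup.mk_pow, hm]
  · apply Nat.Coprime.coprime_dvd_left _ h
    apply orderOf_dvd_of_pow_eq_one
    have e : p ^ a * (m * orderOf (g₀ : G ⧸ Z)) = orderOf (g₀ : G ⧸ Z) * p ^ a * m := by ring
    rw [← pow_mul, ← pow_mul, e, pow_mul, pow_mul, ha', one_pow]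

theorem thompson_normalizer_of_charHyp {G : Type u} [Group G] [Finite G] {p : ℕ} [Fact p.Prime]
    (T : Sylow p G) (hT : (T : Subgroup G) ≠ ⊥) (h : CharHyp p (T : Subgroup G)) :
    HasNormalPComplement p
      ↥(Subgroup.normalizer ((thompsonSubgroupAOf (T : Subgroup G)) : Set G)) := by
  have hJT : thompsonSubgroupAOf (T : Subgroup G) ≤ T := Subgroup.map_subtype_le _
  have hsub : (thompsonSubgroupAOf (T : Subgroup G)).subgroupOf T =
      thompsonSubgroupA ↥(T : Subgroup G) :=
    Subgroup.comap_map_eq_self_of_injective (Subgroup.subtype_injective _) _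
  have hchar : ((thompsonSubgroupAOf (T : Subgroup G)).subgroupOf T).Characteristic := by
    rw [hsub, Subgroup.characteristic_iff_map_eq]
    exact fun φ => thompsonA_map φ
  have hcen : ∀ c ∈ (T : Subgroup G),
      c ∈ Subgroup.centralizer ((thompsonSubgroupAOf (T : Subgroup G)) : Set G) →
      c ∈ thompsonSubgroupAOf (T : Subgroup G) := by
    intro c hc hcc
    refine ⟨⟨c, hc⟩, centralizer_thompsonA_le _ ?_, rfl⟩
    rw [Subgroup.mem_centralizer_iff]
    intro w hw
    exact Subtype.ext ((Subgroup.mem_centralizer_iff.1 hcc) w ⟨w, hw, rfl⟩)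
  have hne : thompsonSubgroupAOf (T : Subgroup G) ≠ ⊥ := by
    intro hb
    apply hT
    rw [eq_bot_iff]
    intro c hc
    rw [← hb]
    apply hcen c hc
    rw [hb, Subgroup.mem_centralizer_iff]
    intro x hx
    rw [SetLike.mem_coe, Subgroup.mem_bot] at hx
    rw [hx, one_mul, mul_one]
  have hTN : (T : Subgroup G) ≤
      Subgroup.normalizer ((thompsonSubgroupAOf (T : Subgroup G)) : Set G) :=
    Subgroup.le_normalizer.trans (functor_normalizer (p := p)
      (fun Q _ => thompsonSubgroupA Q) (fun Q R _ _ _ _ φ => thompsonA_map φ) T.2)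
  apply Cfsg.Agent.Lib.Helper88.hasNormalPComplement_normalizer_of_frob T _ hJT hTN
  intro U hVU hUT g hgU hgV hgo
  have hgJ := h _ hJT hne hchar g hgV hgo
  rw [Subgroup.mem_centralizer_iff] at hgJ ⊢
  intro u hu
  have hc1 : g * u * g⁻¹ = u * (u⁻¹ * (g * u * g⁻¹)) := by group
  have hcU : u⁻¹ * (g * u * g⁻¹) ∈ U :=
    U.mul_mem (U.inv_mem hu) (conj_mem_of_mem_normalizer hgU hu)
  have hcJ : u⁻¹ * (g * u * g⁻¹) ∈ thompsonSubgroupAOf (T : Subgroup G) := by
    apply hcen _ (hUT hcU)
    rw [Subgroup.mem_centralizer_iff]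
    intro j hj
    have c1 : Commute g j := (hgJ j hj).symm
    have c2 : Commute g (u * j * u⁻¹) :=
      (hgJ _ (conj_mem_of_mem_normalizer (hTN (hUT hu)) hj)).symm
    calc j * (u⁻¹ * (g * u * g⁻¹)) = u⁻¹ * ((u * j * u⁻¹) * g) * u * g⁻¹ := by group
      _ = u⁻¹ * (g * (u * j * u⁻¹)) * u * g⁻¹ := by rw [c2.eq]
      _ = u⁻¹ * g * u * (j * g⁻¹) := by group
      _ = u⁻¹ * g * u * (g⁻¹ * j) := by rw [c1.inv_left.eq]
      _ = u⁻¹ * (g * u * g⁻¹) * j := by group
  have hc2 : g * (u⁻¹ * (g * u * g⁻¹)) * g⁻¹ = u⁻¹ * (g * u * g⁻¹) := by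
    rw [← hgJ _ hcJ, mul_inv_cancel_right]
  obtain ⟨k, hk⟩ := T.2 ⟨_, hUT hcU⟩
  have hc3 := eq_one_of_conj hc1 hc2 (congrArg Subtype.val hk) hgo
  rw [hc3, mul_one, mul_inv_eq_iff_eq_mul] at hc1
  exact hc1.symm

theorem frob_of_charHyp_aux {p : ℕ} [Fact p.Prime] (n : ℕ) : ∀ (G : Type u) [Group G] [Finite G],
    Nat.card G = n → ∀ T : Sylow p G, (p ≠ 2 ∨ ¬ Involves (Equiv.Perm (Fin 4)) G) →
    CharHyp p (T : Subgroup G) → Frob p (T : Subgroup G) := by
  induction n using Nat.strong_induction_on with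
  | _ n ih =>
  intro G _ _ hn T hfree hyp
  by_cases hT : (T : Subgroup G) = ⊥
  · intro U hU g _ _
    rw [hT, le_bot_iff] at hU
    rw [hU, Subgroup.mem_centralizer_iff]
    intro x hx
    rw [SetLike.mem_coe, Subgroup.mem_bot] at hx
    rw [hx, one_mul, mul_one]
  obtain ⟨Z, hZ⟩ : ∃ Z : Subgroup G,
    Z = (T : Subgroup G) ⊓ Subgroup.centralizer ((T : Subgroup G) : Set G) := ⟨_, rfl⟩
  have hZT : Z ≤ T := hZ ▸ inf_le_left
  have hZsub : Z.subgroupOf T = Subgroup.center ↥(T : Subgroup G) := by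
    ext x
    rw [Subgroup.mem_subgroupOf, hZ, Subgroup.mem_center_iff]
    constructor
    · rintro ⟨-, h⟩ y
      exact Subtype.ext ((Subgroup.mem_centralizer_iff.1 h) y y.2)
    · intro h
      refine ⟨x.2, ?_⟩
      show (x : G) ∈ Subgroup.centralizer _
      rw [Subgroup.mem_centralizer_iff]
      intro y hy
      exact congrArg Subtype.val (h ⟨y, hy⟩)
  have hZne : Z ≠ ⊥ := by
    intro hb
    have : Nontrivial ↥(T : Subgroup G) := (Subgroup.nontrivial_iff_ne_bot _).2 hT
    have h1 := (Subgroup.nontrivial_iff_ne_bot _).1 T.2.center_nontrivial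
    apply h1
    rw [← hZsub, hb]
    exact Subgroup.bot_subgroupOf _
  have hZchar : (Z.subgroupOf T).Characteristic := by rw [hZsub]; infer_instance
  by_cases hH : Subgroup.centralizer (Z : Set G) = ⊤
  · -- `Z(T)` is central in `G`
    have hZc : ∀ z ∈ Z, ∀ g : G, g * z * g⁻¹ = z := by
      intro z hz g
      have h1 : g ∈ Subgroup.centralizer (Z : Set G) := hH ▸ Subgroup.mem_top g
      rw [← (Subgroup.mem_centralizer_iff.1 h1) z hz, mul_inv_cancel_right]
    have hZn : Z.Normal := ⟨fun z hz g => by rw [hZc z hz g]; exact hz⟩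
    have hπ := QuotientGroup.mk'_surjective Z
    have hcard : Nat.card (G ⧸ Z) < n := hn ▸ Cfsg.Agent.Lib.Lead.card_quotient_lt_of_ne_bot hZne
    have hfrob := ih _ hcard (G ⧸ Z) rfl (T.mapSurjective hπ)
      (hfree.imp id (fun h h' => h (Cfsg.Agent.Lib.Helper33.involves_quotient Z h'))) ?_
    · intro U hU g hgU hgo
      have h1 : (QuotientGroup.mk' Z g) ∈ Subgroup.centralizer
          ((U.map (QuotientGroup.mk' Z) : Subgroup (G ⧸ Z)) : Set (G ⧸ Z)) := by
        apply hfrob (U.map (QuotientGroup.mk' Z))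
          (by rw [Sylow.coe_mapSurjective]; exact Subgroup.map_mono hU)
        · apply mem_normalizer_of_finite
          rintro _ ⟨u, hu, rfl⟩
          exact ⟨g * u * g⁻¹, conj_mem_of_mem_normalizer hgU hu, by simp⟩
        · exact Nat.Coprime.coprime_dvd_left (orderOf_map_dvd _ g) hgo
      rw [Subgroup.mem_centralizer_iff]
      intro u hu
      have h2 := (Subgroup.mem_centralizer_iff.1 h1) _ ⟨u, hu, rfl⟩
      have hc1 : g * u * g⁻¹ = u * (u⁻¹ * (g * u * g⁻¹)) := by group
      have hcZ : u⁻¹ * (g * u * g⁻¹) ∈ Z := by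
        rw [← QuotientGroup.eq_one_iff]
        show QuotientGroup.mk' Z (u⁻¹ * (g * u * g⁻¹)) = 1
        rw [map_mul, map_mul, map_mul, ← h2, map_inv, map_inv]
        group
      obtain ⟨k, hk⟩ := T.2 ⟨_, hZT hcZ⟩
      have hc3 := eq_one_of_conj hc1 (hZc _ hcZ g) (congrArg Subtype.val hk) hgo
      rw [hc3, mul_one, mul_inv_eq_iff_eq_mul] at hc1
      exact hc1.symm
    · intro Rb hRb hRbne hRbchar gb hgb hgbo
      rw [Sylow.coe_mapSurjective] at hRb hRbchar
      have hRT : Rb.comap (QuotientGroup.mk' Z) ≤ T := by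
        intro x hx
        obtain ⟨t, ht, hxt⟩ := hRb hx
        have h1 : t⁻¹ * x ∈ Z := QuotientGroup.eq.1 hxt
        have h2 := (T : Subgroup G).mul_mem ht (hZT h1)
        rwa [mul_inv_cancel_left] at h2
      have hRne : Rb.comap (QuotientGroup.mk' Z) ≠ ⊥ := by
        intro hb
        apply hZne
        rw [eq_bot_iff, ← hb]
        intro z hz
        show QuotientGroup.mk' Z z ∈ Rb
        have h1 : QuotientGroup.mk' Z z = 1 := (QuotientGroup.eq_one_iff z).2 hz
        rw [h1]
        exact Rb.one_mem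
      have hker : ((QuotientGroup.mk' Z).subgroupMap (T : Subgroup G)).ker = Z.subgroupOf T := by
        ext x
        rw [MonoidHom.mem_ker, Subgroup.mem_subgroupOf, ← QuotientGroup.eq_one_iff]
        constructor
        · intro h
          exact congrArg Subtype.val h
        · intro h
          exact Subtype.ext h
      have hRchar : ((Rb.comap (QuotientGroup.mk' Z)).subgroupOf T).Characteristic :=
        char_comap_of_surjective ((QuotientGroup.mk' Z).subgroupMap (T : Subgroup G))
          ((QuotientGroup.mk' Z).subgroupMap_surjective _) (hker ▸ hZchar)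
          (Rb.subgroupOf ((T : Subgroup G).map (QuotientGroup.mk' Z))) hRbchar
      obtain ⟨g, rfl, hgo⟩ := exists_lift_coprime Z (T.2.to_le hZT) gb hgbo
      have hgR : g ∈ Subgroup.normalizer ((Rb.comap (QuotientGroup.mk' Z) : Subgroup G) : Set G) := by
        apply mem_normalizer_of_finite
        intro x hx
        show QuotientGroup.mk' Z (g * x * g⁻¹) ∈ Rb
        rw [map_mul, map_mul, map_inv]
        exact conj_mem_of_mem_normalizer hgb hx
      have h1 := hyp _ hRT hRne hRchar g hgR hgo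
      rw [Subgroup.mem_centralizer_iff] at h1 ⊢
      intro rb hrb
      obtain ⟨r, rfl⟩ := hπ rb
      have h2 := h1 r hrb
      exact congrArg (QuotientGroup.mk' Z) h2
  · obtain ⟨H, hHdef⟩ : ∃ H : Subgroup G, H = Subgroup.centralizer (Z : Set G) := ⟨_, rfl⟩
    have hTH : (T : Subgroup G) ≤ H := by
      intro t ht
      rw [hHdef, Subgroup.mem_centralizer_iff]
      intro z hz
      rw [SetLike.mem_coe, hZ] at hz
      exact ((Subgroup.mem_centralizer_iff.1 hz.2) t ht).symm
    have hcard : Nat.card H < n := by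
      rw [← hn, ← Subgroup.card_top (G := G)]
      exact card_lt_card_of_lt (lt_top_iff_ne_top.2 (hHdef ▸ hH))
    have hfrobH := ih _ hcard ↥H rfl (T.subtype hTH)
      (hfree.imp id (fun h h' => h (Cfsg.Agent.Lib.Helper33.involves_subgroup H h'))) ?_
    · have hC : HasNormalPComplement p ↥H := hasNormalPComplement_of_frob' _ hfrobH
      have hN := thompson_normalizer_of_charHyp T hT hyp
      subst hHdef
      subst hZ
      exact frob_of_hasNormalPComplement (Cfsg.Agent.S2800.result T hfree hC hN) T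
    · intro R' hR' hR'ne hR'char g hg hgo
      rw [Sylow.coe_subtype] at hR' hR'char
      have h1 : (g : G) ∈ Subgroup.centralizer ((R'.map H.subtype : Subgroup G) : Set G) := by
        apply hyp (R'.map H.subtype) ?_ ?_ ?_ g (coe_mem_normalizer_map hg)
          (by rwa [Subgroup.orderOf_coe])
        · rintro _ ⟨x, hx, rfl⟩
          exact hR' hx
        · intro hb
          apply hR'ne
          exact (Subgroup.map_eq_bot_iff_of_injective _ (Subgroup.subtype_injective _)).1 hb
        · apply char_of_equiv (Subgroup.subgroupOfEquivOfLe hTH)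
            (R'.subgroupOf ((T : Subgroup G).subgroupOf H)) _ _ hR'char
          intro a
          constructor
          · intro ha
            exact ⟨a, ha, rfl⟩
          · rintro ⟨x, hx, hxa⟩
            have : x = (a : H) := Subtype.ext hxa
            rw [this] at hx
            exact hx
      rw [Subgroup.mem_centralizer_iff] at h1 ⊢
      intro x hx
      exact Subtype.ext (h1 x ⟨x, hx, rfl⟩)

/-- **Strengthened Frobenius criterion.** -/
theorem hasNormalPComplement_of_charHyp {p : ℕ} [Fact p.Prime] {G : Type u} [Group G] [Finite G]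
    (T : Sylow p G) (hfree : p ≠ 2 ∨ ¬ Involves (Equiv.Perm (Fin 4)) G)
    (h : CharHyp p (T : Subgroup G)) : HasNormalPComplement p G :=
  hasNormalPComplement_of_frob' T (frob_of_charHyp_aux _ G rfl T hfree h)

end Cfsg.Agent.Lib.Helper87
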