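import Cfsg.Agent.Lib.Helper87.Climb
import Cfsg.Agent.Lib.Helper87.FusUtil
import Cfsg.Agent.Lib.Helper84.ChainStab
import Cfsg.Agent.Lib.Helper86.Centric

set_option autoImplicit false

/-! A climbing criterion for `F ≤ E`, through the normalizer systems of centric subgroups (helper87). -/

namespace Cfsg.Agent.Lib.Helper87

open Cfsg Cfsg.FusionSystem Cfsg.Agent.Lib.Helper84

variable {Ω : Type*} [Group Ω] {S : Subgroup Ω}

/-- `N_F(V) ⊆ E`: every map of `F` whose source contains `V` as a normal subgroup and which carries `V` onto `V`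
is a map of `E`. -/
def NIn (F E : FusionSystem S) (V : Subgroup Ω) : Prop :=
  ∀ (P : Subgroup Ω) (φ : P →* Ω), φ ∈ F.Hom P → V ≤ P → P ≤ Subgroup.normalizer (V : Set Ω) →
    (V.subgroupOf P).map φ = V → φ ∈ E.Hom P

theorem NIn.transport {F E : FusionSystem S} {N V V' P : Subgroup Ω} {θ : N →* Ω}
    (hθF : θ ∈ F.Hom N) (hθE : θ ∈ E.Hom N) (hPN : P ≤ N) (hVP : V ≤ P)
    (hPV : P ≤ Subgroup.normalizer (V : Set Ω))
    {φ : P →* Ω} (hφ : φ ∈ F.Hom P) (hφN : ∀ x, φ x ∈ N) (hφV : (V.subgroupOf P).map φ = V)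
    (hV' : (V.subgroupOf N).map θ = V') (h : NIn F E V') : φ ∈ E.Hom P := by
  have hinj := F.injective_of_mem hθF
  have hRN : φ.range ≤ N := by
    rintro _ ⟨x, rfl⟩
    exact hφN x
  obtain ⟨P', hP'⟩ : ∃ P', (P.subgroupOf N).map θ = P' := ⟨_, rfl⟩
  obtain ⟨R', hR'⟩ : ∃ R', ((φ.range).subgroupOf N).map θ = R' := ⟨_, rfl⟩
  obtain ⟨eP, heP⟩ : ∃ e, e = restrictEquiv θ hinj hPN hP' := ⟨_, rfl⟩
  obtain ⟨eR, heR⟩ : ∃ e, e = restrictEquiv θ hinj hRN hR' := ⟨_, rfl⟩
  have hePF : Mor F eP.toMonoidHom := heP ▸ mor_restrictEquiv F hθF hPN hP'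
  have hePE : Mor E eP.toMonoidHom := heP ▸ mor_restrictEquiv E hθE hPN hP'
  have heRF : Mor F eR.toMonoidHom := heR ▸ mor_restrictEquiv F hθF hRN hR'
  have heRE : Mor E eR.toMonoidHom := heR ▸ mor_restrictEquiv E hθE hRN hR'
  have hePa : ∀ x : P, ((eP x : P') : Ω) = θ ⟨x, hPN x.2⟩ := fun x => by rw [heP]; rfl
  have heRa : ∀ x : φ.range, ((eR x : R') : Ω) = θ ⟨x, hRN x.2⟩ := fun x => by rw [heR]; rfl
  have hφ'F : Mor F (eP.symm.trans ((rangeEquiv F hφ).trans eR)).toMonoidHom :=
    mor_trans hePF.symm (mor_trans (mor_rangeEquiv F hφ) heRF)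
  have hval : ∀ x : P, (((eP.symm.trans ((rangeEquiv F hφ).trans eR)) (eP x) : R') : Ω) =
      θ ⟨φ x, hφN x⟩ := by
    intro x
    simp only [MulEquiv.trans_apply, MulEquiv.symm_apply_apply]
    rw [heRa]
    rfl
  have hV'P' : V' ≤ P' := by
    rw [← hV', ← hP']
    rintro _ ⟨v, hv, rfl⟩
    exact ⟨v, hVP hv, rfl⟩
  have hP'V' : P' ≤ Subgroup.normalizer (V' : Set Ω) := by
    rw [← hP']
    rintro _ ⟨x, hx, rfl⟩
    exact (map_mem_normalizerIn F hθF hV' x (hPV hx)).2
  have hmap : (V'.subgroupOf P').map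
      (R'.subtype.comp (eP.symm.trans ((rangeEquiv F hφ).trans eR)).toMonoidHom) = V' := by
    apply le_antisymm
    · rintro _ ⟨y, hy, rfl⟩
      obtain ⟨x, rfl⟩ := eP.surjective y
      have hy' : ((eP x : P') : Ω) ∈ V' := hy
      rw [hePa, ← hV'] at hy'
      obtain ⟨v, hv, hvx⟩ := hy'
      have hvx' : v = ⟨x, hPN x.2⟩ := hinj hvx
      have hxV : (x : Ω) ∈ V := by
        have : (v : Ω) ∈ V := hv
        rwa [hvx'] at this
      show (((eP.symm.trans ((rangeEquiv F hφ).trans eR)) (eP x) : R') : Ω) ∈ V'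
      rw [hval, ← hV']
      refine ⟨_, ?_, rfl⟩
      show φ x ∈ V
      rw [← hφV]
      exact ⟨x, hxV, rfl⟩
    · intro y hy
      rw [← hV'] at hy
      obtain ⟨v, hv, rfl⟩ := hy
      have hv' : (v : Ω) ∈ V := hv
      rw [← hφV] at hv'
      obtain ⟨x, hx, hxv⟩ := hv'
      refine ⟨eP x, ?_, ?_⟩
      · show ((eP x : P') : Ω) ∈ V'
        rw [hePa, ← hV']
        exact ⟨_, hx, rfl⟩
      · show (((eP.symm.trans ((rangeEquiv F hφ).trans eR)) (eP x) : R') : Ω) = _
        rw [hval]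
        congr 1
        exact Subtype.ext hxv
  have hφ'E : Mor E (eP.symm.trans ((rangeEquiv F hφ).trans eR)).toMonoidHom :=
    h P' _ hφ'F hV'P' hP'V' hmap
  have hfin : Mor E (eP.trans ((eP.symm.trans ((rangeEquiv F hφ).trans eR)).trans eR.symm)).toMonoidHom :=
    mor_trans hePE (mor_trans hφ'E heRE.symm)
  apply mem_hom_of_mor hfin
  intro x
  simp only [MulEquiv.trans_apply, MulEquiv.symm_apply_apply]
  rfl

theorem centralizerIn_le_of_normalizerIn_eq [Finite S] {p : ℕ} [Fact p.Prime] (hS : IsPGroup p S)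
    {D T W : Subgroup Ω} (hDS : D ≤ S) (hND : normalizerIn S D = T) (hWD : W ≤ D)
    (hTW : T ≤ Subgroup.normalizer (W : Set Ω))
    (h4 : T ⊓ Subgroup.centralizer (W : Set Ω) ≤ W) : centralizerIn S W ≤ W := by
  have hDT : D ≤ T := hND ▸ le_normalizerIn hDS
  have hCD : centralizerIn S W ≤ D := by
    by_contra hcon
    have hlt : D < D ⊔ centralizerIn S W := by
      refine lt_of_le_of_ne le_sup_left (fun h => hcon ?_)
      rw [h]
      exact le_sup_right
    have hKS : D ⊔ centralizerIn S W ≤ S := sup_le hDS (centralizerIn_le S W)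
    have hfin : Finite ↥(D ⊔ centralizerIn S W) := finite_of_le hKS
    have h1 := Cfsg.Agent.Lib.Helper86.lt_inf_normalizer (hS.to_le hKS) hlt
    obtain ⟨y, hy, hyD⟩ := SetLike.exists_of_lt h1
    have hnorm : D ≤ Subgroup.normalizer ((centralizerIn S W : Subgroup Ω) : Set Ω) := by
      intro d hd
      have hd' : d ∈ normalizerIn S W := ⟨hDS hd, hTW (hDT hd)⟩
      have key : ∀ g ∈ normalizerIn S W, ∀ c ∈ centralizerIn S W,
          g * c * g⁻¹ ∈ centralizerIn S W := by
        intro g hg c hc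
        refine ⟨S.mul_mem (S.mul_mem hg.1 hc.1) (S.inv_mem hg.1), ?_⟩
        show _ ∈ Subgroup.centralizer (W : Set Ω)
        rw [Subgroup.mem_centralizer_iff]
        intro w hw
        have h1 : g⁻¹ * w * g ∈ W := inv_conj_mem_of_mem_normalizer hg.2 hw
        have h2 := (Subgroup.mem_centralizer_iff.1 hc.2) _ h1
        calc w * (g * c * g⁻¹) = g * ((g⁻¹ * w * g) * c) * g⁻¹ := by group
          _ = g * (c * (g⁻¹ * w * g)) * g⁻¹ := by rw [h2]
          _ = g * c * g⁻¹ * w := by group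
      apply mem_normalizer_of_conj_mem (key d hd')
      intro c hc
      simpa using key d⁻¹ (Subgroup.inv_mem _ hd') c hc
    obtain ⟨d, hd, c, hc, rfl⟩ := mem_sup_of_le_normalizer hnorm hy.1
    have hcN : c ∈ Subgroup.normalizer (D : Set Ω) := by
      have := Subgroup.mul_mem _ (Subgroup.inv_mem _ (Subgroup.le_normalizer hd)) hy.2
      simpa using this
    have hcT : c ∈ T := hND ▸ (⟨hc.1, hcN⟩ : c ∈ normalizerIn S D)
    exact hyD (D.mul_mem hd (hWD (h4 ⟨hcT, hc.2⟩)))
  intro c hc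
  exact h4 ⟨hDT (hCD hc), hc.2⟩

section
variable [Finite S] {p : ℕ} [Fact p.Prime]

theorem hom_le_of_large (hS : IsPGroup p S) (F E : FusionSystem S) (hF : F.IsSaturated p) (k : ℕ)
    (H : ∀ Q, F.IsFullyNormalized Q → F.IsCentric Q → k < Nat.card (normalizerIn S Q) → NIn F E Q)
    (D : Subgroup Ω) (hD : k < Nat.card D) : F.Hom D ⊆ E.Hom D := by
  have hle : F ≤ truncSystem F E k := by
    apply alperin hS F hF
    intro P hP α hα
    have hPn : F.IsFullyNormalized P := by
      rcases hP with rfl | hP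
      · exact fullyNormalized_self F
      · exact hP.2.1
    have hPc : F.IsCentric P := by
      rcases hP with rfl | hP
      · exact centric_self' F
      · exact hP.1
    have hPS : P ≤ S := hPc.1
    rw [mem_autGroup_iff _ hPS]
    have hαF := (mem_autGroup_iff F hPS α).1 hα
    refine ⟨hαF, ?_⟩
    by_cases hk : Nat.card P ≤ k
    · exact Or.inl hk
    · right
      have hfinN : Finite (normalizerIn S P) := finite_of_le (normalizerIn_le S P)
      have hcard : k < Nat.card (normalizerIn S P) :=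
        lt_of_lt_of_le (not_le.1 hk) (Subgroup.card_le_of_le (le_normalizerIn hPS))
      apply H P hPn hPc hcard P _ hαF le_rfl Subgroup.le_normalizer
      rw [Subgroup.subgroupOf_self, ← MonoidHom.range_eq_map]
      exact range_subtype_comp_equiv α
  intro φ hφ
  rcases (hle D hφ).2 with h | h
  · omega
  · exact h

theorem nIn_of_centric_large (hS : IsPGroup p S) (F E : FusionSystem S) (hF : F.IsSaturated p) (k : ℕ)
    (H : ∀ Q, F.IsFullyNormalized Q → F.IsCentric Q → k < Nat.card (normalizerIn S Q) → NIn F E Q)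
    {R : Subgroup Ω} (hR : F.IsCentric R) (hk : k < Nat.card (normalizerIn S R)) : NIn F E R := by
  obtain ⟨R', hRR', hR'⟩ := exists_fullyNormalized F hR.1
  obtain ⟨-, h1, h2⟩ := sat_fullyNormalized hS hF hR'
  obtain ⟨η, hη, -, hmap⟩ := exists_normalizer_hom hS F h1 h2 hRR'
  have hc : F.IsCentric R' := Cfsg.Agent.Lib.Helper88.centric_of_isConj hR hRR'
  have hcard := hR'.2 R (isConj_symm hRR')
  have hηE := hom_le_of_large hS F E hF k H _ hk hη
  intro P φ hφ hRP hPR hφR
  exact NIn.transport hη hηE (fun x hx => ⟨(F.le_of_mem hφ).1 hx, hPR hx⟩) hRP hPR hφ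
    (fun x => map_mem_normalizerIn F hφ hφR x (hPR x.2)) hφR hmap
    (H R' hR' hc (lt_of_lt_of_le hk hcard))

/-- The climbing criterion for `F ≤ E`. -/
theorem climbN (hS : IsPGroup p S) (F E : FusionSystem S) (hF : F.IsSaturated p)
    (𝒲 : Subgroup Ω → Subgroup Ω) (h1 : ∀ T ≤ S, 𝒲 T ≤ T)
    (h2 : ∀ T ≤ S, normalizerIn S T ≤ normalizerIn S (𝒲 T))
    (h3 : ∀ (N T : Subgroup Ω) (θ : N →* Ω), θ ∈ F.Hom N → T ≤ N →
      ((𝒲 T).subgroupOf N).map θ = 𝒲 ((T.subgroupOf N).map θ))
    (h4 : ∀ T ≤ S, T ⊓ Subgroup.centralizer (𝒲 T : Set Ω) ≤ 𝒲 T)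
    (hbase : NIn F E (𝒲 S))
    (hloc : ∀ Q, F.IsFullyNormalized Q → F.IsCentric Q →
      (∀ (P : Subgroup Ω) (φ : P →* Ω), φ ∈ F.Hom P → Q ≤ P → 𝒲 (normalizerIn S Q) ≤ P →
        P ≤ normalizerIn S Q → (∀ x, φ x ∈ normalizerIn S Q) → (Q.subgroupOf P).map φ = Q →
        ((𝒲 (normalizerIn S Q)).subgroupOf P).map φ = 𝒲 (normalizerIn S Q) → φ ∈ E.Hom P) →
      NIn F E Q) : F ≤ E := by
  have main : ∀ d : ℕ, ∀ Q, F.IsFullyNormalized Q → F.IsCentric Q →
      Nat.card S ≤ Nat.card (normalizerIn S Q) + d → NIn F E Q := by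
    intro d
    induction d using Nat.strong_induction_on with
    | _ d ih =>
      intro Q hQn hQc hd
      apply hloc Q hQn hQc
      obtain ⟨T, hT⟩ : ∃ T, T = normalizerIn S Q := ⟨_, rfl⟩
      rw [← hT]
      intro P φ hφ hQP hWP hPT hφT hφQ hφW
      have hTS' : T ≤ S := hT ▸ normalizerIn_le S Q
      have hTW : T ≤ normalizerIn S (𝒲 T) := (le_normalizerIn hTS').trans (h2 T hTS')
      by_cases hTS : T = S
      · rw [hTS] at hWP hφW hTW
        exact hbase P φ hφ hWP (fun x hx => (hTW ((F.le_of_mem hφ).1 hx)).2) hφW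
      · have hlt' : T < S := lt_of_le_of_ne hTS' hTS
        have hlt := lt_normalizerIn hS hlt'
        have hfinT : Finite T := finite_of_le hTS'
        have hfin : Finite (normalizerIn S T) := finite_of_le (normalizerIn_le S _)
        have hfin2 : Finite (normalizerIn S (𝒲 T)) := finite_of_le (normalizerIn_le S _)
        have hc1 : Nat.card T < Nat.card (normalizerIn S T) := card_lt_card_of_lt hlt
        have hc2 : Nat.card (normalizerIn S T) ≤ Nat.card (normalizerIn S (𝒲 T)) :=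
          Subgroup.card_le_of_le (h2 _ hTS')
        have hc3 : Nat.card T < Nat.card S := card_lt_card_of_lt hlt'
        have H : ∀ Q', F.IsFullyNormalized Q' → F.IsCentric Q' →
            Nat.card T < Nat.card (normalizerIn S Q') → NIn F E Q' := by
          intro Q' hQ'n hQ'c hk
          have hc4 : Nat.card (normalizerIn S Q') ≤ Nat.card S :=
            Subgroup.card_le_of_le (normalizerIn_le S Q')
          rw [hT] at hk hc3
          exact ih (Nat.card S - Nat.card (normalizerIn S Q')) (by omega) Q' hQ'n hQ'c (by omega)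
        have hWT : 𝒲 T ≤ T := h1 T hTS'
        have hQT : Q ≤ T := hT ▸ le_normalizerIn hQc.1
        have hDP : Q ⊔ 𝒲 T ≤ P := sup_le hQP hWP
        have hDT : Q ⊔ 𝒲 T ≤ T := sup_le hQT hWT
        have hDS : Q ⊔ 𝒲 T ≤ S := hDT.trans hTS'
        have hDc : F.IsCentric (Q ⊔ 𝒲 T) :=
          Cfsg.Agent.Lib.Helper86.centric_of_le F hQc le_sup_left hDS
        have hTD : T ≤ normalizerIn S (Q ⊔ 𝒲 T) := fun t ht =>
          ⟨hTS' ht, mem_normalizer_sup (hT ▸ ht : t ∈ normalizerIn S Q).2 (hTW ht).2⟩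
        have hPD : P ≤ Subgroup.normalizer ((Q ⊔ 𝒲 T : Subgroup Ω) : Set Ω) := fun x hx =>
          (hTD (hPT hx)).2
        have hφD : ((Q ⊔ 𝒲 T).subgroupOf P).map φ = Q ⊔ 𝒲 T := by
          rw [Subgroup.subgroupOf_sup hQP hWP, Subgroup.map_sup, hφQ, hφW]
        have hfinD : Finite (normalizerIn S (Q ⊔ 𝒲 T)) := finite_of_le (normalizerIn_le S _)
        by_cases hA : Nat.card T < Nat.card (normalizerIn S (Q ⊔ 𝒲 T))
        · exact nIn_of_centric_large hS F E hF _ H hDc hA P φ hφ hDP hPD hφD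
        · have hND : normalizerIn S (Q ⊔ 𝒲 T) = T :=
            (Subgroup.eq_of_le_of_card_ge hTD (not_lt.1 hA)).symm
          have hk1 : Nat.card T < Nat.card (normalizerIn S (𝒲 T)) := lt_of_lt_of_le hc1 hc2
          obtain ⟨W', hWW', hW'⟩ := exists_fullyNormalized F (hWT.trans hTS')
          obtain ⟨h0, h1', h2'⟩ := sat_fullyNormalized hS hF hW'
          obtain ⟨θ, hθ, -, hmap⟩ := exists_normalizer_hom hS F h1' h2' hWW'
          have hθE := hom_le_of_large hS F E hF _ H _ hk1 hθ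
          have hcard := hW'.2 _ (isConj_symm hWW')
          have hPN : P ≤ normalizerIn S (𝒲 T) := hPT.trans hTW
          have hφN : ∀ x, φ x ∈ normalizerIn S (𝒲 T) := fun x => hTW (hφT x)
          obtain ⟨D', hD'⟩ : ∃ D', ((Q ⊔ 𝒲 T).subgroupOf (normalizerIn S (𝒲 T))).map θ = D' :=
            ⟨_, rfl⟩
          have hD'c : F.IsCentric D' := Cfsg.Agent.Lib.Helper88.centric_of_isConj hDc
            (hD' ▸ Cfsg.Agent.Lib.Helper86.isConj_map F hθ (hDT.trans hTW))
          have hfinD' : Finite (normalizerIn S D') := finite_of_le (normalizerIn_le S _)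
          by_cases hB : Nat.card T < Nat.card (normalizerIn S D')
          · exact NIn.transport hθ hθE hPN hDP hPD hφ hφN hφD hD'
              (nIn_of_centric_large hS F E hF _ H hD'c hB)
          · obtain ⟨T', hT'⟩ : ∃ T', (T.subgroupOf (normalizerIn S (𝒲 T))).map θ = T' := ⟨_, rfl⟩
            have hT'D' : T' ≤ normalizerIn S D' := by
              rw [← hT']
              rintro _ ⟨t, ht, rfl⟩
              exact map_mem_normalizerIn F hθ hD' t (hTD ht).2
            have hcT' : Nat.card T' = Nat.card T := by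
              rw [← hT', Subgroup.card_map_of_injective (F.injective_of_mem hθ)]
              exact Cfsg.Agent.Lib.Helper85.card_subgroupOf_of_le hTW
            have hND' : normalizerIn S D' = T' :=
              (Subgroup.eq_of_le_of_card_ge hT'D' (by rw [hcT']; exact not_lt.1 hB)).symm
            have hW'eq : W' = 𝒲 T' := by
              rw [← hmap, ← hT']
              exact h3 _ T θ hθ hTW
            have hT'S : T' ≤ S := hND' ▸ normalizerIn_le S D'
            have hW'D' : W' ≤ D' := by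
              rw [← hmap, ← hD']
              rintro _ ⟨w, hw, rfl⟩
              exact ⟨w, (le_sup_right : 𝒲 T ≤ Q ⊔ 𝒲 T) hw, rfl⟩
            have hT'W' : T' ≤ Subgroup.normalizer (W' : Set Ω) := by
              rw [hW'eq]
              exact fun t ht => ((le_normalizerIn hT'S).trans (h2 T' hT'S) ht).2
            have hcen : centralizerIn S W' ≤ W' :=
              centralizerIn_le_of_normalizerIn_eq hS hD'c.1 hND' hW'D' hT'W'
                (by rw [hW'eq]; exact h4 T' hT'S)
            have hW'c : F.IsCentric W' := by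
              have := Cfsg.Agent.Lib.Helper85.centric_sup_centralizer h0
              rwa [sup_eq_left.2 hcen] at this
            exact NIn.transport hθ hθE hPN hWP (fun x hx => (hPN hx).2) hφ hφN hφW hmap
              (H W' hW' hW'c (lt_of_lt_of_le hk1 hcard))
  intro P φ hφ
  have hfinP : Finite P := finite_of_le (F.le_of_mem hφ).1
  exact hom_le_of_large hS F E hF 0
    (fun Q hQn hQc _ => main (Nat.card S) Q hQn hQc (by omega)) P Nat.card_pos hφ

end

end Cfsg.Agent.Lib.Helper87
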