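import Cfsg.Agent.Lib.Helper87.FunctorGen
import Cfsg.Agent.S0071

set_option autoImplicit false

/-! `climbN` for functors; tools for nilpotency criteria through models (helper87). -/

namespace Cfsg.Agent.Lib.Helper87

open Cfsg Cfsg.FusionSystem Cfsg.Agent.Lib.Helper84

universe u

theorem climbN_functor {p : ℕ} [Fact p.Prime] (W : ∀ (Q : Type u) [Group Q], Subgroup Q)
    (hW2 : ∀ (Q R : Type u) [Group Q] [Group R] [Finite Q], IsPGroup p Q → ∀ φ : Q ≃* R,
      (W Q).map φ.toMonoidHom = W R)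
    (hWc : ∀ (Q : Type u) [Group Q] [Finite Q], IsPGroup p Q →
      Subgroup.centralizer (W Q : Set Q) ≤ W Q)
    {Ω : Type u} [Group Ω] {S : Subgroup Ω} [Finite S] (hS : IsPGroup p S) (F E : FusionSystem S)
    (hF : F.IsSaturated p) (hN : NIn F E ((W ↥S).map S.subtype))
    (hloc : ∀ Q, F.IsFullyNormalized Q → F.IsCentric Q →
      (∀ (P : Subgroup Ω) (φ : P →* Ω), φ ∈ F.Hom P → Q ≤ P →
        (W ↥(normalizerIn S Q)).map (normalizerIn S Q).subtype ≤ P →
        P ≤ normalizerIn S Q → (∀ x, φ x ∈ normalizerIn S Q) → (Q.subgroupOf P).map φ = Q →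
        (((W ↥(normalizerIn S Q)).map (normalizerIn S Q).subtype).subgroupOf P).map φ =
          (W ↥(normalizerIn S Q)).map (normalizerIn S Q).subtype → φ ∈ E.Hom P) →
      NIn F E Q) : F ≤ E := by
  apply climbN hS F E hF (fun T => (W ↥T).map T.subtype)
  · intro T _
    exact Subgroup.map_subtype_le _
  · intro T hT g hg
    have : Finite T := finite_of_le hT
    exact ⟨hg.1, functor_normalizer W hW2 (hS.to_le hT) hg.2⟩
  · intro N T θ hθ hTN
    have hTS : T ≤ S := hTN.trans (F.le_of_mem hθ).1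
    have : Finite T := finite_of_le hTS
    exact functor_map_hom W hW2 (hS.to_le hTS) θ (F.injective_of_mem hθ) hTN
  · intro T hT c hc
    have : Finite T := finite_of_le hT
    refine ⟨⟨c, hc.1⟩, hWc ↥T (hS.to_le hT) ?_, rfl⟩
    rw [Subgroup.mem_centralizer_iff]
    intro w hw
    exact Subtype.ext ((Subgroup.mem_centralizer_iff.1 hc.2) w ⟨w, hw, rfl⟩)
  · exact hN
  · exact hloc

/-- Frobenius' criterion for a subgroup containing a Sylow subgroup. -/
theorem hasNormalPComplement_of_frob {G : Type*} [Group G] [Finite G] {p : ℕ}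
    [Fact p.Prime] (T : Sylow p G) (X : Subgroup G) (hTX : (T : Subgroup G) ≤ X)
    (h : ∀ U : Subgroup G, U ≤ T → ∀ g ∈ Subgroup.normalizer (U : Set G),
      g ∈ X → (orderOf g).Coprime p → g ∈ Subgroup.centralizer (U : Set G)) :
    HasNormalPComplement p X := by
  obtain ⟨N, hN, hc⟩ := (Cfsg.Agent.S0071.result (T.subtype hTX)).2 (by
    intro Q hQ g hg hgo
    have h1 : (g : G) ∈ Subgroup.normalizer ((Q.map X.subtype : Subgroup G) : Set G) :=
      coe_mem_normalizer_map hg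
    have h2 := h (Q.map X.subtype) (by
        rintro _ ⟨x, hx, rfl⟩
        exact hQ hx) g h1 g.2 (by rwa [Subgroup.orderOf_coe])
    rw [Subgroup.mem_centralizer_iff] at h2 ⊢
    intro x hx
    exact Subtype.ext (h2 x ⟨x, hx, rfl⟩))
  exact ⟨T.subtype hTX, N, hN, hc⟩

section
variable {Ω : Type*} [Group Ω] {T : Subgroup Ω} {L : Type*} [Group L]

/-- A `p'`-element inducing on `B` the same map as a `p`-element centralizes the image of `B`. -/
theorem centralizes_of_inner {p : ℕ} {ι : T →* L} {B : Subgroup Ω} (hB : B ≤ T) (g : L) (s : Ω)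
    (k : ℕ) (hs : s ^ (p ^ k) = 1)
    (h : ∀ x : B, ∃ hx : s * x * s⁻¹ ∈ B, ι ⟨s * x * s⁻¹, hB hx⟩ = g * ι ⟨x, hB x.2⟩ * g⁻¹)
    (hg : (orderOf g).Coprime p) : ∀ x : B, g * ι ⟨x, hB x.2⟩ = ι ⟨x, hB x.2⟩ * g := by
  have key : ∀ n : ℕ, ∀ x : B, ∃ hx : s ^ n * x * (s ^ n)⁻¹ ∈ B,
      ι ⟨s ^ n * x * (s ^ n)⁻¹, hB hx⟩ = g ^ n * ι ⟨x, hB x.2⟩ * (g ^ n)⁻¹ := by
    intro n
    induction n with
    | zero =>
      intro x
      refine ⟨by simp, ?_⟩
      simp
    | succ n ih =>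
      intro x
      obtain ⟨hx1, hx2⟩ := ih x
      obtain ⟨hy1, hy2⟩ := h ⟨_, hx1⟩
      have e : s ^ (n + 1) * x * (s ^ (n + 1))⁻¹ = s * (s ^ n * x * (s ^ n)⁻¹) * s⁻¹ := by
        rw [pow_succ']; group
      refine ⟨e ▸ hy1, ?_⟩
      have e2 : (⟨s ^ (n + 1) * x * (s ^ (n + 1))⁻¹, hB (e ▸ hy1)⟩ : T) =
          ⟨s * (s ^ n * x * (s ^ n)⁻¹) * s⁻¹, hB hy1⟩ := Subtype.ext e
      rw [e2, hy2, hx2, pow_succ']
      group
  intro x
  obtain ⟨hx1, hx2⟩ := key (p ^ k) x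
  have e : (⟨s ^ (p ^ k) * x * (s ^ (p ^ k))⁻¹, hB hx1⟩ : T) = ⟨x, hB x.2⟩ :=
    Subtype.ext (by simp [hs])
  rw [e] at hx2
  have hc : Commute (g ^ (p ^ k)) (ι ⟨x, hB x.2⟩) := by
    rw [eq_mul_inv_iff_mul_eq] at hx2
    exact hx2.symm
  obtain ⟨m, hm⟩ := exists_pow_eq_self_of_coprime (x := g) (n := p ^ k)
    (Nat.Coprime.pow_left k hg.symm)
  have := hc.pow_left m
  rw [hm] at this
  exact this

/-- the basic step: `g` normalizes `U ≤ ι(T)` and `ι(R)`; if every map induced by `g` on the preimage of `U` times `R` is conjugation by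
a `p`-element, and `g` is a `p'`-element, then `g` centralizes `U`. -/
theorem centralizes_of_induced {p : ℕ} {EQ : FusionSystem T} {ι : T →* L} (hr : EQ.IsRealizedBy ι)
    {U : Subgroup L} (hU : U ≤ ι.range) {R : Subgroup Ω} (hR : R ≤ T) {g : L}
    (hgU : g ∈ Subgroup.normalizer (U : Set L))
    (hgR : g ∈ Subgroup.normalizer (((R.subgroupOf T).map ι : Subgroup L) : Set L))
    (hg : (orderOf g).Coprime p)
    (H : ∀ (hB : (U.comap ι).map T.subtype ⊔ R ≤ T)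
      (ψ : ↥((U.comap ι).map T.subtype ⊔ R) →* Ω) (hψT : ∀ x, ψ x ∈ T),
      ψ ∈ EQ.Hom ((U.comap ι).map T.subtype ⊔ R) →
      (∀ x, ι ⟨ψ x, hψT x⟩ = g * ι ⟨x, hB x.2⟩ * g⁻¹) →
      ∃ (s : Ω) (k : ℕ), s ^ (p ^ k) = 1 ∧ ∀ x, ψ x = s * x * s⁻¹) :
    g ∈ Subgroup.centralizer (U : Set L) := by
  have hA : (U.comap ι).map T.subtype ≤ T := Subgroup.map_subtype_le _
  have hB : (U.comap ι).map T.subtype ⊔ R ≤ T := sup_le hA hR
  have hAU : (((U.comap ι).map T.subtype).subgroupOf T).map ι = U := by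
    have h1 : ((U.comap ι).map T.subtype).subgroupOf T = U.comap ι :=
      Subgroup.comap_map_eq_self_of_injective (Subgroup.subtype_injective _) _
    rw [h1, Subgroup.map_comap_eq, inf_eq_right.2 hU]
  have hgA : g ∈ Subgroup.normalizer
      (((((U.comap ι).map T.subtype).subgroupOf T).map ι : Subgroup L) : Set L) := by
    rw [hAU]; exact hgU
  have hgB : g ∈ Subgroup.normalizer
      (((((U.comap ι).map T.subtype ⊔ R).subgroupOf T).map ι : Subgroup L) : Set L) := by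
    rw [Subgroup.subgroupOf_sup hA hR, Subgroup.map_sup]
    exact mem_normalizer_sup hgA hgR
  have hext : ∀ x : ↥((U.comap ι).map T.subtype ⊔ R), g * ι ⟨x, hB x.2⟩ * g⁻¹ ∈ ι.range := by
    intro x
    obtain ⟨y, -, hy⟩ := conj_mem_of_mem_normalizer hgB (Subgroup.mem_map_of_mem ι
      (show (⟨x, hB x.2⟩ : T) ∈ Subgroup.subgroupOf _ T from x.2))
    exact ⟨y, hy⟩
  obtain ⟨ψ, hψ, hψT, hψ'⟩ := Cfsg.Agent.Lib.Helper85.realized_exists_hom hr hB g hext
  obtain ⟨s, k, hs, hψs⟩ := H hB ψ hψT hψ hψ'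
  have hmap := realized_map_eq hr.1 hB le_rfl ψ hψT g hψ' hgB
  have hcen := centralizes_of_inner (ι := ι) hB g s k hs (fun x => by
    have hx : s * x * s⁻¹ ∈ (U.comap ι).map T.subtype ⊔ R := by
      rw [← hψs x]
      exact hmap.le ⟨x, x.2, rfl⟩
    refine ⟨hx, ?_⟩
    rw [← hψ' x]
    congr 1
    exact Subtype.ext (hψs x).symm) hg
  rw [Subgroup.mem_centralizer_iff]
  intro u hu
  obtain ⟨t, rfl⟩ := hU hu
  have htA : (t : Ω) ∈ (U.comap ι).map T.subtype := ⟨t, hu, rfl⟩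
  exact (hcen ⟨t, (le_sup_left : _ ≤ (U.comap ι).map T.subtype ⊔ R) htA⟩).symm

end

end Cfsg.Agent.Lib.Helper87
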