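import Cfsg.Agent.Lib.Helper87.Climb
import Cfsg.Agent.Lib.Helper87.CharFrob
import Cfsg.Prelude.Def_FusionReduction

set_option autoImplicit false

/-! Climbing for "all automizers are `p`-groups", tested on characteristic subgroups (helper87). -/

namespace Cfsg.Agent.Lib.Helper87

open Cfsg Cfsg.FusionSystem Cfsg.Agent.Lib.Helper84

universe u

section
variable {Ω : Type*} [Group Ω] {S : Subgroup Ω}

theorem isPGroup_autGroup_of_isConj {p : ℕ} {F : FusionSystem S} {P Q : Subgroup Ω}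
    (h : F.IsConj P Q) (hQ : IsPGroup p (F.autGroup Q)) : IsPGroup p (F.autGroup P) := by
  obtain ⟨e, he⟩ := (isConj_iff F).1 h
  rintro ⟨β, hβ⟩
  obtain ⟨k, hk⟩ := hQ ⟨MulAut.congr e β, congr_mem_autGroup he hβ⟩
  refine ⟨k, Subtype.ext ?_⟩
  apply (MulAut.congr e).injective
  have h1 : (MulAut.congr e β) ^ p ^ k = 1 := congrArg Subtype.val hk
  show MulAut.congr e (β ^ p ^ k) = MulAut.congr e 1
  rw [map_pow, map_one]
  exact h1

theorem isPGroup_autGroup_of_sup [Finite S] {p : ℕ} {F : FusionSystem S} {P : Subgroup Ω}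
    (hPr : F.IsReceptive P) (h : IsPGroup p (F.autGroup (P ⊔ centralizerIn S P))) :
    IsPGroup p (F.autGroup P) := by
  rintro ⟨δ, hδ⟩
  obtain ⟨δ', hδ', hext⟩ := Cfsg.Agent.Lib.Helper85.exists_aut_extension F hPr hδ
  obtain ⟨k, hk⟩ := h ⟨δ', hδ'⟩
  have hk' : δ' ^ p ^ k = 1 := congrArg Subtype.val hk
  have hpow : ∀ n : ℕ, ∀ x : P, (δ' ^ n) (Subgroup.inclusion le_sup_left x) =
      Subgroup.inclusion le_sup_left ((δ ^ n) x) := by
    intro n
    induction n with
    | zero => intro x; simp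
    | succ n ih =>
      intro x
      rw [pow_succ', pow_succ', MulAut.mul_apply, MulAut.mul_apply, ih, hext]
  refine ⟨k, Subtype.ext ?_⟩
  show δ ^ p ^ k = 1
  ext x
  have h1 := hpow (p ^ k) x
  rw [hk'] at h1
  exact (congrArg (fun y : ↥(P ⊔ centralizerIn S P) => (y : Ω)) h1).symm

theorem exists_fn_centric_reduction [Finite S] {p : ℕ} [Fact p.Prime] (hS : IsPGroup p S)
    {F : FusionSystem S} (hF : F.IsSaturated p) {W : Subgroup Ω} (hW : W ≤ S) :
    ∃ Q, F.IsFullyNormalized Q ∧ F.IsCentric Q ∧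
      Nat.card (normalizerIn S W) ≤ Nat.card (normalizerIn S Q) ∧
      (IsPGroup p (F.autGroup Q) → IsPGroup p (F.autGroup W)) := by
  obtain ⟨W', hc, hfn⟩ := exists_fullyNormalized F hW
  obtain ⟨hfc, -, hrec⟩ := sat_fullyNormalized hS hF hfn
  have hcen := Cfsg.Agent.Lib.Helper85.centric_sup_centralizer hfc
  obtain ⟨Q, hc2, hfn2⟩ := exists_fullyNormalized F hcen.1
  refine ⟨Q, hfn2, Cfsg.Agent.Lib.Helper88.centric_of_isConj hcen hc2, ?_, fun h => ?_⟩
  · have : Finite (normalizerIn S (W' ⊔ centralizerIn S W')) := finite_of_le (normalizerIn_le S _)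
    calc Nat.card (normalizerIn S W) ≤ Nat.card (normalizerIn S W') := hfn.2 W (isConj_symm hc)
      _ ≤ Nat.card (normalizerIn S (W' ⊔ centralizerIn S W')) :=
          Subgroup.card_le_of_le (normalizerIn_le_normalizerIn_sup S W')
      _ ≤ Nat.card (normalizerIn S Q) := hfn2.2 _ (isConj_symm hc2)
  · exact isPGroup_autGroup_of_isConj hc
      (isPGroup_autGroup_of_sup hrec (isPGroup_autGroup_of_isConj hc2 h))

theorem normalizer_le_of_characteristic {T R : Subgroup Ω} (hRT : R ≤ T)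
    (hR : (R.subgroupOf T).Characteristic) :
    Subgroup.normalizer (T : Set Ω) ≤ Subgroup.normalizer (R : Set Ω) := by
  have key : ∀ g ∈ Subgroup.normalizer (T : Set Ω), ∀ r ∈ R, g * r * g⁻¹ ∈ R := by
    intro g hg r hr
    exact (Subgroup.characteristic_iff_map_le.1 hR) (conjAut T g hg) ⟨⟨r, hRT hr⟩, hr, rfl⟩
  intro g hg
  apply mem_normalizer_of_conj_mem (key g hg)
  intro r hr
  have := key g⁻¹ (inv_mem hg) r hr
  simpa using this

theorem climbP [Finite S] {p : ℕ} [Fact p.Prime] (hS : IsPGroup p S) (F : FusionSystem S)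
    (hF : F.IsSaturated p)
    (hbase : ∀ R ≤ S, R ≠ ⊥ → (R.subgroupOf S).Characteristic → IsPGroup p (F.autGroup R))
    (hloc : ∀ Q, F.IsFullyNormalized Q → F.IsCentric Q →
      (∀ R ≤ normalizerIn S Q, R ≠ ⊥ → (R.subgroupOf (normalizerIn S Q)).Characteristic →
        IsPGroup p (F.autGroup R)) → IsPGroup p (F.autGroup Q)) :
    ∀ W ≤ S, IsPGroup p (F.autGroup W) := by
  have main : ∀ n : ℕ, ∀ W ≤ S, Nat.card S - Nat.card (normalizerIn S W) = n →
      IsPGroup p (F.autGroup W) := by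
    intro n
    induction n using Nat.strong_induction_on with
    | _ n ih =>
    intro W hW hn
    obtain ⟨Q, hfn, hcen, hcard, himp⟩ := exists_fn_centric_reduction hS hF hW
    apply himp
    apply hloc Q hfn hcen
    intro R hRT hRne hRchar
    by_cases hT : normalizerIn S Q = S
    · rw [hT] at hRchar hRT
      exact hbase R hRT hRne hRchar
    · have hlt : normalizerIn S Q < S := lt_of_le_of_ne (normalizerIn_le S Q) hT
      have h2 := lt_normalizerIn hS hlt
      have h1 : normalizerIn S (normalizerIn S Q) ≤ normalizerIn S R :=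
        fun x hx => ⟨hx.1, normalizer_le_of_characteristic hRT hRchar hx.2⟩
      have hfin2 : Finite (normalizerIn S (normalizerIn S Q)) := finite_of_le (normalizerIn_le S _)
      have hfin3 : Finite (normalizerIn S R) := finite_of_le (normalizerIn_le S _)
      have h3 : Nat.card (normalizerIn S Q) < Nat.card (normalizerIn S R) :=
        lt_of_lt_of_le (card_lt_card_of_lt h2) (Subgroup.card_le_of_le h1)
      have h4 : Nat.card (normalizerIn S R) ≤ Nat.card S :=
        Subgroup.card_le_of_le (normalizerIn_le S R)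
      exact ih (Nat.card S - Nat.card (normalizerIn S R)) (by omega) R
        (hRT.trans (normalizerIn_le S Q)) rfl
  exact fun W hW => main _ W hW rfl

end

/-- the local step, through the model of `N_F(Q)` -/
theorem isPGroup_autGroup_of_local {Ω : Type u} [Group Ω] {S : Subgroup Ω} [Finite S] {p : ℕ}
    [Fact p.Prime] (hS : IsPGroup p S) (F : FusionSystem S) (hF : F.IsSaturated p)
    (hp : p ≠ 2 ∨ F.IsSectionFree p (Equiv.Perm (Fin 4))) (Q : Subgroup Ω)
    (hQn : F.IsFullyNormalized Q) (hQc : F.IsCentric Q)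
    (h : ∀ R ≤ normalizerIn S Q, R ≠ ⊥ → (R.subgroupOf (normalizerIn S Q)).Characteristic →
      IsPGroup p (F.autGroup R)) : IsPGroup p (F.autGroup Q) := by
  have hQS : Q ≤ S := hQc.1
  obtain ⟨EQ, hE⟩ := Cfsg.Agent.S5096.result F Q hQS
  have hcon := constrained_normalizerSystem hS hF hQn hQc hE
  have hfinT : Finite (normalizerIn S Q) := finite_of_le (normalizerIn_le S Q)
  have hTp : IsPGroup p (normalizerIn S Q) := hS.to_le (normalizerIn_le S Q)
  obtain ⟨L, _, ι, hM⟩ := Cfsg.Agent.S5090.result p hTp EQ hcon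
  have hfree : p ≠ 2 ∨ ¬ Cfsg.Involves (Equiv.Perm (Fin 4)) L :=
    hp.imp id (fun h => h Q hQn hQc EQ hE L ι hM)
  obtain ⟨hfinL, hr, ⟨P₀, hP₀⟩, hCL⟩ := hM
  have hyp : CharHyp p (P₀ : Subgroup L) := by
    intro R' hR' hR'ne hR'char g hg hgo
    obtain ⟨ρ, hρE, hρ⟩ := Cfsg.Agent.Lib.Helper88.exists_aut_of_normalizer hr R' (hP₀ ▸ hR')
    have hRT := Cfsg.Agent.Lib.Helper85.preimageAlong_le ι R'
    have hRne : preimageAlong ι R' ≠ ⊥ := by
      intro hb
      apply hR'ne
      rw [eq_bot_iff]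
      intro x hx
      obtain ⟨t, rfl⟩ := (hP₀ ▸ hR') hx
      have h1 : (t : Ω) ∈ preimageAlong ι R' :=
        Cfsg.Agent.Lib.Helper85.mem_preimageAlong.2 ⟨t.2, hx⟩
      rw [hb, Subgroup.mem_bot] at h1
      have h2 : t = 1 := Subtype.ext h1
      rw [h2, map_one]
      exact Subgroup.one_mem _
    have hRchar : ((preimageAlong ι R').subgroupOf (normalizerIn S Q)).Characteristic := by
      apply char_of_equiv ((MonoidHom.ofInjective hr.1).trans
        (MulEquiv.subgroupCongr hP₀.symm)).symm (R'.subgroupOf (P₀ : Subgroup L)) _ _ hR'char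
      intro a
      obtain ⟨t, rfl⟩ := ((MonoidHom.ofInjective hr.1).trans
        (MulEquiv.subgroupCongr hP₀.symm)).surjective a
      rw [MulEquiv.symm_apply_apply]
      constructor
      · intro ha
        exact Cfsg.Agent.Lib.Helper85.mem_preimageAlong.2 ⟨t.2, ha⟩
      · intro ha
        obtain ⟨_, h2⟩ := Cfsg.Agent.Lib.Helper85.mem_preimageAlong.1 ha
        exact h2
    obtain ⟨k, hk⟩ := h _ hRT hRne hRchar ⟨ρ ⟨g, hg⟩,
      Cfsg.Agent.Lib.Helper88.autGroup_le_of_subsystem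
        (Cfsg.Agent.Lib.Helper88.normalizerSystem_subsystem hE) hRT (hρE _)⟩
    have hk' : ρ ⟨g, hg⟩ ^ p ^ k = 1 := congrArg Subtype.val hk
    have h1 : ρ ⟨g, hg⟩ ^ orderOf g = 1 := by
      rw [← map_pow]
      have : (⟨g, hg⟩ : ↥(Subgroup.normalizer (R' : Set L))) ^ orderOf g = 1 :=
        Subtype.ext (pow_orderOf_eq_one g)
      rw [this, map_one]
    have h2 : ρ ⟨g, hg⟩ = 1 := by
      have h3 := orderOf_dvd_of_pow_eq_one hk'
      have h4 := orderOf_dvd_of_pow_eq_one h1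
      have h5 := Nat.dvd_gcd h4 h3
      rw [(Nat.Coprime.pow_right k hgo).gcd_eq_one, Nat.dvd_one, orderOf_eq_one_iff] at h5
      exact h5
    rw [Subgroup.mem_centralizer_iff]
    intro u hu
    obtain ⟨s, rfl⟩ := (hP₀ ▸ hR') hu
    have hsP : (s : Ω) ∈ preimageAlong ι R' :=
      Cfsg.Agent.Lib.Helper85.mem_preimageAlong.2 ⟨s.2, hu⟩
    have h3 := hρ ⟨g, hg⟩ ⟨s, hsP⟩
    rw [h2, MulAut.one_apply, eq_mul_inv_iff_mul_eq] at h3
    exact h3
  have htop := Cfsg.Agent.Lib.Helper88.sylow_eq_top_of_hasNormalPComplement hCL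
    (hasNormalPComplement_of_charHyp P₀ hfree hyp) P₀
  have hQT : Q ≤ normalizerIn S Q := le_normalizerIn hQS
  rintro ⟨α, hα⟩
  have hαE := Cfsg.Agent.Lib.Helper88.mem_autGroup_normalizerSystem hE le_rfl hQT hα
    (fun x _ => (α x).2)
  rw [mem_autGroup_iff _ hQT] at hαE
  obtain ⟨g, hg⟩ := (hr.2 Q hQT _ (fun x => hQT (α x).2)).1 hαE
  have hgT : g ∈ ι.range := by
    rw [← hP₀, htop]
    trivial
  obtain ⟨s, rfl⟩ := hgT
  have hαS : α ∈ autInducedBy (normalizerIn S Q) Q := by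
    rw [mem_autInducedBy_iff]
    refine ⟨s, s.2, fun x => ?_⟩
    have h1 := hg x
    rw [← map_inv, ← map_mul, ← map_mul] at h1
    exact congrArg (fun s : normalizerIn S Q => (s : Ω)) (hr.1 h1)
  obtain ⟨k, hk⟩ := isPGroup_autInducedBy hTp Q ⟨α, hαS⟩
  have hk' : α ^ p ^ k = 1 := congrArg Subtype.val hk
  exact ⟨k, Subtype.ext hk'⟩

/-- **Strengthened Frobenius criterion for fusion systems.** -/
theorem eq_inner_of_characteristic {Ω : Type u} [Group Ω] {S : Subgroup Ω} [Finite S] {p : ℕ}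
    [Fact p.Prime] (hS : IsPGroup p S) (F : FusionSystem S) (hF : F.IsSaturated p)
    (hp : p ≠ 2 ∨ F.IsSectionFree p (Equiv.Perm (Fin 4)))
    (h : ∀ Q : Subgroup Ω, Q ≤ S → Q ≠ ⊥ → (Q.subgroupOf S).Characteristic →
      IsPGroup p (F.autGroup Q)) : F = innerFusionSystem S :=
  eq_inner_of_isPGroup hS F hF (climbP hS F hF h
    (fun Q hQn hQc hR => isPGroup_autGroup_of_local hS F hF hp Q hQn hQc hR))

end Cfsg.Agent.Lib.Helper87
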