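import Cfsg.Agent.Lib.Helper87.QuadCenter

set_option autoImplicit false

/-! Functors with a quadratic element condition: `L` is generated, in the sense of fusion, by `C_L(℧¹(Z(P)))` and
`N_L(W(P))` (helper87). -/

namespace Cfsg.Agent.Lib.Helper87

open Cfsg Cfsg.Agent.Lib.Helper84
open scoped commutatorElement

universe u

/-- Conjugation by `g` on `A` is a composite of conjugations by elements of `Gen`, all the intermediate images of `A`
lying in `P`. -/
inductive FChain {L : Type*} [Group L] (P : Subgroup L) (Gen : Set L) (A : Subgroup L) : L → Prop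
  | one : FChain P Gen A 1
  | step (g h : L) : FChain P Gen A g → h ∈ Gen → (∀ a ∈ A, (h * g) * a * (h * g)⁻¹ ∈ P) →
      FChain P Gen A (h * g)

theorem FChain.conj_mem {L : Type*} [Group L] {P : Subgroup L} {Gen : Set L} {A : Subgroup L} {g : L}
    (h : FChain P Gen A g) (hA : A ≤ P) : ∀ a ∈ A, g * a * g⁻¹ ∈ P := by
  cases h with
  | one => intro a ha; simpa using hA ha
  | step g h _ _ h3 => exact h3

theorem FChain.of_subgroup {L : Type*} [Group L] {M : Subgroup L} {P' : Subgroup M} {Gen' : Set M}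
    {A' : Subgroup M} {g' : M} (h : FChain P' Gen' A' g') {P : Subgroup L} {Gen : Set L}
    {A : Subgroup L} (hP : ∀ x : M, x ∈ P' → (x : L) ∈ P) (hGen : ∀ x : M, x ∈ Gen' → (x : L) ∈ Gen)
    (hA : ∀ a ∈ A, ∃ h : a ∈ M, (⟨a, h⟩ : M) ∈ A') : FChain P Gen A (g' : L) := by
  induction h with
  | one => exact FChain.one
  | step g h _ hh hcond ih =>
    refine FChain.step (g : L) (h : L) ih (hGen h hh) (fun a ha => ?_)
    obtain ⟨hm, ha'⟩ := hA a ha
    exact hP _ (hcond ⟨a, hm⟩ ha')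

/-- A quadratic element centralizes all conjugates of `p`-th powers of elements of `Z(P)`. -/
theorem quad_centralizes {p : ℕ} [Fact p.Prime] {L : Type*} [Group L] [Finite L] (P : Sylow p L)
    (hCL : Subgroup.centralizer ((pCore p L : Subgroup L) : Set L) ≤ pCore p L) {g : L}
    (hquad : ⁅⁅(Subgroup.center ↥(pCore p L)).map (pCore p L).subtype, Subgroup.zpowers g⁆,
      Subgroup.zpowers g⁆ = ⊥)
    {z : L} (hzZ : ∀ s ∈ (P : Subgroup L), s * z = z * s) (l : L) :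
    (l * z ^ p * l⁻¹) * g = g * (l * z ^ p * l⁻¹) := by
  have hp : p.Prime := Fact.out
  have hUP : pCore p L ≤ P := Cfsg.Agent.Lib.Lead.pCore_le_sylow P
  have hUn : (pCore p L).Normal := Cfsg.Agent.Lib.Lead.pCore_normal' p L
  obtain ⟨A, hAdef⟩ : ∃ A, A = (Subgroup.center ↥(pCore p L)).map (pCore p L).subtype :=
    ⟨_, rfl⟩
  rw [← hAdef] at hquad
  have hA : ∀ a, a ∈ A ↔ a ∈ pCore p L ∧ ∀ u ∈ pCore p L, u * a = a * u := by
    intro a
    rw [hAdef]
    constructor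
    · rintro ⟨a', ha', rfl⟩
      refine ⟨a'.2, fun u hu => ?_⟩
      exact congrArg Subtype.val (Subgroup.mem_center_iff.1 ha' ⟨u, hu⟩)
    · rintro ⟨h1, h2⟩
      refine ⟨⟨a, h1⟩, ?_, rfl⟩
      rw [SetLike.mem_coe, Subgroup.mem_center_iff]
      intro u
      exact Subtype.ext (h2 u u.2)
  have hAab : ∀ a ∈ A, ∀ b ∈ A, a * b = b * a := fun a ha b hb =>
    ((hA b).1 hb).2 a ((hA a).1 ha).1
  have hAn : ∀ a ∈ A, ∀ l : L, l * a * l⁻¹ ∈ A := by
    intro a ha l
    obtain ⟨h1, h2⟩ := (hA a).1 ha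
    refine (hA _).2 ⟨hUn.conj_mem a h1 l, fun u hu => ?_⟩
    have h3 := h2 (l⁻¹ * u * l) (by simpa using hUn.conj_mem u hu l⁻¹)
    calc u * (l * a * l⁻¹) = l * ((l⁻¹ * u * l) * a) * l⁻¹ := by group
      _ = l * (a * (l⁻¹ * u * l)) * l⁻¹ := by rw [h3]
      _ = l * a * l⁻¹ * u := by group
  have hAp : ∀ a ∈ A, ∃ k : ℕ, a ^ (p ^ k) = 1 := by
    intro a ha
    obtain ⟨k, hk⟩ := Cfsg.Agent.Lib.Lead.pCore_isPGroup p L ⟨a, ((hA a).1 ha).1⟩
    exact ⟨k, congrArg Subtype.val hk⟩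
  have hzA : z ∈ A := by
    refine (hA z).2 ⟨hCL ?_, fun u hu => hzZ u (hUP hu)⟩
    rw [Subgroup.mem_centralizer_iff]
    exact fun u hu => hzZ u (hUP hu)
  have hCn : (Subgroup.centralizer (A : Set L)).Normal := centralizer_normal_of_conj hAn
  have hKn : (Subgroup.centralizer {v : L | v ∈ A ∧ v ^ p = 1}).Normal := by
    apply centralizer_normal_of_conj
    rintro y ⟨hy1, hy2⟩ l
    exact ⟨hAn y hy1 l, by rw [conj_pow, hy2]; simp⟩
  have hKC : ∀ a ∈ Subgroup.centralizer {v : L | v ∈ A ∧ v ^ p = 1},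
      ∃ k : ℕ, a ^ (p ^ k) ∈ Subgroup.centralizer (A : Set L) := by
    intro a ha
    obtain ⟨e, m, hm1, hm2⟩ := Nat.exists_eq_pow_mul_and_not_dvd (orderOf_pos a).ne' p hp.ne_one
    refine ⟨e, ?_⟩
    have hb1 : (a ^ (p ^ e)) ^ m = 1 := by
      rw [← pow_mul, ← hm2, pow_orderOf_eq_one]
    have hb2 := Subgroup.pow_mem _ ha (p ^ e)
    have hco : Nat.Coprime m p := ((Nat.Prime.coprime_iff_not_dvd hp).2 hm1).symm
    rw [Subgroup.mem_centralizer_iff]
    intro v hv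
    obtain ⟨k, hk⟩ := hAp v hv
    have := conj_eq_of_omega A hAab (a ^ (p ^ e)) (fun v hv => hAn v hv _) hb1 hco
      (fun v hv hvp => by
        have := (Subgroup.mem_centralizer_iff.1 hb2) v ⟨hv, hvp⟩
        rw [← this, mul_inv_cancel_right]) k v hv hk
    rw [mul_inv_eq_iff_eq_mul] at this
    exact this.symm
  have hKz : ∀ a ∈ Subgroup.centralizer {v : L | v ∈ A ∧ v ^ p = 1}, a * z = z * a := by
    intro a ha
    have h1 : (QuotientGroup.mk a : L ⧸ Subgroup.centralizer (A : Set L)) ∈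
        pCore p (L ⧸ Subgroup.centralizer (A : Set L)) := by
      have h2 : (Subgroup.centralizer {v : L | v ∈ A ∧ v ^ p = 1}).map
          (QuotientGroup.mk' (Subgroup.centralizer (A : Set L))) ≤
          pCore p (L ⧸ Subgroup.centralizer (A : Set L)) := by
        apply Cfsg.Agent.Lib.Lead.le_pCore
          (hKn.map _ (QuotientGroup.mk'_surjective _))
        rintro ⟨_, b, hb, rfl⟩
        obtain ⟨k, hk⟩ := hKC b hb
        refine ⟨k, Subtype.ext ?_⟩
        show (QuotientGroup.mk' _ b) ^ (p ^ k) = 1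
        rw [← map_pow]
        exact (QuotientGroup.eq_one_iff _).2 hk
      exact h2 ⟨a, ha, rfl⟩
    obtain ⟨s, hs, c, hc, rfl⟩ :=
      Cfsg.Agent.Lib.Helper51.exists_mul_of_mk_mem_pCore _ P a h1
    have h3 := (Subgroup.mem_centralizer_iff.1 hc) z hzA
    rw [mul_assoc, ← h3, ← mul_assoc, hzZ s hs, mul_assoc]
  have hgK : g ^ p ∈ Subgroup.centralizer {v : L | v ∈ A ∧ v ^ p = 1} := by
    rw [Subgroup.mem_centralizer_iff]
    rintro v ⟨hv, hvp⟩
    have := quad_pow hAab hAn hquad p hv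
    rw [hvp] at this
    simp only [inv_one, mul_one, mul_inv_cancel] at this
    rw [mul_inv_eq_iff_eq_mul] at this
    exact this.symm
  have h1 := hKz _ (hKn.conj_mem _ hgK l⁻¹)
  rw [inv_inv] at h1
  have h2 : g ^ p * (l * z * l⁻¹) * (g ^ p)⁻¹ = l * z * l⁻¹ := by
    calc g ^ p * (l * z * l⁻¹) * (g ^ p)⁻¹
        = l * ((l⁻¹ * g ^ p * l) * z) * l⁻¹ * (g ^ p)⁻¹ := by group
      _ = l * (z * (l⁻¹ * g ^ p * l)) * l⁻¹ * (g ^ p)⁻¹ := by rw [h1]
      _ = l * z * l⁻¹ := by group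
  have h3 := quad_pow hAab hAn hquad p (hAn z hzA l)
  rw [h2] at h3
  have h4 : ((l * z * l⁻¹) ^ p)⁻¹ * (g * (l * z * l⁻¹) ^ p * g⁻¹) = 1 :=
    (mul_eq_left.1 h3.symm)
  rw [inv_mul_eq_one, conj_pow] at h4
  rw [eq_mul_inv_iff_mul_eq] at h4
  exact h4

theorem fchain_of_quadratic {p : ℕ} [Fact p.Prime] (W : ∀ (Q : Type u) [Group Q], Subgroup Q)
    (hW2 : ∀ (Q R : Type u) [Group Q] [Group R] [Finite Q], IsPGroup p Q → ∀ φ : Q ≃* R,
      (W Q).map φ.toMonoidHom = W R)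
    (hq : ∀ (G : Type u) [Group G] [Finite G] (P : Sylow p G),
      ¬ (((W ↥(P : Subgroup G)).map (P : Subgroup G).subtype : Subgroup G)).Normal →
      ∃ g : G, g ∈ (P : Subgroup G) ∧ g ∉ Cfsg.pCore p G ∧
        ⁅⁅Subgroup.center ↥(Cfsg.pCore p G) |>.map (Cfsg.pCore p G).subtype, Subgroup.zpowers g⁆,
          Subgroup.zpowers g⁆ = ⊥) :
    ∀ n : ℕ, ∀ (L : Type u) [Group L] [Finite L], Nat.card L = n → ∀ (P : Sylow p L),
      Subgroup.centralizer ((pCore p L : Subgroup L) : Set L) ≤ pCore p L →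
      ∀ 𝒵 : Set L, (∀ z ∈ 𝒵, z ∈ (P : Subgroup L) ∧ ∀ s ∈ (P : Subgroup L), s * z = z * s) →
      ∀ (A : Subgroup L) (g : L), A ≤ P → (∀ a ∈ A, g * a * g⁻¹ ∈ (P : Subgroup L)) →
        FChain (P : Subgroup L) ((Subgroup.centralizer {y : L | ∃ z ∈ 𝒵, y = z ^ p} : Set L) ∪
          (Subgroup.normalizer
            (((W ↥(P : Subgroup L)).map (P : Subgroup L).subtype : Subgroup L) : Set L) : Set L)) A g := by
  intro n
  induction n using Nat.strong_induction_on with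
  | _ n ih =>
    intro L _ _ hn P hCL 𝒵 h𝒵 A g hAP hgA
    by_cases hWn : ((W ↥(P : Subgroup L)).map (P : Subgroup L).subtype).Normal
    · have := FChain.step (P := (P : Subgroup L))
        (Gen := ((Subgroup.centralizer {y : L | ∃ z ∈ 𝒵, y = z ^ p} : Set L) ∪
          (Subgroup.normalizer
            (((W ↥(P : Subgroup L)).map (P : Subgroup L).subtype : Subgroup L) : Set L) : Set L)))
        (A := A) 1 g FChain.one (Or.inr (by rw [Subgroup.normalizer_eq_top]; trivial))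
        (by rw [mul_one]; exact hgA)
      rwa [mul_one] at this
    obtain ⟨g₀, hgP, hgU, hquad⟩ := hq L P hWn
    have hUP : pCore p L ≤ P := Cfsg.Agent.Lib.Lead.pCore_le_sylow P
    have hHn : (Subgroup.centralizer {y : L | ∃ z ∈ 𝒵, ∃ l : L, y = l * z ^ p * l⁻¹}).Normal := by
      apply centralizer_normal_of_conj
      rintro _ ⟨z, hz, l, rfl⟩ l'
      exact ⟨z, hz, l' * l, by group⟩
    have hgH : g₀ ∈ Subgroup.centralizer {y : L | ∃ z ∈ 𝒵, ∃ l : L, y = l * z ^ p * l⁻¹} := by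
      rw [Subgroup.mem_centralizer_iff]
      rintro _ ⟨z, hz, l, rfl⟩
      exact quad_centralizes P hCL hquad (h𝒵 z hz).2 l
    have hHC : Subgroup.centralizer {y : L | ∃ z ∈ 𝒵, ∃ l : L, y = l * z ^ p * l⁻¹} ≤
        Subgroup.centralizer {y : L | ∃ z ∈ 𝒵, y = z ^ p} := by
      apply Subgroup.centralizer_le
      rintro _ ⟨z, hz, rfl⟩
      exact ⟨z, hz, 1, by simp⟩
    obtain ⟨H, hHdef⟩ : ∃ H, H =
        Subgroup.centralizer {y : L | ∃ z ∈ 𝒵, ∃ l : L, y = l * z ^ p * l⁻¹} := ⟨_, rfl⟩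
    rw [← hHdef] at hHn hgH hHC
    have hfrat := Cfsg.Agent.Lib.Helper11.normalizer_sylow_inf_sup_eq_top P H
    obtain ⟨M, hMdef⟩ : ∃ M, M = Subgroup.normalizer (((P : Subgroup L) ⊓ H : Subgroup L) : Set L) :=
      ⟨_, rfl⟩
    rw [← hMdef] at hfrat
    have hPM : (P : Subgroup L) ≤ M := by
      have key : ∀ s ∈ (P : Subgroup L), ∀ y ∈ (P : Subgroup L) ⊓ H,
          s * y * s⁻¹ ∈ (P : Subgroup L) ⊓ H := fun s hs y hy =>
        ⟨Subgroup.mul_mem _ (Subgroup.mul_mem _ hs hy.1) (Subgroup.inv_mem _ hs),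
          hHn.conj_mem y hy.2 s⟩
      intro s hs
      rw [hMdef]
      apply mem_normalizer_of_conj_mem (key s hs)
      intro y hy
      simpa using key s⁻¹ (Subgroup.inv_mem _ hs) y hy
    have hMlt : Nat.card M < n := by
      by_contra hcon
      have hMtop : M = ⊤ := Subgroup.eq_top_of_le_card M (by omega)
      have hnor : ((P : Subgroup L) ⊓ H).Normal := by
        rw [← Subgroup.normalizer_eq_top_iff, ← hMdef, hMtop]
      exact hgU (Cfsg.Agent.Lib.Lead.le_pCore hnor (P.2.to_le inf_le_left) ⟨hgP, hgH⟩)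
    have hUM : pCore p L ≤ M := hUP.trans hPM
    have hU' : (pCore p L).subgroupOf M ≤ pCore p M :=
      Cfsg.Agent.Lib.Lead.le_pCore inferInstance
        ((Cfsg.Agent.Lib.Lead.pCore_isPGroup p L).comap_of_injective _ M.subtype_injective)
    have hCM : Subgroup.centralizer ((pCore p M : Subgroup M) : Set M) ≤ pCore p M := by
      intro c hc
      apply hU'
      show (c : L) ∈ pCore p L
      apply hCL
      rw [Subgroup.mem_centralizer_iff]
      intro u hu
      have := (Subgroup.mem_centralizer_iff.1 hc) ⟨u, hUM hu⟩ (hU' hu)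
      exact congrArg Subtype.val this
    have hWM : (W ↥(P : Subgroup L)).map (P : Subgroup L).subtype =
        ((W ↥((P.subtype hPM : Sylow p M) : Subgroup M)).map
          ((P.subtype hPM : Sylow p M) : Subgroup M).subtype).map M.subtype := by
      rw [Subgroup.map_map]
      apply functor_map_injective W hW2 (P.subtype hPM).2
      · exact M.subtype_injective.comp (Subgroup.subtype_injective _)
      · rw [MonoidHom.range_comp, Subgroup.range_subtype, Sylow.coe_subtype,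
          Subgroup.subgroupOf_map_subtype, inf_eq_left.2 hPM]
    -- decompose `g`
    have hgtop : g ∈ ((M ⊔ H : Subgroup L) : Set L) := by rw [hfrat]; trivial
    rw [Subgroup.mul_normal] at hgtop
    obtain ⟨n₀, hn₀, c₀, hc₀, hg⟩ := Set.mem_mul.1 hgtop
    have hn₀M : n₀ ∈ M := hn₀
    have hc₀H : c₀ ∈ H := hc₀
    have hBM : A.map (MulAut.conj n₀).toMonoidHom ≤ M ⊓ ((P : Subgroup L) ⊔ H) := by
      rintro _ ⟨a, ha, rfl⟩
      refine ⟨M.mul_mem (M.mul_mem hn₀M (hPM (hAP ha))) (M.inv_mem hn₀M), ?_⟩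
      have h1 := hgA a ha
      rw [← hg] at h1
      have h2 : n₀ * a * n₀⁻¹ = (n₀ * c₀⁻¹ * n₀⁻¹) * ((n₀ * c₀) * a * (n₀ * c₀)⁻¹) *
          (n₀ * c₀ * n₀⁻¹) := by group
      show n₀ * a * n₀⁻¹ ∈ _
      rw [h2]
      exact Subgroup.mul_mem _ (Subgroup.mul_mem _
        ((le_sup_right : H ≤ (P : Subgroup L) ⊔ H) (hHn.conj_mem _ (H.inv_mem hc₀H) n₀))
        ((le_sup_left : (P : Subgroup L) ≤ (P : Subgroup L) ⊔ H) h1))
        ((le_sup_right : H ≤ (P : Subgroup L) ⊔ H) (hHn.conj_mem _ hc₀H n₀))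
    have hPM₁ : (P : Subgroup L) ≤ M ⊓ ((P : Subgroup L) ⊔ H) := le_inf hPM le_sup_left
    obtain ⟨a₁, ha₁, ha₁'⟩ := exists_conj_le_of_sylow (P.subtype hPM₁) (Sylow.coe_subtype _ _) hBM
      ((P.2.to_le hAP).map _)
    have ha₁s : a₁ ∈ (((P : Subgroup L) ⊔ H : Subgroup L) : Set L) := ha₁.2
    rw [Subgroup.mul_normal] at ha₁s
    obtain ⟨s, hs, m, hm, hsm⟩ := Set.mem_mul.1 ha₁s
    have hsP : s ∈ (P : Subgroup L) := hs
    have hmH : m ∈ H := hm
    have hmM : m ∈ M := by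
      have : m = s⁻¹ * a₁ := by rw [← hsm]; group
      rw [this]
      exact M.mul_mem (M.inv_mem (hPM hsP)) ha₁.1
    have hn₁ : ∀ a ∈ A, (m * n₀) * a * (m * n₀)⁻¹ ∈ (P : Subgroup L) := by
      intro a ha
      have h1 := ha₁' _ (Subgroup.mem_map_of_mem _ ha)
      rw [← hsm] at h1
      have h2 : (m * n₀) * a * (m * n₀)⁻¹ =
          s⁻¹ * (s * m * (MulAut.conj n₀).toMonoidHom a * (s * m)⁻¹) * s := by
        simp only [MulEquiv.coe_toMonoidHom, MulAut.conj_apply]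
        group
      rw [h2]
      exact Subgroup.mul_mem _ (Subgroup.mul_mem _ (Subgroup.inv_mem _ hsP) h1) hsP
    have hres := ih (Nat.card M) hMlt M rfl (P.subtype hPM) hCM {z : M | (z : L) ∈ 𝒵}
      (fun z hz => ⟨(h𝒵 z hz).1, fun s hs => Subtype.ext ((h𝒵 z hz).2 s hs)⟩)
      (A.subgroupOf M) ⟨m * n₀, M.mul_mem hmM hn₀M⟩ (fun a ha => hAP ha)
      (fun a ha => hn₁ a ha)
    have hres' := hres.of_subgroup (P := (P : Subgroup L))
      (Gen := ((Subgroup.centralizer {y : L | ∃ z ∈ 𝒵, y = z ^ p} : Set L) ∪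
          (Subgroup.normalizer
            (((W ↥(P : Subgroup L)).map (P : Subgroup L).subtype : Subgroup L) : Set L) : Set L)))
      (A := A) (fun x hx => hx) (by
        rintro x (hx | hx)
        · left
          rw [SetLike.mem_coe, Subgroup.mem_centralizer_iff] at hx ⊢
          rintro _ ⟨z, hz, rfl⟩
          exact congrArg Subtype.val (hx (⟨z, hPM (h𝒵 z hz).1⟩ ^ p) ⟨⟨z, hPM (h𝒵 z hz).1⟩, hz, rfl⟩)
        · right
          have h1 := coe_mem_normalizer_map hx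
          rw [← hWM] at h1
          exact h1) (fun a ha => ⟨hPM (hAP ha), ha⟩)
    have hc₁ : g * (m * n₀)⁻¹ ∈ H := by
      have : g * (m * n₀)⁻¹ = (n₀ * c₀ * n₀⁻¹) * m⁻¹ := by rw [← hg]; group
      rw [this]
      exact H.mul_mem (hHn.conj_mem _ hc₀H n₀) (H.inv_mem hmH)
    have hgg : g * (m * n₀)⁻¹ * (m * n₀) = g := inv_mul_cancel_right _ _
    have hfin := FChain.step _ (g * (m * n₀)⁻¹) hres' (Or.inl (hHC hc₁)) (by
      intro a ha
      show g * (m * n₀)⁻¹ * (m * n₀) * a * (g * (m * n₀)⁻¹ * (m * n₀))⁻¹ ∈ _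
      rw [hgg]
      exact hgA a ha)
    have hfin' : FChain _ _ A (g * (m * n₀)⁻¹ * (m * n₀)) := hfin
    rwa [hgg] at hfin'

end Cfsg.Agent.Lib.Helper87
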