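import Cfsg.Agent.Lib.Helper87.ClimbN
import Cfsg.Agent.Lib.Helper87.QuadChain

set_option autoImplicit false

/-! `F = ⟨C_F(℧¹(Z(S))), N_F(W(S))⟩` for self-centralizing functors `W` with a quadratic element condition (helper87). -/

namespace Cfsg.Agent.Lib.Helper87

open Cfsg Cfsg.FusionSystem Cfsg.Agent.Lib.Helper84
open scoped commutatorElement

universe u

section
variable {Ω : Type*} [Group Ω] {T : Subgroup Ω} {G : Type*} [Group G]

/-- A subgroup normal in a fusion system is normal in each of its models. -/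
theorem model_map_normal {p : ℕ} [Fact p.Prime]
    {E : FusionSystem T} {Q : Subgroup Ω} (hnorm : E.IsNormal Q)
    (hTQ : T ≤ Subgroup.normalizer (Q : Set Ω)) (ι : T →* G)
    (hM : E.IsModel p G ι) : ((Q.subgroupOf T).map ι).Normal := by
  obtain ⟨hfinG, hr, ⟨P₀, hP₀⟩, hC⟩ := hM
  have hOr : pCore p G ≤ ι.range := hP₀ ▸ Cfsg.Agent.Lib.Lead.pCore_le_sylow P₀
  have hOn : (pCore p G).Normal := Cfsg.Agent.Lib.Lead.pCore_normal' p G
  obtain ⟨U₀, hU₀⟩ : ∃ U₀ : Subgroup Ω, U₀ = ((pCore p G).comap ι).map T.subtype := ⟨_, rfl⟩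
  have hU₀S : U₀ ≤ T := hU₀ ▸ Subgroup.map_subtype_le _
  have hU₀mem : ∀ x : U₀, ι ⟨x, hU₀S x.2⟩ ∈ pCore p G := by
    rintro ⟨x, hx⟩
    rw [hU₀] at hx
    obtain ⟨y, hy, rfl⟩ := hx
    exact hy
  have hU₀ex : ∀ o ∈ pCore p G, ∃ x : U₀, ι ⟨x, hU₀S x.2⟩ = o := by
    intro o ho
    obtain ⟨s, rfl⟩ := hOr ho
    exact ⟨⟨s, hU₀ ▸ ⟨s, ho, rfl⟩⟩, rfl⟩
  constructor
  rintro _ ⟨r, hr', rfl⟩ g
  obtain ⟨φ, hφ, hφS, hφ'⟩ := Cfsg.Agent.Lib.Helper85.realized_exists_hom hr hU₀S g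
    (fun x => hOr (hOn.conj_mem _ (hU₀mem x) g))
  obtain ⟨ψ, hψ, hψ1, hψ2⟩ := hnorm.2 U₀ φ hφ
  obtain ⟨h, hh⟩ := Cfsg.Agent.Lib.Helper85.realized_exists_elt hr hψ
  have hcent : h⁻¹ * g ∈ Subgroup.centralizer ((pCore p G : Subgroup G) : Set G) := by
    rw [Subgroup.mem_centralizer_iff]
    intro o ho
    obtain ⟨x, rfl⟩ := hU₀ex o ho
    have h1 := hφ' x
    have h2 := hh (Subgroup.inclusion le_sup_left x)
    have h3 : (⟨ψ (Subgroup.inclusion le_sup_left x), (E.le_of_mem hψ).2 _⟩ : T) =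
        ⟨φ x, hφS x⟩ := Subtype.ext (hψ1 x)
    rw [h3, h1] at h2
    have h4 : (⟨((Subgroup.inclusion le_sup_left x : ↥(U₀ ⊔ Q)) : Ω),
        (E.le_of_mem hψ).1 (Subgroup.inclusion le_sup_left x).2⟩ : T) =
        ⟨x, hU₀S x.2⟩ := rfl
    rw [h4] at h2
    have h5 : g * ι ⟨x, hU₀S x.2⟩ = h * ι ⟨x, hU₀S x.2⟩ * h⁻¹ * g := by
      rw [← h2]; simp
    calc ι ⟨x, hU₀S x.2⟩ * (h⁻¹ * g) = h⁻¹ * (h * ι ⟨x, hU₀S x.2⟩ * h⁻¹ * g) := by
          simp [mul_assoc]
      _ = h⁻¹ * g * ι ⟨x, hU₀S x.2⟩ := by rw [← h5, mul_assoc]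
  obtain ⟨s, hs⟩ := hOr (hC hcent)
  have hg : g = h * ι s := by rw [hs]; simp
  have hsr : (s : Ω) * r * (s : Ω)⁻¹ ∈ Q := conj_mem_of_mem_normalizer (hTQ s.2) hr'
  have h6 := hh (Subgroup.inclusion le_sup_right ⟨_, hsr⟩)
  refine ⟨⟨ψ (Subgroup.inclusion le_sup_right ⟨_, hsr⟩), (E.le_of_mem hψ).2 _⟩,
    hψ2.le ⟨_, hsr, rfl⟩, ?_⟩
  rw [h6, hg]
  have h7 : (⟨((Subgroup.inclusion le_sup_right (⟨_, hsr⟩ : Q) : ↥(U₀ ⊔ Q)) : Ω),
      (E.le_of_mem hψ).1 (Subgroup.inclusion le_sup_right (⟨_, hsr⟩ : Q)).2⟩ : T) =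
      s * r * s⁻¹ := rfl
  rw [h7, map_mul, map_mul, map_inv]
  simp [mul_assoc]

theorem realized_extend (ι : T →* G) (h : G) {A B : Subgroup Ω} (hA : A ≤ T) (hB : B ≤ T)
    (hAh : ∀ x : A, h * ι ⟨x, hA x.2⟩ * h⁻¹ ∈ ι.range)
    (hBh : ∀ x : B, h * ι ⟨x, hB x.2⟩ * h⁻¹ ∈ ι.range) :
    ∀ x : ↥(A ⊔ B), h * ι ⟨x, sup_le hA hB x.2⟩ * h⁻¹ ∈ ι.range := by
  have key : (A ⊔ B).subgroupOf T ≤ ι.range.comap ((MulAut.conj h).toMonoidHom.comp ι) := by
    rw [Subgroup.subgroupOf_sup hA hB]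
    exact sup_le (fun x hx => hAh ⟨x, hx⟩) (fun x hx => hBh ⟨x, hx⟩)
  intro x
  exact key (show (⟨x, sup_le hA hB x.2⟩ : T) ∈ (A ⊔ B).subgroupOf T from x.2)

theorem realized_map_eq {ι : T →* G} (hι : Function.Injective ι) {B V : Subgroup Ω} (hBT : B ≤ T)
    (hVB : V ≤ B) (ψ : B →* Ω) (hψT : ∀ x, ψ x ∈ T) (h : G)
    (hψ : ∀ x : B, ι ⟨ψ x, hψT x⟩ = h * ι ⟨x, hBT x.2⟩ * h⁻¹)
    (hV : h ∈ Subgroup.normalizer (((V.subgroupOf T).map ι : Subgroup G) : Set G)) :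
    (V.subgroupOf B).map ψ = V := by
  apply le_antisymm
  · rintro _ ⟨x, hx, rfl⟩
    obtain ⟨y, hy, hyx⟩ := conj_mem_of_mem_normalizer hV
      (Subgroup.mem_map_of_mem ι (show (⟨x, hBT x.2⟩ : T) ∈ V.subgroupOf T from hx))
    rw [← hψ x] at hyx
    have := hι hyx
    have h2 : (y : Ω) = ψ x := congrArg Subtype.val this
    rw [← h2]
    exact hy
  · intro y hy
    obtain ⟨x, hx, hxy⟩ := inv_conj_mem_of_mem_normalizer hV
      (Subgroup.mem_map_of_mem ι (show (⟨y, hBT (hVB hy)⟩ : T) ∈ V.subgroupOf T from hy))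
    refine ⟨⟨x, hVB hx⟩, hx, ?_⟩
    have h1 := hψ ⟨x, hVB hx⟩
    have h2 : (⟨((⟨x, hVB hx⟩ : B) : Ω), hBT (⟨x, hVB hx⟩ : B).2⟩ : T) = x := rfl
    rw [h2, hxy] at h1
    have h3 : ι ⟨ψ ⟨x, hVB hx⟩, hψT _⟩ = ι ⟨y, hBT (hVB hy)⟩ := by
      rw [h1]; group
    exact congrArg Subtype.val (hι h3)

end

variable {p : ℕ} [Fact p.Prime] (W : ∀ (Q : Type u) [Group Q], Subgroup Q)
  (hW2 : ∀ (Q R : Type u) [Group Q] [Group R] [Finite Q], IsPGroup p Q → ∀ φ : Q ≃* R,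
    (W Q).map φ.toMonoidHom = W R)

omit [Fact p.Prime] in
include hW2 in
theorem functor_map_hom {Ω : Type u} [Group Ω] {N T : Subgroup Ω} [Finite T] (hT : IsPGroup p T)
    (θ : N →* Ω) (hθ : Function.Injective θ) (hTN : T ≤ N) :
    (((W ↥T).map T.subtype).subgroupOf N).map θ =
      (W ↥((T.subgroupOf N).map θ)).map ((T.subgroupOf N).map θ).subtype := by
  rw [functor_map_injective W hW2 hT (θ.comp (Subgroup.inclusion hTN))
    (hθ.comp (Subgroup.inclusion_injective hTN)) ((T.subgroupOf N).map θ) (by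
      ext y
      constructor
      · rintro ⟨x, hx, rfl⟩
        exact ⟨⟨x, hx⟩, rfl⟩
      · rintro ⟨x, rfl⟩
        exact ⟨Subgroup.inclusion hTN x, x.2, rfl⟩)]
  ext y
  constructor
  · rintro ⟨x, ⟨w, hw, hwx⟩, rfl⟩
    refine ⟨w, hw, ?_⟩
    show θ (Subgroup.inclusion hTN w) = θ x
    congr 1
    exact Subtype.ext hwx
  · rintro ⟨w, hw, rfl⟩
    exact ⟨Subgroup.inclusion hTN w, ⟨w, hw, rfl⟩, rfl⟩

include hW2 in
theorem functor_generation
    (hq : ∀ (G : Type u) [Group G] [Finite G] (P : Sylow p G),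
      ¬ (((W ↥(P : Subgroup G)).map (P : Subgroup G).subtype : Subgroup G)).Normal →
      ∃ g : G, g ∈ (P : Subgroup G) ∧ g ∉ Cfsg.pCore p G ∧
        ⁅⁅Subgroup.center ↥(Cfsg.pCore p G) |>.map (Cfsg.pCore p G).subtype, Subgroup.zpowers g⁆,
          Subgroup.zpowers g⁆ = ⊥)
    (hWc : ∀ (Q : Type u) [Group Q] [Finite Q], IsPGroup p Q →
      Subgroup.centralizer (W Q : Set Q) ≤ W Q)
    {Ω : Type u} [Group Ω] {S : Subgroup Ω} [Finite S] (hS : IsPGroup p S) (F E : FusionSystem S)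
    (hF : F.IsSaturated p) (hN : NIn F E ((W ↥S).map S.subtype))
    (hC : ∀ (A : Subgroup Ω) (ψ : A →* Ω), ψ ∈ F.Hom A →
      (∀ z ∈ S, (∀ s ∈ S, s * z = z * s) → ∃ hz : z ^ p ∈ A, ψ ⟨z ^ p, hz⟩ = z ^ p) →
      ψ ∈ E.Hom A) : F ≤ E := by
  apply climbN hS F E hF (fun T => (W ↥T).map T.subtype)
  · intro T _
    exact Subgroup.map_subtype_le _
  · intro T hT g hg
    have : Finite T := finite_of_le hT
    exact ⟨hg.1, functor_normalizer W hW2 (hS.to_le hT) hg.2⟩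
  · intro N T θ hθ hTN
    have hTS : T ≤ S := hTN.trans (F.le_of_mem hθ).1
    have : Finite T := finite_of_le hTS
    exact functor_map_hom W hW2 (hS.to_le hTS) θ (F.injective_of_mem hθ) hTN
  · intro T hT c hc
    have : Finite T := finite_of_le hT
    refine ⟨⟨c, hc.1⟩, hWc ↥T (hS.to_le hT) ?_, rfl⟩
    rw [Subgroup.mem_centralizer_iff]
    intro w hw
    exact Subtype.ext ((Subgroup.mem_centralizer_iff.1 hc.2) w ⟨w, hw, rfl⟩)
  · exact hN
  · intro Q hQn hQc hflag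
    have hQS : Q ≤ S := hQc.1
    obtain ⟨EQ, hE⟩ := Cfsg.Agent.S5096.result F Q hQS
    have hcon := constrained_normalizerSystem hS hF hQn hQc hE
    have hfinT : Finite (normalizerIn S Q) := finite_of_le (normalizerIn_le S Q)
    have hTp : IsPGroup p (normalizerIn S Q) := hS.to_le (normalizerIn_le S Q)
    obtain ⟨L, _, ι, hM⟩ := Cfsg.Agent.S5090.result p hTp EQ hcon
    have hQnorm := model_map_normal (normal_normalizerSystem hQS hE) (fun t ht => ht.2) ι hM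
    obtain ⟨hfinL, hr, ⟨P₀, hP₀⟩, hCL⟩ := hM
    have hWP := functor_map_injective W hW2 hTp ι hr.1 (P₀ : Subgroup L) hP₀
    have hWT : (W ↥(normalizerIn S Q)).map (normalizerIn S Q).subtype ≤ normalizerIn S Q :=
      Subgroup.map_subtype_le _
    have hQT : Q ≤ normalizerIn S Q := le_normalizerIn hQS
    have hEF : ∀ (A : Subgroup Ω) (ψ : A →* Ω), ψ ∈ EQ.Hom A → ψ ∈ F.Hom A := by
      intro A ψ hψ
      rw [hE] at hψ
      exact hψ.1
    obtain ⟨𝒵, h𝒵def⟩ : ∃ 𝒵 : Set L, 𝒵 = ι '' {t : normalizerIn S Q | ∀ s ∈ S, s * (t : Ω) = t * s} :=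
      ⟨_, rfl⟩
    have h𝒵 : ∀ z ∈ 𝒵, z ∈ (P₀ : Subgroup L) ∧ ∀ s ∈ (P₀ : Subgroup L), s * z = z * s := by
      rw [h𝒵def]
      rintro _ ⟨t, ht, rfl⟩
      refine ⟨by rw [hP₀]; exact ⟨_, rfl⟩, fun s hs => ?_⟩
      rw [hP₀] at hs
      obtain ⟨s', rfl⟩ := hs
      rw [← map_mul, ← map_mul]
      congr 1
      exact Subtype.ext (ht s' s'.2.1)
    -- the generators are good
    have hgen : ∀ h ∈ ((Subgroup.centralizer {y : L | ∃ z ∈ 𝒵, y = z ^ p} : Set L) ∪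
          (Subgroup.normalizer
            (((W ↥(P₀ : Subgroup L)).map (P₀ : Subgroup L).subtype : Subgroup L) : Set L) : Set L)),
        ∀ (A₁ : Subgroup Ω) (hA₁ : A₁ ≤ normalizerIn S Q) (φ₂ : A₁ →* Ω)
          (hφ₂T : ∀ x, φ₂ x ∈ normalizerIn S Q),
          (∀ x : A₁, ι ⟨φ₂ x, hφ₂T x⟩ = h * ι ⟨x, hA₁ x.2⟩ * h⁻¹) → φ₂ ∈ E.Hom A₁ := by
      intro h hh A₁ hA₁ φ₂ hφ₂T hφ₂
      have hA₁h : ∀ x : A₁, h * ι ⟨x, hA₁ x.2⟩ * h⁻¹ ∈ ι.range := fun x => ⟨_, hφ₂ x⟩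
      rcases hh with hh | hh
      · obtain ⟨Fx, hFx⟩ : ∃ Fx : Subgroup Ω, Fx =
            ((Subgroup.centralizer {h}).comap ι).map (normalizerIn S Q).subtype := ⟨_, rfl⟩
        have hFxT : Fx ≤ normalizerIn S Q := hFx ▸ Subgroup.map_subtype_le _
        have hFxh : ∀ x : Fx, h * ι ⟨x, hFxT x.2⟩ * h⁻¹ = ι ⟨x, hFxT x.2⟩ := by
          rintro ⟨x, hx⟩
          rw [hFx] at hx
          obtain ⟨y, hy, rfl⟩ := hx
          have hy' : ι y ∈ Subgroup.centralizer {h} := hy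
          rw [Subgroup.mem_centralizer_singleton_iff] at hy'
          show h * ι y * h⁻¹ = ι y
          rw [← hy', mul_inv_cancel_right]
        have hext := realized_extend ι h hA₁ hFxT hA₁h (fun x => ⟨_, (hFxh x).symm⟩)
        obtain ⟨ψ, hψ, hψT, hψ'⟩ := Cfsg.Agent.Lib.Helper85.realized_exists_hom hr
          (sup_le hA₁ hFxT) h hext
        have hψE : ψ ∈ E.Hom (A₁ ⊔ Fx) := by
          apply hC _ ψ (hEF _ _ hψ)
          intro z hzS hzZ
          have hzT : z ∈ normalizerIn S Q := by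
            refine centralizerIn_le_normalizerIn S Q ⟨hzS, ?_⟩
            show z ∈ Subgroup.centralizer (Q : Set Ω)
            rw [Subgroup.mem_centralizer_iff]
            intro q hq
            exact hzZ q (hQS hq)
          have hzp : ι (⟨z, hzT⟩ ^ p) * h = h * ι (⟨z, hzT⟩ ^ p) := by
            rw [map_pow]
            exact (Subgroup.mem_centralizer_iff.1 hh) _
              ⟨ι ⟨z, hzT⟩, by rw [h𝒵def]; exact ⟨⟨z, hzT⟩, hzZ, rfl⟩, rfl⟩
          have hzFx : z ^ p ∈ Fx := by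
            rw [hFx]
            refine ⟨⟨z, hzT⟩ ^ p, ?_, rfl⟩
            show ι (⟨z, hzT⟩ ^ p) ∈ Subgroup.centralizer {h}
            rw [Subgroup.mem_centralizer_singleton_iff]
            exact hzp
          refine ⟨(le_sup_right : Fx ≤ A₁ ⊔ Fx) hzFx, ?_⟩
          have h1 := hψ' ⟨z ^ p, (le_sup_right : Fx ≤ A₁ ⊔ Fx) hzFx⟩
          have h2 := hFxh ⟨z ^ p, hzFx⟩
          exact congrArg Subtype.val (hr.1 (h1.trans h2))
        have : φ₂ = ψ.comp (Subgroup.inclusion le_sup_left) := by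
          ext x
          have h1 := hψ' (Subgroup.inclusion le_sup_left x)
          exact congrArg Subtype.val (hr.1 ((hφ₂ x).trans h1.symm))
        rw [this]
        exact restrict_mem E hψE le_sup_left
      · have hhW : h ∈ Subgroup.normalizer
            ((((((W ↥(normalizerIn S Q)).map (normalizerIn S Q).subtype).subgroupOf
              (normalizerIn S Q)).map ι : Subgroup L)) : Set L) := by
          have h1 : ((W ↥(normalizerIn S Q)).map (normalizerIn S Q).subtype).subgroupOf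
              (normalizerIn S Q) = W ↥(normalizerIn S Q) :=
            Subgroup.comap_map_eq_self_of_injective (Subgroup.subtype_injective _) _
          rw [h1, ← hWP]
          exact hh
        have hhQ : h ∈ Subgroup.normalizer
            (((Q.subgroupOf (normalizerIn S Q)).map ι : Subgroup L) : Set L) := by
          rw [Subgroup.normalizer_eq_top]; trivial
        have hQh : ∀ x : Q, h * ι ⟨x, hQT x.2⟩ * h⁻¹ ∈ ι.range := by
          intro x
          obtain ⟨y, -, hy⟩ := conj_mem_of_mem_normalizer hhQ (Subgroup.mem_map_of_mem ι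
            (show (⟨x, hQT x.2⟩ : normalizerIn S Q) ∈ Q.subgroupOf (normalizerIn S Q) from x.2))
          exact ⟨y, hy⟩
        have hWh : ∀ x : ↥((W ↥(normalizerIn S Q)).map (normalizerIn S Q).subtype),
            h * ι ⟨x, hWT x.2⟩ * h⁻¹ ∈ ι.range := by
          intro x
          obtain ⟨y, -, hy⟩ := conj_mem_of_mem_normalizer hhW (Subgroup.mem_map_of_mem ι
            (show (⟨x, hWT x.2⟩ : normalizerIn S Q) ∈ Subgroup.subgroupOf _ (normalizerIn S Q)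
              from x.2))
          exact ⟨y, hy⟩
        have hext := realized_extend ι h hA₁ (sup_le hQT hWT) hA₁h
          (realized_extend ι h hQT hWT hQh hWh)
        obtain ⟨ψ, hψ, hψT, hψ'⟩ := Cfsg.Agent.Lib.Helper85.realized_exists_hom hr
          (sup_le hA₁ (sup_le hQT hWT)) h hext
        have hψE := hflag _ ψ (hEF _ _ hψ) (le_sup_left.trans le_sup_right)
          (le_sup_right.trans le_sup_right) (sup_le hA₁ (sup_le hQT hWT)) hψT
          (realized_map_eq hr.1 _ (le_sup_left.trans le_sup_right) ψ hψT h hψ' hhQ)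
          (realized_map_eq hr.1 _ (le_sup_right.trans le_sup_right) ψ hψT h hψ' hhW)
        have : φ₂ = ψ.comp (Subgroup.inclusion le_sup_left) := by
          ext x
          have h1 := hψ' (Subgroup.inclusion le_sup_left x)
          exact congrArg Subtype.val (hr.1 ((hφ₂ x).trans h1.symm))
        rw [this]
        exact restrict_mem E hψE le_sup_left
    intro P φ hφ hQP hPQ hφQ
    have hPS : P ≤ S := (F.le_of_mem hφ).1
    have hPT : P ≤ normalizerIn S Q := fun x hx => ⟨hPS hx, hPQ hx⟩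
    have hφT : ∀ x, φ x ∈ normalizerIn S Q := fun x => map_mem_normalizerIn F hφ hφQ x (hPQ x.2)
    have hφE : φ ∈ EQ.Hom P := by
      rw [hE]
      refine ⟨hφ, hPT, hφT, φ.comp (Subgroup.inclusion (sup_le le_rfl hQP)),
        restrict_mem F hφ _, fun x => rfl, ?_⟩
      refine Eq.trans ?_ hφQ
      ext y
      constructor
      · rintro ⟨x, hx, rfl⟩
        exact ⟨_, hx, rfl⟩
      · rintro ⟨x, hx, rfl⟩
        exact ⟨Subgroup.inclusion le_sup_left x, hx, rfl⟩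
    obtain ⟨g, hg⟩ := Cfsg.Agent.Lib.Helper85.realized_exists_elt hr hφE
    have hAP : (P.subgroupOf (normalizerIn S Q)).map ι ≤ (P₀ : Subgroup L) := by
      rw [hP₀]
      rintro _ ⟨x, -, rfl⟩
      exact ⟨x, rfl⟩
    have hchain := fchain_of_quadratic W hW2 hq _ L rfl P₀ hCL 𝒵 h𝒵
      ((P.subgroupOf (normalizerIn S Q)).map ι) g hAP (by
        rintro _ ⟨x, hx, rfl⟩
        rw [hP₀]
        exact ⟨_, hg ⟨x, hx⟩⟩)
    have key : ∀ g, FChain (P₀ : Subgroup L)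
        ((Subgroup.centralizer {y : L | ∃ z ∈ 𝒵, y = z ^ p} : Set L) ∪
          (Subgroup.normalizer
            (((W ↥(P₀ : Subgroup L)).map (P₀ : Subgroup L).subtype : Subgroup L) : Set L) : Set L))
        ((P.subgroupOf (normalizerIn S Q)).map ι) g →
        ∀ (φ : P →* Ω) (hφT : ∀ x, φ x ∈ normalizerIn S Q),
          (∀ x : P, ι ⟨φ x, hφT x⟩ = g * ι ⟨x, hPT x.2⟩ * g⁻¹) → φ ∈ E.Hom P := by
      intro g hch
      induction hch with
      | one =>
        intro φ hφT hφ'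
        have : φ = P.subtype := by
          ext x
          have h1 := hφ' x
          rw [one_mul, inv_one, mul_one] at h1
          exact congrArg Subtype.val (hr.1 h1)
        rw [this]
        exact subtype_mem E hPS
      | step g h hch hh hcond ih =>
        intro φ hφT hφ'
        have hconj := hch.conj_mem hAP
        obtain ⟨φ₁, hφ₁, hφ₁T, hφ₁'⟩ := Cfsg.Agent.Lib.Helper85.realized_exists_hom hr hPT g
          (fun x => by
            rw [← hP₀]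
            exact hconj _ (Subgroup.mem_map_of_mem ι
              (show (⟨x, hPT x.2⟩ : normalizerIn S Q) ∈ P.subgroupOf (normalizerIn S Q) from x.2)))
        have hφ₁E := ih φ₁ hφ₁T hφ₁'
        have hR : φ₁.range ≤ normalizerIn S Q := by
          rintro _ ⟨x, rfl⟩
          exact hφ₁T x
        have hRh : ∀ y : φ₁.range, h * ι ⟨y, hR y.2⟩ * h⁻¹ ∈ ι.range := by
          rintro ⟨_, x, rfl⟩
          refine ⟨⟨φ x, hφT x⟩, ?_⟩
          rw [hφ' x]
          have : (⟨φ₁ x, hR ⟨x, rfl⟩⟩ : normalizerIn S Q) = ⟨φ₁ x, hφ₁T x⟩ := rfl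
          rw [this, hφ₁' x]
          group
        obtain ⟨φ₂, hφ₂, hφ₂T, hφ₂'⟩ := Cfsg.Agent.Lib.Helper85.realized_exists_hom hr hR h hRh
        have hφ₂E := hgen h hh _ hR φ₂ hφ₂T hφ₂'
        have hcomp := E.comp_mem hφ₁E hφ₂E (fun x => ⟨x, rfl⟩)
        have : φ = φ₂.comp (φ₁.codRestrict φ₁.range (fun x => ⟨x, rfl⟩)) := by
          ext x
          have h1 := hφ₂' ⟨φ₁ x, ⟨x, rfl⟩⟩
          have h2 : (⟨φ₁ x, hR ⟨x, rfl⟩⟩ : normalizerIn S Q) = ⟨φ₁ x, hφ₁T x⟩ := rfl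
          have h3 : ι ⟨φ x, hφT x⟩ = ι ⟨φ₂ ⟨φ₁ x, ⟨x, rfl⟩⟩, hφ₂T _⟩ := by
            rw [h1, hφ' x]
            show _ = h * ι ⟨φ₁ x, hφ₁T x⟩ * h⁻¹
            rw [hφ₁' x]
            group
          exact congrArg Subtype.val (hr.1 h3)
        rw [this]
        exact hcomp
    exact key g hchain φ hφT hg

end Cfsg.Agent.Lib.Helper87
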