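import Cfsg.Agent.Lib.Helper87.Climb
import Cfsg.Agent.Lib.Helper87.GenExtra3
import Cfsg.Agent.Lib.Helper84.FusionNormSys
import Cfsg.Agent.Lib.Helper85.FusRealNormal
import Cfsg.Agent.Lib.Helper85.FusNormal
import Cfsg.Agent.Lib.Helper85.FusFactor2
import Cfsg.Agent.S5090
import Cfsg.Agent.S5096

set_option autoImplicit false

/-! Characteristic `p`-functors controlling weak closure of elements: reduction to groups via models (helper87). -/

namespace Cfsg.Agent.Lib.Helper87

open Cfsg Cfsg.FusionSystem Cfsg.Agent.Lib.Helper84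

universe u

/-- The group-theoretic input: in groups `L` with `C_L(O_p(L)) ≤ O_p(L)`, the `m`-th power of an element of `Z(P)`
which is central in `N_L(W(P))` is central in `L`. -/
def GroupHyp (p m : ℕ) (W : ∀ (Q : Type u) [Group Q], Subgroup Q) : Prop :=
  ∀ (L : Type u) [Group L] [Finite L] (P : Sylow p L),
    Subgroup.centralizer ((pCore p L : Subgroup L) : Set L) ≤ pCore p L →
    ∀ z ∈ (P : Subgroup L), (∀ s ∈ (P : Subgroup L), s * z = z * s) →
    (∀ g ∈ Subgroup.normalizer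
      (((W ↥(P : Subgroup L)).map (P : Subgroup L).subtype : Subgroup L) : Set L),
        g * z ^ m = z ^ m * g) →
    ∀ g : L, g * z ^ m = z ^ m * g

variable {p : ℕ} [Fact p.Prime] (W : ∀ (Q : Type u) [Group Q], Subgroup Q)
  (hW2 : ∀ (Q R : Type u) [Group Q] [Group R] [Finite Q], IsPGroup p Q → ∀ φ : Q ≃* R,
    (W Q).map φ.toMonoidHom = W R)

omit [Fact p.Prime] in
include hW2 in
theorem functor_normalizer {Ω : Type u} [Group Ω] {T : Subgroup Ω} [Finite T] (hT : IsPGroup p T) :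
    Subgroup.normalizer (T : Set Ω) ≤
      Subgroup.normalizer (((W ↥T).map T.subtype : Subgroup Ω) : Set Ω) := by
  have key : ∀ g ∈ Subgroup.normalizer (T : Set Ω), ∀ y ∈ (W ↥T).map T.subtype,
      g * y * g⁻¹ ∈ (W ↥T).map T.subtype := by
    rintro g hg _ ⟨w, hw, rfl⟩
    have h1 := hW2 ↥T ↥T hT (conjAut T g hg)
    have h2 : conjAut T g hg w ∈ W ↥T := by
      rw [← h1]
      exact ⟨w, hw, rfl⟩
    exact ⟨_, h2, rfl⟩
  intro g hg
  apply mem_normalizer_of_conj_mem (key g hg)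
  intro y hy
  simpa using key g⁻¹ (Subgroup.inv_mem _ hg) y hy

omit [Fact p.Prime] in
include hW2 in
theorem functor_map_injective {A B : Type u} [Group A] [Group B] [Finite A] (hA : IsPGroup p A)
    (ι : A →* B) (hι : Function.Injective ι) (P : Subgroup B) (hP : P = ι.range) :
    (W ↥P).map P.subtype = (W A).map ι := by
  subst hP
  have h1 := hW2 A ↥ι.range hA (MonoidHom.ofInjective hι)
  rw [← h1, Subgroup.map_map]
  rfl

include hW2 in
theorem functor_central (m : ℕ)
    (hWZ : ∀ (Q : Type u) [Group Q] [Finite Q], IsPGroup p Q → Subgroup.center Q ≤ W Q)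
    (hG : GroupHyp p m W)
    {Ω : Type u} [Group Ω] {S : Subgroup Ω} [Finite S] (hS : IsPGroup p S) (F : FusionSystem S)
    (hF : F.IsSaturated p) (N : FusionSystem (normalizerIn S ((W ↥S).map S.subtype)))
    (hN : F.IsNormalizerSystem ((W ↥S).map S.subtype) N)
    (X : Subgroup Ω) (hXN : X ≤ N.center)
    (hXm : ∀ y ∈ X, ∃ z ∈ S, (∀ s ∈ S, s * z = z * s) ∧ y = z ^ m) : F.IsCentral X := by
  have hXS : X ≤ S := by
    intro y hy
    obtain ⟨z, hz, -, rfl⟩ := hXm y hy
    exact S.pow_mem hz m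
  have hXZ : ∀ g ∈ S, ∀ y ∈ X, g * y * g⁻¹ = y := by
    intro g hg y hy
    obtain ⟨z, hz, hzZ, rfl⟩ := hXm y hy
    have h1 : Commute g z := hzZ g hg
    rw [(h1.pow_right m).eq, mul_inv_cancel_right]
  apply climb hS F hF hXS hXZ (fun T => (W ↥T).map T.subtype)
  · intro T _
    exact Subgroup.map_subtype_le _
  · intro T hT g hg
    have : Finite T := finite_of_le hT
    exact ⟨hg.1, functor_normalizer W hW2 (hS.to_le hT) hg.2⟩
  · intro α hα y hyX hy
    have hW₀ : (W ↥S).map S.subtype ≤ S := Subgroup.map_subtype_le _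
    have : Finite (normalizerIn S ((W ↥S).map S.subtype)) := finite_of_le (normalizerIn_le S _)
    rw [← autGroup_normalizerSystem hW₀ hN, mem_autGroup_iff N (le_normalizerIn hW₀)] at hα
    exact Cfsg.Agent.Lib.Helper85.apply_eq_of_isCentral N
      (Cfsg.Agent.Lib.Helper85.isCentral_center N) hα ⟨y, hy⟩ (hXN hyX)
  · intro Q hQn hQc hfix
    have hQS : Q ≤ S := hQc.1
    obtain ⟨E, hE⟩ := Cfsg.Agent.S5096.result F Q hQS
    have hcon := constrained_normalizerSystem hS hF hQn hQc hE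
    have hfinT : Finite (normalizerIn S Q) := finite_of_le (normalizerIn_le S Q)
    have hTp : IsPGroup p (normalizerIn S Q) := hS.to_le (normalizerIn_le S Q)
    obtain ⟨L, _, ι, hM⟩ := Cfsg.Agent.S5090.result p hTp E hcon
    obtain ⟨hfinL, hr, ⟨P₀, hP₀⟩, hC⟩ := hM
    intro α hα y hyX hy
    obtain ⟨z, hzS, hzZ, rfl⟩ := hXm y hyX
    have hzT : z ∈ normalizerIn S Q := by
      refine centralizerIn_le_normalizerIn S Q ⟨hzS, ?_⟩
      show z ∈ Subgroup.centralizer (Q : Set Ω)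
      rw [Subgroup.mem_centralizer_iff]
      intro q hq
      exact hzZ q (hQS hq)
    have hz'P : ι ⟨z, hzT⟩ ∈ (P₀ : Subgroup L) := by
      rw [hP₀]; exact ⟨_, rfl⟩
    have hz'Z : ∀ s ∈ (P₀ : Subgroup L), s * ι ⟨z, hzT⟩ = ι ⟨z, hzT⟩ * s := by
      intro s hs
      rw [hP₀] at hs
      obtain ⟨t, rfl⟩ := hs
      rw [← map_mul, ← map_mul]
      congr 1
      exact Subtype.ext (hzZ t t.2.1)
    have hWP := functor_map_injective W hW2 hTp ι hr.1 (P₀ : Subgroup L) hP₀
    have hWT : (W ↥(normalizerIn S Q)).map (normalizerIn S Q).subtype ≤ normalizerIn S Q :=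
      Subgroup.map_subtype_le _
    have hpow : ∀ h : z ^ m ∈ normalizerIn S Q, ι ⟨z ^ m, h⟩ = ι ⟨z, hzT⟩ ^ m := by
      intro h
      rw [← map_pow]
      rfl
    have hzW : z ^ m ∈ (W ↥(normalizerIn S Q)).map (normalizerIn S Q).subtype := by
      refine ⟨⟨z, hzT⟩ ^ m, hWZ _ hTp (Subgroup.pow_mem _ ?_ m), rfl⟩
      rw [Subgroup.mem_center_iff]
      intro t
      exact Subtype.ext (hzZ t t.2.1)
    have hnorm : ∀ g ∈ Subgroup.normalizer
        (((W ↥(P₀ : Subgroup L)).map (P₀ : Subgroup L).subtype : Subgroup L) : Set L),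
          g * ι ⟨z, hzT⟩ ^ m = ι ⟨z, hzT⟩ ^ m * g := by
      intro g hg
      rw [hWP] at hg
      obtain ⟨β, hβ⟩ := Cfsg.Agent.Lib.Helper85.realized_exists_aut hr hWT g (by
        rintro ⟨_, w, hw, rfl⟩
        obtain ⟨w', hw', hw''⟩ := conj_mem_of_mem_normalizer hg
          (Subgroup.mem_map_of_mem ι hw)
        exact ⟨⟨w', w', hw', rfl⟩, hw''⟩)
      have hβE := (mem_autGroup_iff E hWT _).1 β.2
      have hβF : (β : MulAut ↥((W ↥(normalizerIn S Q)).map (normalizerIn S Q).subtype)) ∈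
          F.autGroup _ := by
        rw [mem_autGroup_iff F (hWT.trans (normalizerIn_le S Q))]
        have h1 : _ ∈ E.Hom _ := hβE
        rw [hE] at h1
        exact h1.1
      have h2 := hfix _ hβF _ hyX hzW
      have h3 := hβ ⟨z ^ m, hzW⟩
      have h4 : (⟨_, hWT ((β : MulAut
          ↥((W ↥(normalizerIn S Q)).map (normalizerIn S Q).subtype)) ⟨z ^ m, hzW⟩).2⟩ :
          normalizerIn S Q) = ⟨z ^ m, hWT hzW⟩ := Subtype.ext h2
      rw [h4, hpow] at h3
      rw [eq_mul_inv_iff_mul_eq] at h3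
      exact h3.symm
    have hcen := hG L P₀ hC _ hz'P hz'Z hnorm
    rw [← autGroup_normalizerSystem hQS hE] at hα
    obtain ⟨g, hg⟩ := Cfsg.Agent.Lib.Helper85.realized_aut_elt hr (le_normalizerIn hQS) hα
    have h5 := hg ⟨z ^ m, hy⟩
    rw [hpow, hcen g, mul_inv_cancel_right, ← hpow (le_normalizerIn hQS hy)] at h5
    exact congrArg Subtype.val (hr.1 h5)

end Cfsg.Agent.Lib.Helper87
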