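import Mathlib
import Cfsg.Agent.Lib.Helper1.Nilpotent
import Cfsg.Agent.Lib.Helper2.PGroupFrattini
import Cfsg.Agent.Lib.Helper88.CoprimeSmall

set_option autoImplicit false

/-! Generalized extraspecial subgroups, elementwise calculus (helper87). -/

namespace Cfsg.Agent.Lib.Helper87

open Cfsg.Agent.Lib.Helper88

variable {Ω : Type*} [Group Ω] {p : ℕ}

/-- `P` has class at most two with `Φ(P) = P' = Z` of order `p`, phrased inside the ambient group. -/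
structure GE (p : ℕ) (P Z : Subgroup Ω) : Prop where
  le : Z ≤ P
  card : Nat.card Z = p
  comm_mem : ∀ a ∈ P, ∀ b ∈ P, a * b * a⁻¹ * b⁻¹ ∈ Z
  pow_mem : ∀ a ∈ P, a ^ p ∈ Z
  central : ∀ z ∈ Z, ∀ a ∈ P, z * a = a * z
  ne : ∃ a ∈ P, ∃ b ∈ P, a * b * a⁻¹ * b⁻¹ ≠ 1

theorem ge_of_hyp [hp : Fact p.Prime] {P : Subgroup Ω} [Finite P] (hP : IsPGroup p P)
    (h1 : frattini ↥P = commutator ↥P) (h2 : Nat.card ↥(commutator ↥P) = p) :
    GE p P ((commutator ↥P).map P.subtype) := by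
  have hcm : ∀ a b : P, a * b * a⁻¹ * b⁻¹ ∈ commutator ↥P := fun a b =>
    Subgroup.commutator_mem_commutator (Subgroup.mem_top a) (Subgroup.mem_top b)
  have hnil : Group.IsNilpotent P := hP.isNilpotent
  have hne : commutator ↥P ≠ ⊥ := by
    intro h
    rw [h, Subgroup.card_bot] at h2
    exact hp.out.one_lt.ne h2
  have hcen : commutator ↥P ≤ Subgroup.center ↥P := by
    have h3 := Cfsg.Agent.Lib.Helper1.normal_inf_center_ne_bot (N := commutator ↥P) hne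
    have h4 : Nat.card ↥(commutator ↥P ⊓ Subgroup.center ↥P) ∣ p :=
      h2 ▸ Subgroup.card_dvd_of_le inf_le_left
    rcases (Nat.dvd_prime hp.out).1 h4 with h5 | h5
    · exact absurd (Subgroup.card_eq_one.1 h5) h3
    · have h6 : commutator ↥P ⊓ Subgroup.center ↥P = commutator ↥P :=
        Subgroup.eq_of_le_of_card_ge inf_le_left (by rw [h5, h2])
      exact inf_eq_left.1 h6
  refine ⟨Subgroup.map_subtype_le _, ?_, ?_, ?_, ?_, ?_⟩
  · rw [Subgroup.card_map_of_injective (Subgroup.subtype_injective P), h2]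
  · intro a ha b hb
    exact ⟨_, hcm ⟨a, ha⟩ ⟨b, hb⟩, rfl⟩
  · intro a ha
    refine ⟨⟨a, ha⟩ ^ p, ?_, rfl⟩
    rw [← h1]
    exact Cfsg.Agent.Lib.Helper2.pow_p_mem_frattini hP _
  · rintro _ ⟨z, hz, rfl⟩ a ha
    have := Subgroup.mem_center_iff.1 (hcen hz) ⟨a, ha⟩
    exact (congrArg (fun w : P => (w : Ω)) this).symm
  · by_contra hcon
    push Not at hcon
    apply hne
    rw [eq_bot_iff, commutator_def, Subgroup.commutator_le]
    intro a _ b _
    rw [Subgroup.mem_bot]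
    exact Subtype.ext (hcon a a.2 b b.2)

theorem comm_eq' (a b : Ω) : a * b = a * b * a⁻¹ * b⁻¹ * (b * a) := by group

namespace GE

variable [hp : Fact p.Prime] {P Z : Subgroup Ω}

theorem exists_pow (h : GE p P Z) {c z : Ω} (hc : c ∈ Z) (hc1 : c ≠ 1) (hz : z ∈ Z) :
    ∃ k : ℕ, z = c ^ k := by
  have h1 : (⟨c, hc⟩ : Z) ≠ 1 := fun hh => hc1 (congrArg (fun w : Z => (w : Ω)) hh)
  obtain ⟨k, hk⟩ := mem_powers_of_prime_card (g' := (⟨z, hz⟩ : Z)) h.card h1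
  exact ⟨k, (congrArg (fun w : Z => (w : Ω)) hk).symm⟩

theorem pow_p (h : GE p P Z) {z : Ω} (hz : z ∈ Z) : z ^ p = 1 := by
  have h1 : (⟨z, hz⟩ : Z) ^ Nat.card Z = 1 := pow_card_eq_one'
  rw [h.card] at h1
  exact congrArg (fun w : Z => (w : Ω)) h1

theorem commute (h : GE p P Z) {z a : Ω} (hz : z ∈ Z) (ha : a ∈ P) : Commute z a :=
  h.central z hz a ha

/-- If `g` does not commute with `y`, every `x ∈ P` is `g ^ k * m` with `m` commuting with `y`. -/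
theorem exists_decomp (h : GE p P Z) {g y x : Ω} (hg : g ∈ P) (hy : y ∈ P) (hx : x ∈ P)
    (hgy : g * y ≠ y * g) : ∃ k : ℕ, ∃ m ∈ P, x = g ^ k * m ∧ m * y = y * m := by
  have hc := h.comm_mem g hg y hy
  have hc1 : g * y * g⁻¹ * y⁻¹ ≠ 1 := by
    intro hh
    apply hgy
    have := comm_eq' g y
    rwa [hh, one_mul] at this
  obtain ⟨k, hk⟩ := h.exists_pow hc hc1 (h.comm_mem x hx y hy)
  have h1 := pow_mul_comm_central (comm_eq' g y) (h.commute hc hg) k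
  rw [← hk] at h1
  refine ⟨k, (g ^ k)⁻¹ * x, P.mul_mem (P.inv_mem (P.pow_mem hg k)) hx, by group, ?_⟩
  have h2 : y * (g ^ k)⁻¹ = (g ^ k)⁻¹ * (x * y * x⁻¹ * y⁻¹) * y := by
    have : (g ^ k)⁻¹ * (g ^ k * y) * (g ^ k)⁻¹ =
        (g ^ k)⁻¹ * (x * y * x⁻¹ * y⁻¹ * (y * g ^ k)) * (g ^ k)⁻¹ := by rw [h1]
    simp only [inv_mul_cancel_left] at this
    rw [this]
    group
  rw [← mul_assoc, h2]
  group

theorem mul_pow_p (h : GE p P Z) (hodd : p ≠ 2) {a b : Ω} (ha : a ∈ P) (hb : b ∈ P) :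
    (a * b) ^ p = a ^ p * b ^ p := by
  have hd := h.comm_mem b hb a ha
  have h1 := mul_pow_central (comm_eq' b a) (h.commute hd ha) (h.commute hd hb) p
  have h2 : p ∣ p.choose 2 := by
    apply hp.out.dvd_choose_self (by norm_num)
    have := hp.out.two_le
    omega
  obtain ⟨m, hm⟩ := h2
  rw [h1, hm, pow_mul, h.pow_p hd, one_pow, one_mul]

theorem mul_sq (h : GE p P Z) {a b : Ω} (ha : a ∈ P) (hb : b ∈ P) :
    (a * b) ^ 2 = b * a * b⁻¹ * a⁻¹ * (a ^ 2 * b ^ 2) := by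
  have hd := h.comm_mem b hb a ha
  have h1 := mul_pow_central (comm_eq' b a) (h.commute hd ha) (h.commute hd hb) 2
  rw [h1, Nat.choose_self, pow_one]

/-- The key consequence of an injective map `C_P(y) → P` sending `y ∉ Z` into `Z`. -/
theorem sigma (h : GE p P Z) {y : Ω} (hyZ : y ∉ Z) {M : Subgroup Ω}
    (hM : ∀ m, m ∈ M ↔ m ∈ P ∧ m * y = y * m) (ψ : M →* Ω) (hinj : Function.Injective ψ)
    (hψP : ∀ m, ψ m ∈ P) (hψy : ∀ hy : y ∈ M, ψ ⟨y, hy⟩ ∈ Z) (hyM : y ∈ M) :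
    (∀ a ∈ M, ∀ b ∈ M, a * b = b * a) ∧ (∀ a ∈ M, a ^ p = 1) := by
  have key : ∀ c : M, (c : Ω) ∈ Z → ψ c ∈ Z → c = 1 := by
    intro c _ hc2
    by_contra hc1
    have h1 : ψ c ≠ 1 := fun hh => hc1 (hinj (by rw [hh, map_one]))
    obtain ⟨k, hk⟩ := h.exists_pow hc2 h1 (hψy hyM)
    rw [← map_pow] at hk
    have h2 := hinj hk
    apply hyZ
    have h3 : y = (c : Ω) ^ k := congrArg (fun w : M => (w : Ω)) h2
    rw [h3]
    exact Z.pow_mem ‹_› k
  constructor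
  · intro a ha b hb
    have h1 := key (⟨a, ha⟩ * ⟨b, hb⟩ * ⟨a, ha⟩⁻¹ * ⟨b, hb⟩⁻¹)
      (h.comm_mem a ((hM a).1 ha).1 b ((hM b).1 hb).1) (by
        rw [map_mul, map_mul, map_mul, map_inv, map_inv]
        exact h.comm_mem _ (hψP _) _ (hψP _))
    have h2 : a * b * a⁻¹ * b⁻¹ = 1 := congrArg (fun w : M => (w : Ω)) h1
    have h3 := comm_eq' a b
    rwa [h2, one_mul] at h3
  · intro a ha
    have h1 := key (⟨a, ha⟩ ^ p) (h.pow_mem a ((hM a).1 ha).1) (by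
        rw [map_pow]
        exact h.pow_mem _ (hψP _))
    exact congrArg (fun w : M => (w : Ω)) h1

end GE

end Cfsg.Agent.Lib.Helper87
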