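import Cfsg.Agent.Lib.Helper87.ClimbP
import Cfsg.Agent.Lib.Helper34.PStable
import Cfsg.Agent.Lib.Helper22.CoprimeP

set_option autoImplicit false

/-! Groups in which a Sylow `p`-subgroup (`p` odd) is a maximal subgroup are `p`-by-abelian-by-`p` (helper87). -/

namespace Cfsg.Agent.Lib.Helper87

open Cfsg Cfsg.Agent.Lib.Helper84 Cfsg.Agent.Lib.Lead

universe u

theorem exists_pap_of_maximal_sylow {G : Type u} [Group G] [Finite G] {p : ℕ} [Fact p.Prime]
    (hp : p ≠ 2) (S : Sylow p G)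
    (hmax : ∀ K : Subgroup G, (S : Subgroup G) ≤ K → K = S ∨ K = ⊤) :
    ∃ K : Subgroup G, Cfsg.Agent.Lib.Helper34.PAP p (pCore p G) K := by
  have hQn : (pCore p G).Normal := pCore_normal' p G
  have hQS : pCore p G ≤ S := pCore_le_sylow S
  have hπ := QuotientGroup.mk'_surjective (pCore p G)
  obtain ⟨π, hπdef⟩ : ∃ π : G →* G ⧸ pCore p G, π = QuotientGroup.mk' (pCore p G) := ⟨_, rfl⟩
  rw [← hπdef] at hπ
  have hker : ∀ x, π x = 1 ↔ x ∈ pCore p G := by
    intro x
    rw [hπdef]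
    exact QuotientGroup.eq_one_iff x
  obtain ⟨Sb, hSb⟩ : ∃ Sb : Sylow p (G ⧸ pCore p G),
      (Sb : Subgroup (G ⧸ pCore p G)) = (S : Subgroup G).map π :=
    ⟨S.mapSurjective hπ, Sylow.coe_mapSurjective hπ S⟩
  have hcomapS : ((S : Subgroup G).map π).comap π = S := by
    rw [Subgroup.comap_map_eq, hπdef, QuotientGroup.ker_mk', sup_eq_left.2 hQS]
  have A1 : ∀ M : Subgroup (G ⧸ pCore p G), (Sb : Subgroup (G ⧸ pCore p G)) ≤ M →
      M = Sb ∨ M = ⊤ := by
    intro M hM
    rcases hmax (M.comap π) (by rw [← hcomapS, ← hSb]; exact Subgroup.comap_mono hM) with h | h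
    · left
      rw [← Subgroup.map_comap_eq_self_of_surjective hπ M, h, hSb]
    · right
      rw [← Subgroup.map_comap_eq_self_of_surjective hπ M, h, Subgroup.map_top_of_surjective π hπ]
  have A2 : ∀ R : Subgroup (G ⧸ pCore p G), R.Normal → IsPGroup p R → R = ⊥ := by
    intro R hR hRp
    rw [eq_bot_iff, ← pCore_quotient_pCore p G]
    exact le_pCore hR hRp
  have A3 : CharHyp p (Sb : Subgroup (G ⧸ pCore p G)) := by
    intro R hRS hRne hRchar g hg hgo
    have h1 : (Sb : Subgroup (G ⧸ pCore p G)) ≤ Subgroup.normalizer (R : Set (G ⧸ pCore p G)) :=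
      Subgroup.le_normalizer.trans (normalizer_le_of_characteristic hRS hRchar)
    rcases A1 _ h1 with h | h
    · have hgS : g ∈ (Sb : Subgroup (G ⧸ pCore p G)) := h ▸ hg
      obtain ⟨k, hk⟩ := Sb.2 ⟨g, hgS⟩
      have hk' : g ^ p ^ k = 1 := congrArg Subtype.val hk
      have h5 := Nat.dvd_gcd (dvd_refl (orderOf g)) (orderOf_dvd_of_pow_eq_one hk')
      rw [(Nat.Coprime.pow_right k hgo).gcd_eq_one, Nat.dvd_one, orderOf_eq_one_iff] at h5
      rw [h5]
      exact Subgroup.one_mem _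
    · exact absurd (A2 R (Subgroup.normalizer_eq_top_iff.1 h) (Sb.2.to_le hRS)) hRne
  obtain ⟨N, hNn, hNc⟩ := (Cfsg.Agent.S0071.result Sb).2
    (frob_of_charHyp_aux _ _ rfl Sb (Or.inl hp) A3)
  have hdisj : N ⊓ (Sb : Subgroup (G ⧸ pCore p G)) = ⊥ := disjoint_iff.1 hNc.disjoint
  have hpN : ¬ p ∣ Nat.card N := by
    rw [← hNc.index_eq_card]
    exact Sb.not_dvd_index
  have D : ∀ M : Subgroup (G ⧸ pCore p G), M ≤ N →
      (Sb : Subgroup (G ⧸ pCore p G)) ≤ Subgroup.normalizer (M : Set (G ⧸ pCore p G)) → M ≠ ⊥ →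
      M = N := by
    intro M hMN hSM hMne
    have htop : (Sb : Subgroup (G ⧸ pCore p G)) ⊔ M = ⊤ := by
      rcases A1 _ (le_sup_left : (Sb : Subgroup (G ⧸ pCore p G)) ≤
        (Sb : Subgroup (G ⧸ pCore p G)) ⊔ M) with h | h
      · exfalso
        apply hMne
        rw [eq_bot_iff]
        intro m hm
        have h1 : m ∈ (Sb : Subgroup (G ⧸ pCore p G)) := by
          rw [← h]
          exact (le_sup_right : M ≤ (Sb : Subgroup (G ⧸ pCore p G)) ⊔ M) hm
        rw [← hdisj]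
        exact ⟨hMN hm, h1⟩
      · exact h
    apply le_antisymm hMN
    intro n hn
    obtain ⟨s, hs, m, hm, rfl⟩ := mem_sup_of_le_normalizer hSM
      (htop ▸ Subgroup.mem_top n : n ∈ (Sb : Subgroup (G ⧸ pCore p G)) ⊔ M)
    have hsN : s ∈ N := by
      have := N.mul_mem hn (N.inv_mem (hMN hm))
      simpa using this
    have hs1 : s = 1 := by
      have h2 : s ∈ N ⊓ (Sb : Subgroup (G ⧸ pCore p G)) := ⟨hsN, hs⟩
      rwa [hdisj, Subgroup.mem_bot] at h2
    rw [hs1, one_mul]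
    exact hm
  have hNab : ∀ a ∈ N, ∀ b ∈ N, a * b = b * a := by
    by_cases hN1 : N = ⊥
    · intro a ha b hb
      rw [hN1, Subgroup.mem_bot] at ha hb
      rw [ha, hb]
    have hcardN : Nat.card N ≠ 1 := fun h => hN1 (Subgroup.card_eq_one.1 h)
    obtain ⟨q, hq, hqN⟩ := Nat.exists_prime_and_dvd hcardN
    have : Fact q.Prime := ⟨hq⟩
    obtain ⟨W, ⟨W₀, hW₀⟩, hSW⟩ := Cfsg.Agent.Lib.Helper22.exists_invariant_isSylowIn
      (Sb : Subgroup (G ⧸ pCore p G)) N Sb.2 hpN
      (by rw [Subgroup.normalizer_eq_top]; exact le_top) q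
    have hWN : W = N := by
      apply D W (hW₀ ▸ Subgroup.map_subtype_le _) hSW
      rw [← hW₀]
      intro hb
      exact W₀.ne_bot_of_dvd_card hqN
        ((Subgroup.map_eq_bot_iff_of_injective _ (Subgroup.subtype_injective _)).1 hb)
    have hNq : IsPGroup q N := by
      have h1 : IsPGroup q W := hW₀ ▸ W₀.2.map _
      exact hWN ▸ h1
    have : Nontrivial N := (Subgroup.nontrivial_iff_ne_bot _).2 hN1
    have := hNq.center_nontrivial
    obtain ⟨z, hz⟩ := exists_ne (1 : Subgroup.center ↥N)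
    have hZN : N ⊓ Subgroup.centralizer (N : Set (G ⧸ pCore p G)) = N := by
      apply D _ inf_le_left
      · rw [Subgroup.normalizer_eq_top]
        exact le_top
      · intro hb
        apply hz
        have h1 : ((z : ↥N) : G ⧸ pCore p G) ∈
            N ⊓ Subgroup.centralizer (N : Set (G ⧸ pCore p G)) := by
          refine ⟨(z : ↥N).2, ?_⟩
          show _ ∈ Subgroup.centralizer (N : Set (G ⧸ pCore p G))
          rw [Subgroup.mem_centralizer_iff]
          intro y hy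
          exact congrArg Subtype.val ((Subgroup.mem_center_iff.1 z.2) ⟨y, hy⟩)
        rw [hb, Subgroup.mem_bot] at h1
        exact Subtype.ext (Subtype.ext h1)
    intro a ha b hb
    rw [← hZN] at hb
    exact (Subgroup.mem_centralizer_iff.1 hb.2) a ha
  refine ⟨N.comap π, ⟨hQn, hNn.comap π, ?_, pCore_isPGroup p G, ?_, ?_, ?_⟩⟩
  · intro x hx
    show π x ∈ N
    rw [(hker x).2 hx]
    exact N.one_mem
  · intro a ha b hb
    rw [← hker, map_mul, map_mul, map_mul, map_inv, map_inv, hNab _ ha _ hb]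
    group
  · refine ⟨Nat.card N, ((Nat.Prime.coprime_iff_not_dvd Fact.out).2 hpN).symm, fun k hk => ?_⟩
    rw [← hker, map_pow]
    exact congrArg Subtype.val (pow_card_eq_one' (x := (⟨π k, hk⟩ : N)))
  · intro x
    have hx : π x ∈ (Sb : Subgroup (G ⧸ pCore p G)) ⊔ N := by
      rw [sup_comm, hNc.sup_eq_top]
      trivial
    obtain ⟨s, hs, n, hn, hxs⟩ := mem_sup_of_le_normalizer
      (by rw [Subgroup.normalizer_eq_top]; exact le_top) hx
    obtain ⟨k, hk⟩ := Sb.2 ⟨s, hs⟩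
    have hk' : s ^ p ^ k = 1 := congrArg Subtype.val hk
    refine ⟨k, ?_⟩
    show π (x ^ p ^ k) ∈ N
    rw [map_pow, hxs, ← QuotientGroup.eq_one_iff, QuotientGroup.mk_pow, QuotientGroup.mk_mul,
      (QuotientGroup.eq_one_iff n).2 hn, mul_one, ← QuotientGroup.mk_pow, hk', QuotientGroup.mk_one]

end Cfsg.Agent.Lib.Helper87
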