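import Cfsg.Agent.Lib.Helper87.FunctorLoc
import Cfsg.Agent.Lib.Helper11.SylowNormal
import Cfsg.Agent.Lib.Helper51.Cores

set_option autoImplicit false

/-! Functors with a quadratic element condition: `p`-th powers of `Z(P)` (helper87). -/

namespace Cfsg.Agent.Lib.Helper87

open Cfsg Cfsg.Agent.Lib.Helper84
open scoped commutatorElement

universe u

section
variable {G : Type*} [Group G]

theorem centralizer_normal_of_conj {Y : Set G} (hY : ∀ y ∈ Y, ∀ l : G, l * y * l⁻¹ ∈ Y) :
    (Subgroup.centralizer Y).Normal := by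
  constructor
  intro a ha l
  rw [Subgroup.mem_centralizer_iff] at ha ⊢
  intro y hy
  have h1 := ha _ (hY y hy l⁻¹)
  rw [inv_inv] at h1
  calc y * (l * a * l⁻¹) = l * ((l⁻¹ * y * l) * a) * l⁻¹ := by group
    _ = l * (a * (l⁻¹ * y * l)) * l⁻¹ := by rw [h1]
    _ = l * a * l⁻¹ * y := by group

theorem conj_pow_of_conj {b v w : G} (hbv : b * v * b⁻¹ = v * w) (hbw : b * w * b⁻¹ = w) (n : ℕ) :
    b ^ n * v * (b ^ n)⁻¹ = v * w ^ n := by
  induction n with
  | zero => simp
  | succ n ihn =>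
    calc b ^ (n + 1) * v * (b ^ (n + 1))⁻¹ = b * (b ^ n * v * (b ^ n)⁻¹) * b⁻¹ := by
          rw [pow_succ']; group
      _ = b * (v * w ^ n) * b⁻¹ := by rw [ihn]
      _ = (b * v * b⁻¹) * (b * w * b⁻¹) ^ n := by rw [conj_pow]; group
      _ = v * w ^ (n + 1) := by rw [hbv, hbw, pow_succ', mul_assoc]

theorem conj_eq_of_omega {p : ℕ} (V : Subgroup G) (hVab : ∀ a ∈ V, ∀ b ∈ V, a * b = b * a)
    (b : G) (hbV : ∀ v ∈ V, b * v * b⁻¹ ∈ V) {m : ℕ} (hm : b ^ m = 1) (hmp : Nat.Coprime m p)
    (hΩ : ∀ v ∈ V, v ^ p = 1 → b * v * b⁻¹ = v) :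
    ∀ k : ℕ, ∀ v ∈ V, v ^ (p ^ k) = 1 → b * v * b⁻¹ = v := by
  intro k
  induction k with
  | zero =>
    intro v _ hv
    rw [pow_zero, pow_one] at hv
    rw [hv]; simp
  | succ k ih =>
    intro v hv hvk
    have h1 : b * v ^ p * b⁻¹ = v ^ p :=
      ih _ (V.pow_mem hv p) (by rw [← pow_mul, ← pow_succ']; exact hvk)
    obtain ⟨w, hw⟩ : ∃ w, w = v⁻¹ * (b * v * b⁻¹) := ⟨_, rfl⟩
    have hwV : w ∈ V := hw ▸ V.mul_mem (V.inv_mem hv) (hbV v hv)
    have hwp : w ^ p = 1 := by
      have hc : Commute v⁻¹ (b * v * b⁻¹) := hVab _ (V.inv_mem hv) _ (hbV v hv)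
      rw [hw, hc.mul_pow, conj_pow, h1, inv_pow, inv_mul_cancel]
    have hbw : b * w * b⁻¹ = w := hΩ w hwV hwp
    have hbv : b * v * b⁻¹ = v * w := by rw [hw]; group
    have h2 := conj_pow_of_conj hbv hbw m
    rw [hm] at h2
    have hwm : w ^ m = 1 := by simpa using h2.symm
    have hw1 : w = 1 := by
      rw [← orderOf_eq_one_iff]
      have := Nat.dvd_gcd (orderOf_dvd_of_pow_eq_one hwm) (orderOf_dvd_of_pow_eq_one hwp)
      rw [hmp] at this
      exact Nat.dvd_one.1 this
    rw [hbv, hw1, mul_one]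

theorem quad_pow {A : Subgroup G} (hAab : ∀ a ∈ A, ∀ b ∈ A, a * b = b * a)
    (hAn : ∀ a ∈ A, ∀ l : G, l * a * l⁻¹ ∈ A) {g : G}
    (hq : ⁅⁅A, Subgroup.zpowers g⁆, Subgroup.zpowers g⁆ = ⊥) (n : ℕ) {v : G} (hv : v ∈ A) :
    g ^ n * v * (g ^ n)⁻¹ = v * ((v ^ n)⁻¹ * (g * v ^ n * g⁻¹)) := by
  obtain ⟨d, hd⟩ : ∃ d, d = v⁻¹ * (g * v * g⁻¹) := ⟨_, rfl⟩
  have hd1 : d = ⁅v⁻¹, g⁆ := by
    rw [hd, commutatorElement_def]; group
  have hd2 : d ∈ ⁅A, Subgroup.zpowers g⁆ :=
    hd1 ▸ Subgroup.commutator_mem_commutator (A.inv_mem hv) (Subgroup.mem_zpowers g)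
  have hd3 : ⁅d, g⁆ = 1 := by
    have := Subgroup.commutator_mem_commutator hd2 (Subgroup.mem_zpowers g)
    rw [hq] at this
    exact Subgroup.mem_bot.1 this
  have hd4 : Commute d g := commutatorElement_eq_one_iff_commute.1 hd3
  have hgd : g * d * g⁻¹ = d := by rw [← hd4.eq, mul_inv_cancel_right]
  have hgv : g * v * g⁻¹ = v * d := by rw [hd]; group
  rw [conj_pow_of_conj hgv hgd n]
  have hc : Commute v⁻¹ (g * v * g⁻¹) := hAab _ (A.inv_mem hv) _ (hAn v hv g)
  rw [hd, hc.mul_pow, conj_pow, inv_pow]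

theorem coe_mem_normalizer_map {M : Subgroup G} {B : Subgroup M} {g : M}
    (hg : g ∈ Subgroup.normalizer (B : Set M)) :
    (g : G) ∈ Subgroup.normalizer ((B.map M.subtype : Subgroup G) : Set G) := by
  apply mem_normalizer_of_conj_mem
  · rintro _ ⟨b, hb, rfl⟩
    exact ⟨g * b * g⁻¹, conj_mem_of_mem_normalizer hg hb, rfl⟩
  · rintro _ ⟨b, hb, rfl⟩
    exact ⟨g⁻¹ * b * g, inv_conj_mem_of_mem_normalizer hg hb, rfl⟩

end

theorem groupHyp_of_quadratic {p : ℕ} [Fact p.Prime] (W : ∀ (Q : Type u) [Group Q], Subgroup Q)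
    (hW2 : ∀ (Q R : Type u) [Group Q] [Group R] [Finite Q], IsPGroup p Q → ∀ φ : Q ≃* R,
      (W Q).map φ.toMonoidHom = W R)
    (hq : ∀ (G : Type u) [Group G] [Finite G] (P : Sylow p G),
      ¬ (((W ↥(P : Subgroup G)).map (P : Subgroup G).subtype : Subgroup G)).Normal →
      ∃ g : G, g ∈ (P : Subgroup G) ∧ g ∉ Cfsg.pCore p G ∧
        ⁅⁅Subgroup.center ↥(Cfsg.pCore p G) |>.map (Cfsg.pCore p G).subtype, Subgroup.zpowers g⁆,
          Subgroup.zpowers g⁆ = ⊥) :
    GroupHyp p p W := by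
  have hp : p.Prime := Fact.out
  have main : ∀ n : ℕ, ∀ (L : Type u) [Group L] [Finite L], Nat.card L = n → ∀ (P : Sylow p L),
      Subgroup.centralizer ((pCore p L : Subgroup L) : Set L) ≤ pCore p L →
      ∀ z ∈ (P : Subgroup L), (∀ s ∈ (P : Subgroup L), s * z = z * s) →
      (∀ g ∈ Subgroup.normalizer
        (((W ↥(P : Subgroup L)).map (P : Subgroup L).subtype : Subgroup L) : Set L),
          g * z ^ p = z ^ p * g) →
      ∀ g : L, g * z ^ p = z ^ p * g := by
    intro n
    induction n using Nat.strong_induction_on with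
    | _ n ih =>
      intro L _ _ hn P hCL z hz hzZ hnorm
      by_cases hWn : ((W ↥(P : Subgroup L)).map (P : Subgroup L).subtype).Normal
      · intro g
        exact hnorm g (by rw [Subgroup.normalizer_eq_top]; trivial)
      obtain ⟨g, hgP, hgU, hquad⟩ := hq L P hWn
      have hUP : pCore p L ≤ P := Cfsg.Agent.Lib.Lead.pCore_le_sylow P
      have hUn : (pCore p L).Normal := Cfsg.Agent.Lib.Lead.pCore_normal' p L
      obtain ⟨A, hAdef⟩ : ∃ A, A = (Subgroup.center ↥(pCore p L)).map (pCore p L).subtype :=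
        ⟨_, rfl⟩
      rw [← hAdef] at hquad
      have hA : ∀ a, a ∈ A ↔ a ∈ pCore p L ∧ ∀ u ∈ pCore p L, u * a = a * u := by
        intro a
        rw [hAdef]
        constructor
        · rintro ⟨a', ha', rfl⟩
          refine ⟨a'.2, fun u hu => ?_⟩
          exact congrArg Subtype.val (Subgroup.mem_center_iff.1 ha' ⟨u, hu⟩)
        · rintro ⟨h1, h2⟩
          refine ⟨⟨a, h1⟩, ?_, rfl⟩
          rw [SetLike.mem_coe, Subgroup.mem_center_iff]
          intro u
          exact Subtype.ext (h2 u u.2)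
      have hAab : ∀ a ∈ A, ∀ b ∈ A, a * b = b * a := fun a ha b hb =>
        ((hA b).1 hb).2 a ((hA a).1 ha).1
      have hAn : ∀ a ∈ A, ∀ l : L, l * a * l⁻¹ ∈ A := by
        intro a ha l
        obtain ⟨h1, h2⟩ := (hA a).1 ha
        refine (hA _).2 ⟨hUn.conj_mem a h1 l, fun u hu => ?_⟩
        have h3 := h2 (l⁻¹ * u * l) (by simpa using hUn.conj_mem u hu l⁻¹)
        calc u * (l * a * l⁻¹) = l * ((l⁻¹ * u * l) * a) * l⁻¹ := by group
          _ = l * (a * (l⁻¹ * u * l)) * l⁻¹ := by rw [h3]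
          _ = l * a * l⁻¹ * u := by group
      have hAp : ∀ a ∈ A, ∃ k : ℕ, a ^ (p ^ k) = 1 := by
        intro a ha
        obtain ⟨k, hk⟩ := Cfsg.Agent.Lib.Lead.pCore_isPGroup p L ⟨a, ((hA a).1 ha).1⟩
        exact ⟨k, congrArg Subtype.val hk⟩
      have hzA : z ∈ A := by
        refine (hA z).2 ⟨hCL ?_, fun u hu => hzZ u (hUP hu)⟩
        rw [Subgroup.mem_centralizer_iff]
        exact fun u hu => hzZ u (hUP hu)
      -- the subgroups `C ≤ K`
      have hCn : (Subgroup.centralizer (A : Set L)).Normal := centralizer_normal_of_conj hAn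
      have hKn : (Subgroup.centralizer {v : L | v ∈ A ∧ v ^ p = 1}).Normal := by
        apply centralizer_normal_of_conj
        rintro y ⟨hy1, hy2⟩ l
        exact ⟨hAn y hy1 l, by rw [conj_pow, hy2]; simp⟩
      have hKC : ∀ a ∈ Subgroup.centralizer {v : L | v ∈ A ∧ v ^ p = 1},
          ∃ k : ℕ, a ^ (p ^ k) ∈ Subgroup.centralizer (A : Set L) := by
        intro a ha
        obtain ⟨e, m, hm1, hm2⟩ := Nat.exists_eq_pow_mul_and_not_dvd (orderOf_pos a).ne' p hp.ne_one
        refine ⟨e, ?_⟩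
        have hb1 : (a ^ (p ^ e)) ^ m = 1 := by
          rw [← pow_mul, ← hm2, pow_orderOf_eq_one]
        have hb2 := Subgroup.pow_mem _ ha (p ^ e)
        have hco : Nat.Coprime m p := ((Nat.Prime.coprime_iff_not_dvd hp).2 hm1).symm
        rw [Subgroup.mem_centralizer_iff]
        intro v hv
        obtain ⟨k, hk⟩ := hAp v hv
        have := conj_eq_of_omega A hAab (a ^ (p ^ e)) (fun v hv => hAn v hv _) hb1 hco
          (fun v hv hvp => by
            have := (Subgroup.mem_centralizer_iff.1 hb2) v ⟨hv, hvp⟩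
            rw [← this, mul_inv_cancel_right]) k v hv hk
        rw [mul_inv_eq_iff_eq_mul] at this
        exact this.symm
      have hKz : ∀ a ∈ Subgroup.centralizer {v : L | v ∈ A ∧ v ^ p = 1}, a * z = z * a := by
        intro a ha
        have h1 : (QuotientGroup.mk a : L ⧸ Subgroup.centralizer (A : Set L)) ∈
            pCore p (L ⧸ Subgroup.centralizer (A : Set L)) := by
          have h2 : (Subgroup.centralizer {v : L | v ∈ A ∧ v ^ p = 1}).map
              (QuotientGroup.mk' (Subgroup.centralizer (A : Set L))) ≤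
              pCore p (L ⧸ Subgroup.centralizer (A : Set L)) := by
            apply Cfsg.Agent.Lib.Lead.le_pCore
              (hKn.map _ (QuotientGroup.mk'_surjective _))
            rintro ⟨_, b, hb, rfl⟩
            obtain ⟨k, hk⟩ := hKC b hb
            refine ⟨k, Subtype.ext ?_⟩
            show (QuotientGroup.mk' _ b) ^ (p ^ k) = 1
            rw [← map_pow]
            exact (QuotientGroup.eq_one_iff _).2 hk
          exact h2 ⟨a, ha, rfl⟩
        obtain ⟨s, hs, c, hc, rfl⟩ :=
          Cfsg.Agent.Lib.Helper51.exists_mul_of_mk_mem_pCore _ P a h1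
        have h3 := (Subgroup.mem_centralizer_iff.1 hc) z hzA
        rw [mul_assoc, ← h3, ← mul_assoc, hzZ s hs, mul_assoc]
      have hgK : g ^ p ∈ Subgroup.centralizer {v : L | v ∈ A ∧ v ^ p = 1} := by
        rw [Subgroup.mem_centralizer_iff]
        rintro v ⟨hv, hvp⟩
        have := quad_pow hAab hAn hquad p hv
        rw [hvp] at this
        simp only [inv_one, mul_one, mul_inv_cancel] at this
        rw [mul_inv_eq_iff_eq_mul] at this
        exact this.symm
      -- `H`
      have hHn : (Subgroup.centralizer {y : L | ∃ l : L, y = l * z ^ p * l⁻¹}).Normal := by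
        apply centralizer_normal_of_conj
        rintro _ ⟨l, rfl⟩ l'
        exact ⟨l' * l, by group⟩
      have hgH : g ∈ Subgroup.centralizer {y : L | ∃ l : L, y = l * z ^ p * l⁻¹} := by
        rw [Subgroup.mem_centralizer_iff]
        rintro _ ⟨l, rfl⟩
        have h1 := hKz _ (hKn.conj_mem _ hgK l⁻¹)
        rw [inv_inv] at h1
        have h2 : g ^ p * (l * z * l⁻¹) * (g ^ p)⁻¹ = l * z * l⁻¹ := by
          calc g ^ p * (l * z * l⁻¹) * (g ^ p)⁻¹
              = l * ((l⁻¹ * g ^ p * l) * z) * l⁻¹ * (g ^ p)⁻¹ := by group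
            _ = l * (z * (l⁻¹ * g ^ p * l)) * l⁻¹ * (g ^ p)⁻¹ := by rw [h1]
            _ = l * z * l⁻¹ := by group
        have h3 := quad_pow hAab hAn hquad p (hAn z hzA l)
        rw [h2] at h3
        have h4 : ((l * z * l⁻¹) ^ p)⁻¹ * (g * (l * z * l⁻¹) ^ p * g⁻¹) = 1 :=
          (mul_eq_left.1 h3.symm)
        rw [inv_mul_eq_one, conj_pow] at h4
        rw [eq_mul_inv_iff_mul_eq] at h4
        exact h4
      obtain ⟨H, hHdef⟩ : ∃ H, H = Subgroup.centralizer {y : L | ∃ l : L, y = l * z ^ p * l⁻¹} :=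
        ⟨_, rfl⟩
      rw [← hHdef] at hHn hgH
      have hfrat := Cfsg.Agent.Lib.Helper11.normalizer_sylow_inf_sup_eq_top P H
      obtain ⟨M, hMdef⟩ : ∃ M, M = Subgroup.normalizer (((P : Subgroup L) ⊓ H : Subgroup L) : Set L) :=
        ⟨_, rfl⟩
      rw [← hMdef] at hfrat
      have hPM : (P : Subgroup L) ≤ M := by
        have key : ∀ s ∈ (P : Subgroup L), ∀ y ∈ (P : Subgroup L) ⊓ H,
            s * y * s⁻¹ ∈ (P : Subgroup L) ⊓ H := fun s hs y hy =>
          ⟨Subgroup.mul_mem _ (Subgroup.mul_mem _ hs hy.1) (Subgroup.inv_mem _ hs),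
            hHn.conj_mem y hy.2 s⟩
        intro s hs
        rw [hMdef]
        apply mem_normalizer_of_conj_mem (key s hs)
        intro y hy
        simpa using key s⁻¹ (Subgroup.inv_mem _ hs) y hy
      have hMlt : Nat.card M < n := by
        by_contra hcon
        have hMtop : M = ⊤ := Subgroup.eq_top_of_le_card M (by omega)
        have hnor : ((P : Subgroup L) ⊓ H).Normal := by
          rw [← Subgroup.normalizer_eq_top_iff, ← hMdef, hMtop]
        exact hgU (Cfsg.Agent.Lib.Lead.le_pCore hnor (P.2.to_le inf_le_left) ⟨hgP, hgH⟩)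
      have hUM : pCore p L ≤ M := hUP.trans hPM
      have hU' : (pCore p L).subgroupOf M ≤ pCore p M :=
        Cfsg.Agent.Lib.Lead.le_pCore inferInstance
          ((Cfsg.Agent.Lib.Lead.pCore_isPGroup p L).comap_of_injective _ M.subtype_injective)
      have hCM : Subgroup.centralizer ((pCore p M : Subgroup M) : Set M) ≤ pCore p M := by
        intro c hc
        apply hU'
        show (c : L) ∈ pCore p L
        apply hCL
        rw [Subgroup.mem_centralizer_iff]
        intro u hu
        have := (Subgroup.mem_centralizer_iff.1 hc) ⟨u, hUM hu⟩ (hU' hu)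
        exact congrArg Subtype.val this
      have hWM : (W ↥(P : Subgroup L)).map (P : Subgroup L).subtype =
          ((W ↥((P.subtype hPM : Sylow p M) : Subgroup M)).map
            ((P.subtype hPM : Sylow p M) : Subgroup M).subtype).map M.subtype := by
        rw [Subgroup.map_map]
        apply functor_map_injective W hW2 (P.subtype hPM).2
        · exact M.subtype_injective.comp (Subgroup.subtype_injective _)
        · rw [MonoidHom.range_comp, Subgroup.range_subtype, Sylow.coe_subtype,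
            Subgroup.subgroupOf_map_subtype, inf_eq_left.2 hPM]
      have hres := ih (Nat.card M) hMlt M rfl (P.subtype hPM) hCM ⟨z, hPM hz⟩ hz
        (fun s hs => Subtype.ext (hzZ s hs))
        (fun g' hg' => by
          have h1 := coe_mem_normalizer_map hg'
          rw [← hWM] at h1
          exact Subtype.ext (hnorm g' h1))
      have hfin : (⊤ : Subgroup L) ≤ Subgroup.centralizer {z ^ p} := by
        rw [← hfrat]
        apply sup_le
        · intro m hm
          rw [Subgroup.mem_centralizer_singleton_iff]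
          exact congrArg Subtype.val (hres ⟨m, hm⟩)
        · intro h hh
          rw [Subgroup.mem_centralizer_singleton_iff]
          rw [hHdef] at hh
          exact ((Subgroup.mem_centralizer_iff.1 hh) (z ^ p) ⟨1, by simp⟩).symm
      intro l
      exact Subgroup.mem_centralizer_singleton_iff.1 (hfin (Subgroup.mem_top l))
  intro L _ _ P
  exact main _ L rfl P

end Cfsg.Agent.Lib.Helper87
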