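import Cfsg.Agent.Lib.Helper87.ClimbP
import Cfsg.Agent.Lib.Helper87.GenExtra3
import Cfsg.Agent.Lib.Helper85.FusNormal

set_option autoImplicit false

/-! Sparse fusion systems are constrained (`p` odd or `S₄`-free) (helper87). -/

namespace Cfsg.Agent.Lib.Helper87

open Cfsg Cfsg.FusionSystem Cfsg.Agent.Lib.Helper84

universe u

theorem pow_eq_one_of_restrict {Ω : Type*} [Group Ω] {R Q : Subgroup Ω} (hRQ : R ≤ Q)
    (α : MulAut R) (β : MulAut Q)
    (h : ∀ x : R, β (Subgroup.inclusion hRQ x) = Subgroup.inclusion hRQ (α x)) {n : ℕ}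
    (hβ : β ^ n = 1) : α ^ n = 1 := by
  have hpow : ∀ n : ℕ, ∀ x : R, (β ^ n) (Subgroup.inclusion hRQ x) =
      Subgroup.inclusion hRQ ((α ^ n) x) := by
    intro n
    induction n with
    | zero => intro x; simp
    | succ n ih =>
      intro x
      rw [pow_succ', pow_succ', MulAut.mul_apply, MulAut.mul_apply, ih, h]
  ext x
  have h1 := hpow n x
  rw [hβ] at h1
  exact (congrArg (fun y : Q => (y : Ω)) h1).symm

variable {Ω : Type u} [Group Ω] {S : Subgroup Ω} [Finite S] {p : ℕ} [Fact p.Prime]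

/-- In a sparse system a characteristic subgroup of `S` is normal in the system or has a `p`-group as automizer. -/
theorem sparse_dichotomy (hS : IsPGroup p S) (F : FusionSystem S) (hF : F.IsSaturated p)
    (hsp : ∀ E : FusionSystem S, E.IsSaturated p → E.IsSubsystemOf F →
      (∀ P : Subgroup Ω, E.Hom P = F.Hom P) ∨
      (∀ P : Subgroup Ω, E.Hom P = (innerFusionSystem S).Hom P))
    {R : Subgroup Ω} (hRS : R ≤ S) (hRchar : (R.subgroupOf S).Characteristic) :
    F.IsNormal R ∨ IsPGroup p (F.autGroup R) := by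
  have hSN : S ≤ Subgroup.normalizer (R : Set Ω) :=
    Subgroup.le_normalizer.trans (normalizer_le_of_characteristic hRS hRchar)
  have hfn := fullyNormalized_of_normal F hRS hSN
  have hNS : normalizerIn S R = S := inf_eq_left.2 hSN
  obtain ⟨E, hE⟩ := Cfsg.Agent.S5096.result F R hRS
  have hsat := normalizerSystem_saturated hS hF hfn E hE
  have hsub := Cfsg.Agent.Lib.Helper88.normalizerSystem_subsystem hE
  have gen : ∀ (T : Subgroup Ω) (_ : T = S) (E : FusionSystem T), E.IsSaturated p →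
      E.IsSubsystemOf F → (∀ P : Subgroup Ω, E.Hom P = F.Hom P) ∨
      (∀ P : Subgroup Ω, E.Hom P = (innerFusionSystem S).Hom P) := by
    intro T hT
    subst hT
    exact hsp
  rcases gen _ hNS E hsat hsub with h | h
  · left
    have hn := normal_normalizerSystem hRS hE
    refine ⟨hRS, fun P φ hφ => ?_⟩
    rw [← h] at hφ
    obtain ⟨ψ, hψ, h1, h2⟩ := hn.2 P φ hφ
    exact ⟨ψ, by rw [← h]; exact hψ, h1, h2⟩
  · right
    rintro ⟨α, hα⟩
    have hαE := Cfsg.Agent.Lib.Helper88.mem_autGroup_normalizerSystem hE le_rfl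
      (le_normalizerIn hRS) hα (fun x _ => (α x).2)
    rw [mem_autGroup_iff _ (le_normalizerIn hRS)] at hαE
    unfold Mor at hαE
    rw [h] at hαE
    obtain ⟨-, g, hg, hg'⟩ := hαE
    have hαS : α ∈ autInducedBy S R := (mem_autInducedBy_iff S R α).2 ⟨g, hg, hg'⟩
    obtain ⟨k, hk⟩ := isPGroup_autInducedBy hS R ⟨α, hαS⟩
    have hk' : α ^ p ^ k = 1 := congrArg Subtype.val hk
    exact ⟨k, Subtype.ext hk'⟩

theorem constrained_of_sparse (hS : IsPGroup p S) (F : FusionSystem S) (hF : F.IsSaturated p)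
    (hne : F ≠ innerFusionSystem S)
    (hsp : ∀ E : FusionSystem S, E.IsSaturated p → E.IsSubsystemOf F →
      (∀ P : Subgroup Ω, E.Hom P = F.Hom P) ∨
      (∀ P : Subgroup Ω, E.Hom P = (innerFusionSystem S).Hom P))
    (hp : p ≠ 2 ∨ F.IsSectionFree p (Equiv.Perm (Fin 4))) : F.IsConstrained p := by
  have hQ := Cfsg.Agent.Lib.Helper85.sSup_mem_of_finite (S := S)
    (fun R => R ≤ S ∧ (R.subgroupOf S).Characteristic ∧ F.IsNormal R) (fun _ h => h.1)
    ⟨bot_le, by rw [Subgroup.bot_subgroupOf]; infer_instance,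
      Cfsg.Agent.Lib.Helper85.isNormal_bot F⟩
    (fun Q R hQ hR => ⟨sup_le hQ.1 hR.1, by
      rw [Subgroup.subgroupOf_sup hQ.1 hR.1]
      have := hQ.2.1
      have := hR.2.1
      infer_instance, Cfsg.Agent.Lib.Helper85.isNormal_sup F hQ.2.2 hR.2.2⟩)
  obtain ⟨Q, hQdef⟩ : ∃ Q, Q = sSup {R : Subgroup Ω | R ≤ S ∧ (R.subgroupOf S).Characteristic ∧
    F.IsNormal R} := ⟨_, rfl⟩
  rw [← hQdef] at hQ
  have hmax : ∀ R : Subgroup Ω, R ≤ S → (R.subgroupOf S).Characteristic → F.IsNormal R → R ≤ Q :=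
    fun R h1 h2 h3 => hQdef ▸ le_sSup ⟨h1, h2, h3⟩
  obtain ⟨hQS, hQchar, hQn⟩ := hQ
  have hR₀S : Q ⊔ centralizerIn S Q ≤ S := sup_le hQS (centralizerIn_le S Q)
  have hR₀char : ((Q ⊔ centralizerIn S Q).subgroupOf S).Characteristic := by
    rw [Subgroup.subgroupOf_sup hQS (centralizerIn_le S Q)]
    have h1 : (centralizerIn S Q).subgroupOf S =
        Subgroup.centralizer ((Q.subgroupOf S : Subgroup S) : Set S) := by
      ext x
      rw [Subgroup.mem_subgroupOf, Subgroup.mem_centralizer_iff]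
      constructor
      · rintro ⟨-, h⟩ y hy
        exact Subtype.ext ((Subgroup.mem_centralizer_iff.1 h) y hy)
      · intro h
        refine ⟨x.2, ?_⟩
        show (x : Ω) ∈ Subgroup.centralizer _
        rw [Subgroup.mem_centralizer_iff]
        intro y hy
        exact congrArg Subtype.val (h ⟨y, hQS hy⟩ hy)
    rw [h1]
    infer_instance
  rcases sparse_dichotomy hS F hF hsp hR₀S hR₀char with h | h
  · have hle := hmax _ hR₀S hR₀char h
    refine ⟨hF, Q, hQn, hQS, fun Q' hQ' => ?_⟩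
    rw [isConj_eq_of_normal hQn hQ']
    exact le_sup_right.trans hle
  · exfalso
    apply hne
    apply eq_inner_of_characteristic hS F hF hp
    intro R hRS hRne hRchar
    rcases sparse_dichotomy hS F hF hsp hRS hRchar with h' | h'
    · have hRQ := hmax R hRS hRchar h'
      have hQfn := fullyNormalized_of_normal F hQS
        (Subgroup.le_normalizer.trans (normalizer_le_of_characteristic hQS hQchar))
      have hQp : IsPGroup p (F.autGroup Q) :=
        isPGroup_autGroup_of_sup (sat_fullyNormalized hS hF hQfn).2.2 h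
      rintro ⟨α, hα⟩
      have hαF := (mem_autGroup_iff F hRS α).1 hα
      obtain ⟨ψ, hψ, h1, h2⟩ := hQn.2 R _ hαF
      have hψ' : ψ.comp (Subgroup.inclusion (le_sup_right : Q ≤ R ⊔ Q)) ∈ F.Hom Q :=
        restrict_mem F hψ _
      have hrange : (ψ.comp (Subgroup.inclusion (le_sup_right : Q ≤ R ⊔ Q))).range = Q := by
        refine Eq.trans ?_ h2
        ext y
        constructor
        · rintro ⟨x, rfl⟩
          exact ⟨Subgroup.inclusion le_sup_right x, x.2, rfl⟩
        · rintro ⟨x, hx, rfl⟩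
          exact ⟨⟨x, hx⟩, rfl⟩
      have hβ := (mem_autGroup_iff F hQS _).2 (mor_equivOfRange F hψ' hrange)
      obtain ⟨k, hk⟩ := hQp ⟨_, hβ⟩
      refine ⟨k, Subtype.ext ?_⟩
      apply pow_eq_one_of_restrict hRQ α _ _ (congrArg Subtype.val hk)
      intro x
      apply Subtype.ext
      exact h1 x
    · exact h'

end Cfsg.Agent.Lib.Helper87
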