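import Mathlib
import Cfsg.Agent.Lib.Helper84.ChainStab
import Cfsg.Agent.Lib.Helper88.CoprimeSmall

set_option autoImplicit false

/-! Pairs of "transvections" on an abelian `p`-group (helper87).

`t : MulAut E` is a transvection (`IsTv p t`) when `[E,t] = {x⁻¹ t(x)}` has order `p` and is fixed
pointwise by `t`.  Two transvections which do not generate a `p`-group generate a copy of `SL₂(p)`
acting on `E = W × D`, `W = [E,t][E,u]` of order `p²`, `D = C_E(t) ∩ C_E(u)`.  We obtain, without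
matrices, the facts about `SL₂(p)` needed in fusion system arguments. -/

namespace Cfsg.Agent.Lib.Helper87

open Cfsg.Agent.Lib.Helper84 Cfsg.Agent.Lib.Helper88

variable {E : Type*} [CommGroup E]

/-- The endomorphism `x ↦ x⁻¹ t(x)`. -/
def cm (t : MulAut E) : E →* E where
  toFun x := x⁻¹ * t x
  map_one' := by simp
  map_mul' x y := by
    rw [map_mul, mul_inv]
    exact mul_mul_mul_comm _ _ _ _

theorem cm_apply (t : MulAut E) (x : E) : cm t x = x⁻¹ * t x := rfl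

theorem apply_eq_mul_cm (t : MulAut E) (x : E) : t x = x * cm t x := by
  rw [cm_apply, mul_inv_cancel_left]

theorem cm_eq_one_iff (t : MulAut E) (x : E) : cm t x = 1 ↔ t x = x := by
  rw [cm_apply, inv_mul_eq_one, eq_comm]

theorem pow_eq_of_modEq {e : E} {p a b : ℕ} (h : e ^ p = 1) (hab : a ≡ b [MOD p]) :
    e ^ a = e ^ b := by
  have key : ∀ n : ℕ, e ^ n = e ^ (n % p) := by
    intro n
    conv_lhs => rw [← Nat.mod_add_div n p, pow_add, pow_mul, h, one_pow, mul_one]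
  rw [key a, key b, hab]

theorem pow_eq_one_of_dvd {e : E} {p a : ℕ} (h : e ^ p = 1) (ha : p ∣ a) : e ^ a = 1 := by
  obtain ⟨k, rfl⟩ := ha
  rw [pow_mul, h, one_pow]

theorem dvd_of_pow_eq_one {e : E} {p a : ℕ} (hp : p.Prime) (h : e ^ p = 1) (he : e ≠ 1)
    (ha : e ^ a = 1) : p ∣ a := by
  have h1 : orderOf e = p := by
    rcases (Nat.dvd_prime hp).1 (orderOf_dvd_of_pow_eq_one h) with h2 | h2
    · exact absurd (orderOf_eq_one_iff.1 h2) he
    · exact h2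
  rw [← h1]
  exact orderOf_dvd_of_pow_eq_one ha

/-- `t` is a transvection: `[E,t]` has order `p` and is centralized by `t`. -/
structure IsTv (p : ℕ) (t : MulAut E) : Prop where
  card : Nat.card (cm t).range = p
  quad : ∀ x, t (cm t x) = cm t x

namespace IsTv

variable {p : ℕ} {t : MulAut E}

theorem fix_of_mem (h : IsTv p t) {y : E} (hy : y ∈ (cm t).range) : t y = y := by
  obtain ⟨x, rfl⟩ := hy
  exact h.quad x

theorem pow_apply (h : IsTv p t) (j : ℕ) (x : E) : (t ^ j) x = x * (cm t x) ^ j :=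
  twist_nc t (apply_eq_mul_cm t x) (h.quad x) j

theorem inv_apply (h : IsTv p t) (x : E) : t⁻¹ x = x * (cm t x)⁻¹ := by
  apply t.injective
  rw [MulAut.apply_inv_self, map_mul, map_inv, h.quad, apply_eq_mul_cm t x, mul_inv_cancel_right]

theorem pow_p_of_mem (h : IsTv p t) {y : E} (hy : y ∈ (cm t).range) : y ^ p = 1 := by
  have := pow_card_eq_one' (G := (cm t).range) (x := ⟨y, hy⟩)
  rw [h.card] at this
  exact congrArg (fun z : (cm t).range => (z : E)) this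

theorem exists_pow_eq [hp : Fact p.Prime] (h : IsTv p t) {y z : E} (hy : y ∈ (cm t).range)
    (hy1 : y ≠ 1) (hz : z ∈ (cm t).range) : ∃ k : ℕ, y ^ k = z := by
  have hne : (⟨y, hy⟩ : (cm t).range) ≠ 1 := fun hh => hy1 (congrArg Subtype.val hh)
  obtain ⟨k, hk⟩ := mem_powers_of_prime_card h.card hne (g' := ⟨z, hz⟩)
  exact ⟨k, congrArg (fun z : (cm t).range => (z : E)) hk⟩

theorem exists_ne_one [hp : Fact p.Prime] (h : IsTv p t) : ∃ y ∈ (cm t).range, y ≠ 1 := by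
  by_contra hcon
  push Not at hcon
  have : (cm t).range = ⊥ := by
    rw [eq_bot_iff]
    intro y hy
    exact Subgroup.mem_bot.2 (hcon y hy)
  have h1 := h.card
  rw [this, Subgroup.card_bot] at h1
  exact hp.out.one_lt.ne h1

theorem cm_conj (g t : MulAut E) (x : E) : cm (g * t * g⁻¹) x = g (cm t (g⁻¹ x)) := by
  simp only [cm_apply, MulAut.mul_apply, map_mul, map_inv, MulAut.apply_inv_self]

theorem range_conj (g t : MulAut E) :
    (cm (g * t * g⁻¹)).range = (cm t).range.map g.toMonoidHom := by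
  ext y
  constructor
  · rintro ⟨x, rfl⟩
    exact ⟨cm t (g⁻¹ x), ⟨_, rfl⟩, (cm_conj g t x).symm⟩
  · rintro ⟨_, ⟨x, rfl⟩, rfl⟩
    refine ⟨g x, ?_⟩
    rw [cm_conj, MulAut.inv_apply_self]
    rfl

theorem conj (h : IsTv p t) (g : MulAut E) : IsTv p (g * t * g⁻¹) := by
  constructor
  · rw [range_conj, Subgroup.card_map_of_injective g.injective, h.card]
  · intro x
    rw [cm_conj, MulAut.mul_apply, MulAut.mul_apply, MulAut.inv_apply_self, h.quad]

theorem cm_pow (h : IsTv p t) (i : ℕ) (x : E) : cm (t ^ i) x = (cm t x) ^ i := by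
  rw [cm_apply, h.pow_apply, inv_mul_cancel_left]

theorem range_pow [hp : Fact p.Prime] (h : IsTv p t) {i : ℕ} (hi : ¬ p ∣ i) :
    (cm (t ^ i)).range = (cm t).range := by
  apply le_antisymm
  · rintro _ ⟨x, rfl⟩
    rw [h.cm_pow]
    exact Subgroup.pow_mem _ (MonoidHom.mem_range.2 ⟨x, rfl⟩) _
  · rintro _ ⟨x, rfl⟩
    have hc : Nat.Coprime i p := ((Nat.Prime.coprime_iff_not_dvd hp.out).2 hi).symm
    obtain ⟨m, -, hm⟩ := Nat.exists_mul_mod_eq_one_of_coprime hc hp.out.one_lt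
    refine ⟨x ^ m, ?_⟩
    rw [h.cm_pow, map_pow, ← pow_mul]
    have h1 : (cm t x) ^ (m * i) = (cm t x) ^ 1 := by
      apply pow_eq_of_modEq (h.pow_p_of_mem ⟨x, rfl⟩)
      show m * i % p = 1 % p
      rw [mul_comm, hm, Nat.mod_eq_of_lt hp.out.one_lt]
    rw [h1, pow_one]

theorem pow [hp : Fact p.Prime] (h : IsTv p t) {i : ℕ} (hi : ¬ p ∣ i) : IsTv p (t ^ i) := by
  constructor
  · rw [h.range_pow hi, h.card]
  · intro x
    rw [h.cm_pow, h.pow_apply, map_pow]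
    have : cm t (cm t x) = 1 := (cm_eq_one_iff _ _).2 (h.quad x)
    rw [this, one_pow, one_pow, mul_one]

theorem pow_p (h : IsTv p t) : t ^ p = 1 := by
  ext x
  rw [h.pow_apply, h.pow_p_of_mem ⟨x, rfl⟩, mul_one, MulAut.one_apply]

theorem ne_one [hp : Fact p.Prime] (h : IsTv p t) : t ≠ 1 := by
  rintro rfl
  obtain ⟨y, ⟨x, rfl⟩, hy⟩ := h.exists_ne_one
  apply hy
  rw [cm_apply, MulAut.one_apply, inv_mul_cancel]

end IsTv

/-- `IsTv` phrased for a group that is not bundled as commutative. -/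
def IsTvG {E' : Type*} [Group E'] (p : ℕ) (t : MulAut E') : Prop :=
  (∃ C : Subgroup E', (∀ x, x ∈ C ↔ t x = x) ∧ C.index = p) ∧
    ∀ x, t (x⁻¹ * t x) = x⁻¹ * t x

theorem isTv_iff_isTvG {p : ℕ} {t : MulAut E} : IsTv p t ↔ IsTvG p t := by
  constructor
  · intro h
    refine ⟨⟨(cm t).ker, fun x => cm_eq_one_iff t x, ?_⟩, h.quad⟩
    rw [Subgroup.index_ker, h.card]
  · rintro ⟨⟨C, hC, hCi⟩, hq⟩
    refine ⟨?_, hq⟩
    have : C = (cm t).ker := by
      ext x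
      rw [hC, MonoidHom.mem_ker, cm_eq_one_iff]
    rw [← Subgroup.index_ker, ← this, hCi]

section pair

variable {p : ℕ} [hp : Fact p.Prime]

/-- The chain `⊥ ≤ A ≤ B ≤ ⊤`. -/
def chain3 (A B : Subgroup E) : ℕ → Subgroup E
  | 0 => ⊥
  | 1 => A
  | 2 => B
  | _ => ⊤

theorem chain3_mono {A B : Subgroup E} (h : A ≤ B) : Monotone (chain3 A B) := by
  apply monotone_nat_of_le_succ
  intro n
  match n with
  | 0 => exact bot_le
  | 1 => exact h
  | 2 => exact le_top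
  | (k + 3) => exact le_rfl

theorem IsTv.mem_chainStab {α : MulAut E} (hα : IsTv p α) {A B : Subgroup E} (h : A ≤ B)
    (ha : ∀ y ∈ A, α y = y) (hb : ∀ y ∈ B, cm α y ∈ A) (hc : ∀ y, cm α y ∈ B) :
    α ∈ chainStab (chain3 A B) (chain3_mono h) := by
  rw [Cfsg.Agent.Lib.Helper84.mem_chainStab]
  have key : ∀ (C : Subgroup E) (x : E), cm α x ∈ C → x⁻¹ * α x ∈ C ∧ x⁻¹ * α⁻¹ x ∈ C := by
    intro C x hx
    refine ⟨hx, ?_⟩
    rw [hα.inv_apply, inv_mul_cancel_left]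
    exact C.inv_mem hx
  intro i x hx
  match i with
  | 0 =>
    apply key
    have : cm α x = 1 := (cm_eq_one_iff _ _).2 (ha x hx)
    rw [this]
    exact Subgroup.one_mem _
  | 1 => exact key _ x (hb x hx)
  | 2 => exact key _ x (hc x)
  | (k + 3) => exact ⟨trivial, trivial⟩

/-- If `v` fixes a nontrivial element of `[E,s]` then `⟨s,v⟩` is a `p`-group. -/
theorem isPGroup_closure_pair [Finite E] (hE : IsPGroup p E) {s v : MulAut E} (hs : IsTv p s)
    (hv : IsTv p v) {x : E} (hx : x ∈ (cm s).range) (hx1 : x ≠ 1) (hvx : v x = x) :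
    IsPGroup p (Subgroup.closure {s, v}) := by
  have hfix : ∀ y ∈ (cm s).range, v y = y := by
    intro y hy
    obtain ⟨k, rfl⟩ := hs.exists_pow_eq hx hx1 hy
    rw [map_pow, hvx]
  have hle : (cm s).range ≤ (cm s).range ⊔ (cm v).range := le_sup_left
  have hP := isPGroup_chainStab hE (chain3 (cm s).range ((cm s).range ⊔ (cm v).range))
    (chain3_mono hle) rfl 3 rfl
  refine hP.to_le ?_
  rw [Subgroup.closure_le]
  rintro α (rfl | rfl)
  · exact hs.mem_chainStab hle (fun y hy => hs.fix_of_mem hy) (fun y _ => ⟨y, rfl⟩)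
      (fun y => hle ⟨y, rfl⟩)
  · refine hv.mem_chainStab hle hfix (fun y hy => ?_) (fun y => le_sup_right (a := (cm s).range)
      (MonoidHom.mem_range.2 ⟨y, rfl⟩))
    have hker : (cm s).range ⊔ (cm α).range ≤ (cm α).ker := by
      refine sup_le ?_ ?_
      · intro z hz
        exact (cm_eq_one_iff _ _).2 (hfix z hz)
      · intro z hz
        exact (cm_eq_one_iff _ _).2 (hv.fix_of_mem hz)
    have : cm α y = 1 := hker hy
    rw [this]
    exact Subgroup.one_mem _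

/-- Normal form of a pair of transvections generating `SL₂(p)`. -/
structure TvData {E' : Type*} [Group E'] (p : ℕ) (t u : MulAut E') (e₁ e₂ : E')
    (D : Subgroup E') : Prop where
  e1_ne : e₁ ≠ 1
  e2_ne : e₂ ≠ 1
  e1_pow : e₁ ^ p = 1
  e2_pow : e₂ ^ p = 1
  t1 : t e₁ = e₁
  t2 : t e₂ = e₂ * e₁
  u1 : u e₁ = e₁ * e₂
  u2 : u e₂ = e₂
  tD : ∀ d ∈ D, t d = d
  uD : ∀ d ∈ D, u d = d
  span : ∀ x, ∃ i j : ℕ, ∃ d ∈ D, x = e₁ ^ i * e₂ ^ j * d
  indep : ∀ i j : ℕ, ∀ d ∈ D, e₁ ^ i * e₂ ^ j * d = 1 → p ∣ i ∧ p ∣ j ∧ d = 1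

theorem exists_tvData [Finite E] (hE : IsPGroup p E) {t u : MulAut E} (ht : IsTv p t)
    (hu : IsTv p u) (hnp : ¬ IsPGroup p (Subgroup.closure {t, u})) :
    ∃ (k : ℕ) (e₁ e₂ : E), ¬ p ∣ k ∧ e₁ ∈ (cm t).range ∧ e₂ ∈ (cm u).range ∧
      TvData p t (u ^ k) e₁ e₂ ((cm t).ker ⊓ (cm u).ker) := by
  obtain ⟨e₂, he₂, he₂1⟩ := hu.exists_ne_one
  have hte₂ : t e₂ ≠ e₂ := by
    intro h
    apply hnp
    rw [Set.pair_comm]
    exact isPGroup_closure_pair hE hu ht he₂ he₂1 h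
  have he₁ : cm t e₂ ∈ (cm t).range := ⟨e₂, rfl⟩
  have he₁1 : cm t e₂ ≠ 1 := fun h => hte₂ ((cm_eq_one_iff _ _).1 h)
  have hue₁ : u (cm t e₂) ≠ cm t e₂ := fun h => hnp (isPGroup_closure_pair hE ht hu he₁ he₁1 h)
  have hf : cm u (cm t e₂) ∈ (cm u).range := ⟨_, rfl⟩
  have hf1 : cm u (cm t e₂) ≠ 1 := fun h => hue₁ ((cm_eq_one_iff _ _).1 h)
  obtain ⟨k, hk⟩ := hu.exists_pow_eq hf hf1 he₂
  have hpk : ¬ p ∣ k := by
    intro h
    apply he₂1
    rw [← hk]
    exact pow_eq_one_of_dvd (hu.pow_p_of_mem hf) h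
  have hcmt1 : cm t (cm t e₂) = 1 := (cm_eq_one_iff _ _).2 (ht.quad _)
  have hcmu2 : cm u e₂ = 1 := (cm_eq_one_iff _ _).2 (hu.fix_of_mem he₂)
  refine ⟨k, cm t e₂, e₂, hpk, he₁, he₂, ?_⟩
  refine ⟨he₁1, he₂1, ht.pow_p_of_mem he₁, hu.pow_p_of_mem he₂, ht.quad _, apply_eq_mul_cm t e₂,
    ?_, ?_, ?_, ?_, ?_, ?_⟩
  · rw [hu.pow_apply, hk]
  · rw [hu.pow_apply, hcmu2, one_pow, mul_one]
  · intro d hd
    exact (cm_eq_one_iff _ _).1 hd.1
  · intro d hd
    have : cm u d = 1 := hd.2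
    rw [hu.pow_apply, this, one_pow, mul_one]
  · intro x
    obtain ⟨j, hj⟩ := ht.exists_pow_eq he₁ he₁1 (⟨x, rfl⟩ : cm t x ∈ (cm t).range)
    obtain ⟨i, hi⟩ := hu.exists_pow_eq hf hf1
      (⟨x * (e₂ ^ j)⁻¹, rfl⟩ : cm u (x * (e₂ ^ j)⁻¹) ∈ (cm u).range)
    refine ⟨i, j, x * (e₂ ^ j)⁻¹ * ((cm t e₂) ^ i)⁻¹, ⟨?_, ?_⟩, ?_⟩
    · show cm t _ = 1
      rw [map_mul, map_mul, map_inv, map_inv, map_pow, map_pow, hcmt1, one_pow, inv_one, mul_one,
        hj, mul_inv_cancel]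
    · show cm u _ = 1
      rw [map_mul, map_inv (cm u) (cm t e₂ ^ i), map_pow, hi, mul_inv_cancel]
    · rw [mul_comm (cm t e₂ ^ i) (e₂ ^ j), mul_assoc, mul_comm (x * (e₂ ^ j)⁻¹), 
        mul_inv_cancel_left, mul_comm x, mul_inv_cancel_left]
  · intro i j d hd h
    have hdt : cm t d = 1 := hd.1
    have hdu : cm u d = 1 := hd.2
    have h1 := congrArg (cm t) h
    rw [map_mul, map_mul, map_pow, map_pow, hcmt1, one_pow, one_mul, hdt, mul_one, map_one] at h1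
    have hj : p ∣ j := dvd_of_pow_eq_one hp.out (ht.pow_p_of_mem he₁) he₁1 h1
    have h2 := congrArg (cm u) h
    rw [map_mul, map_mul, map_pow, map_pow, hcmu2, one_pow, mul_one, hdu, mul_one, map_one] at h2
    have hi : p ∣ i := dvd_of_pow_eq_one hp.out (hu.pow_p_of_mem hf) hf1 h2
    refine ⟨hi, hj, ?_⟩
    rw [pow_eq_one_of_dvd (ht.pow_p_of_mem he₁) hi, pow_eq_one_of_dvd (hu.pow_p_of_mem he₂) hj,
      one_mul, one_mul] at h
    exact h

end pair

end Cfsg.Agent.Lib.Helper87
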