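import Cfsg.Agent.Lib.Helper87.Transv

set_option autoImplicit false

/-! Consequences of the normal form `TvData` of a pair of transvections (helper87). -/

namespace Cfsg.Agent.Lib.Helper87

open Cfsg.Agent.Lib.Helper84 Cfsg.Agent.Lib.Helper88

variable {E : Type*} [CommGroup E]

theorem exists_neg_inv {p : ℕ} (hp : p.Prime) {l : ℕ} (hl : ¬ p ∣ l) : ∃ m : ℕ, p ∣ m * l + 1 := by
  have hc : Nat.Coprime l p := ((Nat.Prime.coprime_iff_not_dvd hp).2 hl).symm
  obtain ⟨a, -, ha⟩ := Nat.exists_mul_mod_eq_one_of_coprime hc hp.one_lt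
  refine ⟨(p - 1) * a, ?_⟩
  have h1 : l * a ≡ 1 [MOD p] := by
    show l * a % p = 1 % p
    rw [ha, Nat.mod_eq_of_lt hp.one_lt]
  have h2 : (p - 1) * a * l + 1 ≡ (p - 1) * 1 + 1 [MOD p] := by
    apply Nat.ModEq.add_right
    rw [mul_assoc, mul_comm a l]
    exact h1.mul_left _
  have h3 : (p - 1) * 1 + 1 = p := by
    have := hp.one_lt
    omega
  rw [h3] at h2
  exact (Nat.modEq_zero_iff_dvd.1 (h2.trans (by simp [Nat.ModEq])))

namespace TvData

variable {p : ℕ} {t u : MulAut E} {e₁ e₂ : E} {D : Subgroup E}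

theorem t_pow_e2 (h : TvData p t u e₁ e₂ D) (j : ℕ) : (t ^ j) e₂ = e₂ * e₁ ^ j :=
  twist_nc t h.t2 h.t1 j

theorem t_pow_e1 (h : TvData p t u e₁ e₂ D) (j : ℕ) : (t ^ j) e₁ = e₁ := by
  have := twist_nc t (x := e₁) (t := 1) (by rw [mul_one]; exact h.t1) (map_one _) j
  rwa [one_pow, mul_one] at this

theorem u_pow_e1 (h : TvData p t u e₁ e₂ D) (k : ℕ) : (u ^ k) e₁ = e₁ * e₂ ^ k :=
  twist_nc u h.u1 h.u2 k

theorem u_pow_e2 (h : TvData p t u e₁ e₂ D) (j : ℕ) : (u ^ j) e₂ = e₂ := by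
  have := twist_nc u (x := e₂) (t := 1) (by rw [mul_one]; exact h.u2) (map_one _) j
  rwa [one_pow, mul_one] at this

theorem t_pow_act (h : TvData p t u e₁ e₂ D) (j a b : ℕ) :
    (t ^ j) (e₁ ^ a * e₂ ^ b) = e₁ ^ (a + j * b) * e₂ ^ b := by
  rw [map_mul, map_pow, map_pow, h.t_pow_e1, h.t_pow_e2, mul_pow, ← pow_mul, pow_add, mul_assoc,
    mul_comm (e₂ ^ b)]

theorem u_pow_act (h : TvData p t u e₁ e₂ D) (k a b : ℕ) :
    (u ^ k) (e₁ ^ a * e₂ ^ b) = e₁ ^ a * e₂ ^ (b + k * a) := by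
  rw [map_mul, map_pow, map_pow, h.u_pow_e1, h.u_pow_e2, mul_pow, ← pow_mul, pow_add, mul_assoc,
    mul_comm (e₂ ^ b)]

theorem fix_D (h : TvData p t u e₁ e₂ D) {g : MulAut E} (hg : g ∈ Subgroup.closure {t, u}) :
    ∀ d ∈ D, g d = d := by
  induction hg using Subgroup.closure_induction with
  | mem x hx =>
    rcases hx with rfl | rfl
    · exact h.tD
    · exact h.uD
  | one => intro d _; rfl
  | mul a b _ _ ha hb =>
    intro d hd
    rw [MulAut.mul_apply, hb d hd, ha d hd]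
  | inv a _ ha =>
    intro d hd
    apply a.injective
    rw [MulAut.apply_inv_self, ha d hd]

theorem t_mem : t ∈ Subgroup.closure ({t, u} : Set (MulAut E)) :=
  Subgroup.subset_closure (Set.mem_insert _ _)

theorem u_mem : u ∈ Subgroup.closure ({t, u} : Set (MulAut E)) :=
  Subgroup.subset_closure (Set.mem_insert_of_mem _ rfl)

theorem e1_mem (h : TvData p t u e₁ e₂ D) : e₁ ∈ (cm t).range :=
  ⟨e₂, by rw [cm_apply, h.t2, inv_mul_cancel_left]⟩

/-- The torus element `diag(l, l⁻¹)`. -/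
theorem torus [hp : Fact p.Prime] (h : TvData p t u e₁ e₂ D) {l : ℕ} (hl : ¬ p ∣ l) :
    ∃ τ ∈ Subgroup.closure {t, u}, ∃ c μ : ℕ, l * μ ≡ 1 [MOD p] ∧
      ∀ a b : ℕ, τ (e₁ ^ a * e₂ ^ b) = e₁ ^ (l * a + c * b) * e₂ ^ (μ * b) := by
  obtain ⟨j, rfl⟩ : ∃ j, l = j + 1 := by
    refine ⟨l - 1, ?_⟩
    have : l ≠ 0 := by
      rintro rfl
      exact hl (dvd_zero p)
    omega
  obtain ⟨m, hm⟩ := exists_neg_inv hp.out hl
  refine ⟨u ^ m * t ^ j * u ^ 1, ?_, j, 1 + m * j, ?_, ?_⟩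
  · exact Subgroup.mul_mem _ (Subgroup.mul_mem _ (Subgroup.pow_mem _ u_mem _)
      (Subgroup.pow_mem _ t_mem _)) (Subgroup.pow_mem _ u_mem _)
  · -- (j+1) * (1 + m j) = (j + 1) + (m (j+1)) j ≡ (j+1) + (p-1) j ...
    have h1 : (j + 1) * (1 + m * j) + j = 1 + (m * (j + 1) + 1) * j + j := by ring
    have h2 : 1 + (m * (j + 1) + 1) * j + j ≡ 1 + 0 * j + j [MOD p] := by
      apply Nat.ModEq.add_right
      apply Nat.ModEq.add_left
      apply Nat.ModEq.mul_right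
      exact (Nat.modEq_zero_iff_dvd.2 hm)
    rw [← h1] at h2
    have h3 : (j + 1) * (1 + m * j) + j ≡ 1 + j [MOD p] := by simpa using h2
    exact Nat.ModEq.add_right_cancel' j h3
  · intro a b
    rw [MulAut.mul_apply, MulAut.mul_apply, h.u_pow_act, h.t_pow_act, h.u_pow_act]
    congr 1
    · congr 1
      ring
    · apply pow_eq_of_modEq h.e2_pow
      have h1 : b + 1 * a + m * (a + j * (b + 1 * a)) = (1 + m * j) * b + (m * (j + 1) + 1) * a := by
        ring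
      rw [h1]
      have h2 : (1 + m * j) * b + (m * (j + 1) + 1) * a ≡ (1 + m * j) * b + 0 * a [MOD p] := by
        apply Nat.ModEq.add_left
        apply Nat.ModEq.mul_right
        exact (Nat.modEq_zero_iff_dvd.2 hm)
      simpa using h2

/-- `⟨t,u⟩` is transitive on the nonidentity elements of `W = ⟨e₁,e₂⟩`. -/
theorem trans [hp : Fact p.Prime] (h : TvData p t u e₁ e₂ D) {i j : ℕ} (hij : ¬ (p ∣ i ∧ p ∣ j)) :
    ∃ g ∈ Subgroup.closure {t, u}, g e₁ = e₁ ^ i * e₂ ^ j := by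
  by_cases hj : p ∣ j
  · have hi : ¬ p ∣ i := fun hi => hij ⟨hi, hj⟩
    obtain ⟨τ, hτ, c, μ, -, hact⟩ := h.torus hi
    refine ⟨τ, hτ, ?_⟩
    have := hact 1 0
    rw [pow_one, pow_zero, mul_one, mul_one, mul_zero, mul_zero, add_zero, pow_zero, mul_one] at this
    rw [this, pow_eq_one_of_dvd h.e2_pow hj, mul_one]
  · obtain ⟨m, hm⟩ := exists_neg_inv hp.out hj
    -- want 1 + k j ≡ i ; take k = m * (1 + (p-1) * i)
    refine ⟨t ^ (m * (1 + (p - 1) * i)) * u ^ j, Subgroup.mul_mem _ (Subgroup.pow_mem _ t_mem _)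
      (Subgroup.pow_mem _ u_mem _), ?_⟩
    have h0 : e₁ = e₁ ^ 1 * e₂ ^ 0 := by rw [pow_one, pow_zero, mul_one]
    conv_lhs => rw [h0]
    rw [MulAut.mul_apply, h.u_pow_act, h.t_pow_act]
    congr 1
    · apply pow_eq_of_modEq h.e1_pow
      have hp1 : 1 ≤ p := hp.out.one_lt.le
      obtain ⟨q, rfl⟩ : ∃ q, p = q + 1 := ⟨p - 1, by omega⟩
      have h1 : 1 + m * (1 + (q + 1 - 1) * i) * (0 + j * 1) + (q + 1) * i =
          i + (m * j + 1) * (1 + q * i) := by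
        simp only [Nat.add_sub_cancel]
        ring
      have h2 : i + (m * j + 1) * (1 + q * i) ≡ i + 0 * (1 + q * i) [MOD (q + 1)] := by
        apply Nat.ModEq.add_left
        apply Nat.ModEq.mul_right
        exact (Nat.modEq_zero_iff_dvd.2 hm)
      rw [← h1] at h2
      have h3 : 1 + m * (1 + (q + 1 - 1) * i) * (0 + j * 1) + (q + 1) * i ≡
          1 + m * (1 + (q + 1 - 1) * i) * (0 + j * 1) + 0 * i [MOD (q + 1)] := by
        apply Nat.ModEq.add_left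
        apply Nat.ModEq.mul_right
        exact (Nat.modEq_zero_iff_dvd.2 dvd_rfl)
      have h4 := h3.symm.trans h2
      simpa using h4
    · congr 1
      ring

end TvData

end Cfsg.Agent.Lib.Helper87
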