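import Cfsg.Agent.Lib.Helper87.Transv2

set_option autoImplicit false

/-! The subgroup generated by a pair of transvections inside a group `G` of automorphisms in which
two transvections generating a `p`-group generate the same cyclic group (helper87). -/

namespace Cfsg.Agent.Lib.Helper87

open Cfsg.Agent.Lib.Helper84 Cfsg.Agent.Lib.Helper88

variable {E : Type*} [CommGroup E]

namespace TvData

variable {p : ℕ} {t u : MulAut E} {e₁ e₂ : E} {D : Subgroup E}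

theorem e2_mem (h : TvData p t u e₁ e₂ D) : e₂ ∈ (cm u).range :=
  ⟨e₁, by rw [cm_apply, h.u1, inv_mul_cancel_left]⟩

theorem torus_conj (h : TvData p t u e₁ e₂ D) {l c μ : ℕ} {τ : MulAut E}
    (hlμ : l * μ ≡ 1 [MOD p])
    (hact : ∀ a b : ℕ, τ (e₁ ^ a * e₂ ^ b) = e₁ ^ (l * a + c * b) * e₂ ^ (μ * b))
    (hD : ∀ d ∈ D, τ d = d) : τ * t = t ^ (l * l) * τ := by
  ext x
  obtain ⟨i, j, d, hd, rfl⟩ := h.span x
  have ht1 := h.t_pow_act 1 i j
  rw [pow_one] at ht1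
  have htd : (t ^ (l * l)) d = d := h.fix_D (Subgroup.pow_mem _ t_mem _) d hd
  rw [MulAut.mul_apply, MulAut.mul_apply, map_mul t, map_mul τ, map_mul τ, map_mul (t ^ (l * l)),
    h.tD d hd, hD d hd, hact, ht1, hact, h.t_pow_act, htd]
  congr 2
  apply pow_eq_of_modEq h.e1_pow
  have h1 : l * i + c * j + l * l * (μ * j) = l * i + c * j + (l * μ) * (l * j) := by ring
  have h2 : l * (i + 1 * j) + c * j = l * i + c * j + 1 * (l * j) := by ring
  rw [h1, h2]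
  exact Nat.ModEq.add_left _ (Nat.ModEq.mul_right _ hlμ.symm)

theorem mem_D_iff [hp : Fact p.Prime] (h : TvData p t u e₁ e₂ D) (x : E) :
    x ∈ D ↔ t x = x ∧ u x = x := by
  constructor
  · intro hx
    exact ⟨h.tD x hx, h.uD x hx⟩
  · rintro ⟨h1, h2⟩
    obtain ⟨i, j, d, hd, rfl⟩ := h.span x
    have ht1 := h.t_pow_act 1 i j
    have hu1 := h.u_pow_act 1 i j
    rw [pow_one] at ht1 hu1
    rw [map_mul, h.tD d hd, ht1] at h1
    rw [map_mul, h.uD d hd, hu1] at h2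
    have h3 : e₁ ^ (i + 1 * j) = e₁ ^ i := mul_right_cancel (mul_right_cancel h1)
    have h4 : e₂ ^ (j + 1 * i) = e₂ ^ j := mul_left_cancel (mul_right_cancel h2)
    rw [pow_add] at h3 h4
    have h5 : e₁ ^ (1 * j) = 1 := by
      have : e₁ ^ i * e₁ ^ (1 * j) = e₁ ^ i * 1 := by rw [h3, mul_one]
      exact mul_left_cancel this
    have h6 : e₂ ^ (1 * i) = 1 := by
      have : e₂ ^ j * e₂ ^ (1 * i) = e₂ ^ j * 1 := by rw [h4, mul_one]
      exact mul_left_cancel this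
    rw [one_mul] at h5 h6
    have hj := dvd_of_pow_eq_one hp.out h.e1_pow h.e1_ne h5
    have hi := dvd_of_pow_eq_one hp.out h.e2_pow h.e2_ne h6
    rw [pow_eq_one_of_dvd h.e1_pow hi, pow_eq_one_of_dvd h.e2_pow hj, one_mul, one_mul]
    exact hd

/-- fixed points of `t`. -/
theorem t_fix_iff [hp : Fact p.Prime] (h : TvData p t u e₁ e₂ D) (x : E) :
    t x = x ↔ ∃ i : ℕ, ∃ d ∈ D, x = e₁ ^ i * d := by
  constructor
  · intro h1
    obtain ⟨i, j, d, hd, rfl⟩ := h.span x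
    have ht1 := h.t_pow_act 1 i j
    rw [pow_one] at ht1
    rw [map_mul, h.tD d hd, ht1] at h1
    have h3 : e₁ ^ (i + 1 * j) = e₁ ^ i := mul_right_cancel (mul_right_cancel h1)
    rw [pow_add] at h3
    have h5 : e₁ ^ (1 * j) = 1 := by
      have : e₁ ^ i * e₁ ^ (1 * j) = e₁ ^ i * 1 := by rw [h3, mul_one]
      exact mul_left_cancel this
    rw [one_mul] at h5
    have hj := dvd_of_pow_eq_one hp.out h.e1_pow h.e1_ne h5
    exact ⟨i, d, hd, by rw [pow_eq_one_of_dvd h.e2_pow hj, mul_one]⟩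
  · rintro ⟨i, d, hd, rfl⟩
    rw [map_mul, map_pow, h.t1, h.tD d hd]

end TvData

/-- `W = ⟨e₁, e₂⟩`. -/
def tvW {E' : Type*} [Group E'] (e₁ e₂ : E') : Subgroup E' :=
  Subgroup.zpowers e₁ ⊔ Subgroup.zpowers e₂

theorem exists_pow_of_mem_zpowers {e y : E} {p : ℕ} (hp : 0 < p) (h : e ^ p = 1)
    (hy : y ∈ Subgroup.zpowers e) : ∃ i : ℕ, y = e ^ i := by
  have hfin : IsOfFinOrder e := isOfFinOrder_iff_pow_eq_one.2 ⟨p, hp, h⟩
  obtain ⟨i, hi⟩ := hfin.mem_powers_iff_mem_zpowers.2 hy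
  exact ⟨i, hi.symm⟩

namespace TvData

variable {p : ℕ} {t u : MulAut E} {e₁ e₂ : E} {D : Subgroup E}

theorem mem_tvW_iff [hp : Fact p.Prime] (h : TvData p t u e₁ e₂ D) (x : E) :
    x ∈ tvW e₁ e₂ ↔ ∃ i j : ℕ, x = e₁ ^ i * e₂ ^ j := by
  constructor
  · intro hx
    obtain ⟨y, hy, z, hz, rfl⟩ := Subgroup.mem_sup.1 hx
    obtain ⟨i, rfl⟩ := exists_pow_of_mem_zpowers hp.out.pos h.e1_pow hy
    obtain ⟨j, rfl⟩ := exists_pow_of_mem_zpowers hp.out.pos h.e2_pow hz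
    exact ⟨i, j, rfl⟩
  · rintro ⟨i, j, rfl⟩
    exact Subgroup.mul_mem _
      ((le_sup_left : Subgroup.zpowers e₁ ≤ tvW e₁ e₂) (Subgroup.pow_mem _ (Subgroup.mem_zpowers _) _))
      ((le_sup_right : Subgroup.zpowers e₂ ≤ tvW e₁ e₂) (Subgroup.pow_mem _ (Subgroup.mem_zpowers _) _))

theorem cm_mul (a b : MulAut E) (x : E) : cm (a * b) x = cm b x * cm a (b x) := by
  simp only [cm_apply, MulAut.mul_apply]
  rw [mul_assoc, mul_inv_cancel_left]

theorem cm_inv (a : MulAut E) (x : E) : cm a⁻¹ x = (cm a (a⁻¹ x))⁻¹ := by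
  simp only [cm_apply, MulAut.apply_inv_self]
  rw [mul_inv, inv_inv, mul_comm]

/-- `⟨t,u⟩` acts trivially on `E / W`. -/
theorem cm_mem_tvW [hp : Fact p.Prime] (h : TvData p t u e₁ e₂ D) {g : MulAut E}
    (hg : g ∈ Subgroup.closure {t, u}) : ∀ x, cm g x ∈ tvW e₁ e₂ := by
  induction hg using Subgroup.closure_induction with
  | mem a ha =>
    intro x
    obtain ⟨i, j, d, hd, rfl⟩ := h.span x
    rcases ha with rfl | rfl
    · have ht1 := h.t_pow_act 1 i j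
      rw [pow_one] at ht1
      rw [cm_apply, map_mul, h.tD d hd, ht1, h.mem_tvW_iff]
      refine ⟨j, 0, ?_⟩
      rw [pow_zero, mul_one, one_mul, pow_add, mul_inv, mul_inv]
      have : (e₁ ^ i)⁻¹ * (e₂ ^ j)⁻¹ * d⁻¹ * (e₁ ^ i * e₁ ^ j * e₂ ^ j * d) =
          ((e₁ ^ i)⁻¹ * e₁ ^ i) * ((e₂ ^ j)⁻¹ * e₂ ^ j) * (d⁻¹ * d) * e₁ ^ j := by
        simp only [mul_comm, mul_left_comm, mul_assoc]
      rw [this]
      simp
    · have hu1 := h.u_pow_act 1 i j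
      rw [pow_one] at hu1
      rw [cm_apply, map_mul, h.uD d hd, hu1, h.mem_tvW_iff]
      refine ⟨0, i, ?_⟩
      rw [pow_zero, one_mul, one_mul, pow_add, mul_inv, mul_inv]
      have : (e₁ ^ i)⁻¹ * (e₂ ^ j)⁻¹ * d⁻¹ * (e₁ ^ i * (e₂ ^ j * e₂ ^ i) * d) =
          ((e₁ ^ i)⁻¹ * e₁ ^ i) * ((e₂ ^ j)⁻¹ * e₂ ^ j) * (d⁻¹ * d) * e₂ ^ i := by
        simp only [mul_comm, mul_left_comm, mul_assoc]
      rw [this]
      simp
  | one =>
    intro x
    rw [cm_apply, MulAut.one_apply, inv_mul_cancel]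
    exact Subgroup.one_mem _
  | mul a b _ _ ha hb =>
    intro x
    rw [cm_mul]
    exact Subgroup.mul_mem _ (hb x) (ha _)
  | inv a _ ha =>
    intro x
    rw [cm_inv]
    exact Subgroup.inv_mem _ (ha _)

/-- A third transvection lies in `⟨t,u⟩`. -/
theorem third [hp : Fact p.Prime] [Finite E] (hE : IsPGroup p E) (h : TvData p t u e₁ e₂ D)
    (ht : IsTv p t) {v : MulAut E} (hv : IsTv p v)
    (hdich : ∀ s ∈ Subgroup.closure {t, u}, IsTv p s → IsPGroup p (Subgroup.closure {s, v}) →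
      v ∈ Subgroup.zpowers s) : v ∈ Subgroup.closure {t, u} := by
  obtain ⟨f, hf, hf1⟩ := hv.exists_ne_one
  obtain ⟨a, ha⟩ := hv.exists_pow_eq hf hf1 (⟨e₁, rfl⟩ : cm v e₁ ∈ (cm v).range)
  obtain ⟨b, hb⟩ := hv.exists_pow_eq hf hf1 (⟨e₂, rfl⟩ : cm v e₂ ∈ (cm v).range)
  have hfp := hv.pow_p_of_mem hf
  obtain ⟨i, j, hij, hfix⟩ : ∃ i j : ℕ, ¬ (p ∣ i ∧ p ∣ j) ∧ v (e₁ ^ i * e₂ ^ j) = e₁ ^ i * e₂ ^ j := by
    by_cases hpa : p ∣ a
    · refine ⟨1, 0, fun hh => hp.out.one_lt.ne' (Nat.dvd_one.1 hh.1), ?_⟩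
      rw [pow_one, pow_zero, mul_one, ← cm_eq_one_iff, ← ha]
      exact pow_eq_one_of_dvd hfp hpa
    · obtain ⟨m, hm⟩ := exists_neg_inv hp.out hpa
      refine ⟨m * b, 1, fun hh => hp.out.one_lt.ne' (Nat.dvd_one.1 hh.2), ?_⟩
      rw [← cm_eq_one_iff, map_mul, map_pow, map_pow, ← ha, ← hb, ← pow_mul, ← pow_mul, ← pow_add]
      apply pow_eq_one_of_dvd hfp
      have : a * (m * b) + b * 1 = (m * a + 1) * b := by ring
      rw [this]
      exact Dvd.dvd.mul_right hm b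
  have hx1 : e₁ ^ i * e₂ ^ j ≠ 1 := by
    intro hh
    have := h.indep i j 1 D.one_mem (by rw [mul_one]; exact hh)
    exact hij ⟨this.1, this.2.1⟩
  obtain ⟨g, hg, hge⟩ := h.trans hij
  have hs : g * t * g⁻¹ ∈ Subgroup.closure {t, u} :=
    Subgroup.mul_mem _ (Subgroup.mul_mem _ hg t_mem) (Subgroup.inv_mem _ hg)
  have hxs : e₁ ^ i * e₂ ^ j ∈ (cm (g * t * g⁻¹)).range := by
    rw [IsTv.range_conj]
    exact ⟨e₁, h.e1_mem, hge⟩
  have hP := isPGroup_closure_pair hE (ht.conj g) hv hxs hx1 hfix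
  have := hdich _ hs (ht.conj g) hP
  exact (Subgroup.zpowers_le.2 hs) this

end TvData

end Cfsg.Agent.Lib.Helper87
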